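import Groth.Agent.Lib.OX.LTensorCx
import Mathlib.Algebra.Homology.BifunctorShift

/-! # Derived tensor products with shifted complexes -/

set_option autoImplicit false
set_option maxHeartbeats 1000000
set_option backward.isDefEq.respectTransparency false
universe u

open CategoryTheory CategoryTheory.Limits AlgebraicGeometry HomologicalComplex

attribute [local instance] HasDerivedCategory.standard

noncomputable section

namespace GrothLib.FMAdj25

open GrothLib.OX

variable {X : Scheme.{u}}

/-- Tensoring with a shifted complex, naturally in the complex. -/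
def shiftNatIso (K : CochainComplex X.Modules ℤ) (y : ℤ) :
    (DCoh.tensorCx (X := X)).flip.obj (K⟦y⟧) ≅
      (DCoh.tensorCx (X := X)).flip.obj K ⋙ shiftFunctor (CochainComplex X.Modules ℤ) y :=
  NatIso.ofComponents (fun L => CochainComplex.mapBifunctorShift₂Iso L K (DCoh.tensorBi (X := X)) y)
    (fun {L L'} φ => by
      refine HomologicalComplex.hom_ext _ _ fun n => mapBifunctor.hom_ext fun p q h => ?_
      change ιMapBifunctor L _ (DCoh.tensorBi (X := X)) (ComplexShape.up ℤ) p q n h ≫
          (mapBifunctorMap φ (𝟙 _) (DCoh.tensorBi (X := X)) (ComplexShape.up ℤ)).f n ≫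
            (CochainComplex.mapBifunctorShift₂Iso L' K (DCoh.tensorBi (X := X)) y).hom.f n =
        ιMapBifunctor L _ (DCoh.tensorBi (X := X)) (ComplexShape.up ℤ) p q n h ≫
          (CochainComplex.mapBifunctorShift₂Iso L K (DCoh.tensorBi (X := X)) y).hom.f n ≫
            ((mapBifunctorMap φ (𝟙 K) (DCoh.tensorBi (X := X)) (ComplexShape.up ℤ))⟦y⟧').f n
      simp [CochainComplex.ι_mapBifunctorShift₂Iso_hom_f _ _ _ _ _ _ _ _ (q + y) (n + y) rfl rfl,
        CochainComplex.ι_mapBifunctorShift₂Iso_hom_f_assoc _ _ _ _ _ _ _ _ (q + y) (n + y) rfl rfl]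
      rfl)

/-- The derived tensor product with a shifted complex. -/
theorem nonempty_ltensorCx_shift (K : CochainComplex X.Modules ℤ) (y : ℤ) [DCoh.HasLTensorCx K]
    [DCoh.HasLTensorCx (K⟦y⟧)] :
    Nonempty (DCoh.LTensorCx (K⟦y⟧) ≅ DCoh.LTensorCx K ⋙ shiftFunctor (DCoh.D X) y) := by
  let α := (DCoh.tensorCxQ K).totalLeftDerivedCounit DerivedCategory.Q
    (HomologicalComplex.quasiIso X.Modules (ComplexShape.up ℤ))
  let e : DCoh.tensorCxQ K ⋙ shiftFunctor (DCoh.D X) y ≅ DCoh.tensorCxQ (K⟦y⟧) :=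
    Functor.associator _ _ _ ≪≫ Functor.isoWhiskerLeft _ ((DerivedCategory.Q (C := X.Modules)).commShiftIso y).symm ≪≫
      (Functor.associator _ _ _).symm ≪≫ Functor.isoWhiskerRight (shiftNatIso K y).symm _
  let β : DerivedCategory.Q ⋙ DCoh.LTensorCx K ⋙ shiftFunctor (DCoh.D X) y ⟶ DCoh.tensorCxQ (K⟦y⟧) :=
    (Functor.associator _ _ _).inv ≫ Functor.whiskerRight α _ ≫ e.hom
  haveI : (DCoh.LTensorCx K ⋙ shiftFunctor (DCoh.D X) y).IsLeftDerivedFunctor β
      (HomologicalComplex.quasiIso X.Modules (ComplexShape.up ℤ)) :=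
    (cxResolvable_tensor (K⟦y⟧)).isLeftDerivedFunctor _ β fun A hA => by
      have := (cxResolvable_tensor K).isIso_app_of_isLeftDerivedFunctor _ α hA
      simp only [β, NatTrans.comp_app, Functor.whiskerRight_app, Functor.associator_inv_app, Category.id_comp]
      infer_instance
  exact ⟨Functor.leftDerivedUnique _ _ ((DCoh.tensorCxQ (K⟦y⟧)).totalLeftDerivedCounit DerivedCategory.Q
    (HomologicalComplex.quasiIso X.Modules (ComplexShape.up ℤ))) β
    (HomologicalComplex.quasiIso X.Modules (ComplexShape.up ℤ))⟩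

end GrothLib.FMAdj25
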