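import Groth.Agent.Lib.HomBC22.ShriekBC
import Groth.Agent.Lib.ShriekBridge22.Gorenstein
import Groth.Agent.Lib.RightAdj22.Finite
import Groth.Agent.Lib.RightAdj20.DualNat
import Groth.Agent.Lib.FMAdj25.Shift
import Groth.Agent.Lib.Dual22.TensorShift
import Groth.Agent.Lib.OX.LocalLift
import Groth.Agent.Lib.GorMor23.BaseChange
import Groth.Agent.Lib.QCoh.Abelian

/-! # The relative dualizing complex of a Gorenstein morphism -/

set_option autoImplicit false
set_option maxHeartbeats 1000000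
set_option linter.style.haveILetI false
set_option backward.isDefEq.respectTransparency false
universe u

open CategoryTheory CategoryTheory.Limits CategoryTheory.Pretriangulated AlgebraicGeometry HomologicalComplex Opposite
open DerivedCategory (Q)

attribute [local instance] HasDerivedCategory.standard

noncomputable section

namespace GrothLib.FMAdj25

open GrothLib.OX

variable {X Y X' Y' : Scheme.{u}}

/-- Endomorphisms of the structure sheaf commute. -/
theorem end_structure_comm (a b : Coh.structureModule X ⟶ Coh.structureModule X) : a ≫ b = b ≫ a := by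
  refine hom_ext_top _ _ ?_
  let R := X.ringCatSheaf.obj.obj (op ⊤)
  let v : (Coh.structureModule X ⟶ Coh.structureModule X) → R → R := fun c r => c.val.app (op ⊤) r
  have h : ∀ (c : Coh.structureModule X ⟶ Coh.structureModule X) (r : R), v c r = r * v c 1 := fun c r => by
    have e := (c.val.app (op ⊤)).hom.map_smul r (1 : X.ringCatSheaf.obj.obj (op ⊤))
    refine Eq.trans ?_ e
    exact congrArg (v c) (mul_one r).symm
  show v b (v a 1) = v a (v b 1)
  rw [h b, h a (v b 1)]
  exact mul_comm (G := Γ(X, ⊤)) _ _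

/-- Objects locally isomorphic to a shift of the structure sheaf. -/
def LocUnit (W : DCoh.D X) : Prop :=
  ∀ x : X, ∃ (U : Scheme.{u}) (j : U ⟶ X) (_ : IsOpenImmersion j) (m : ℤ), x ∈ Set.range j ∧
    Nonempty ((resD j).obj W ≅ (DCoh.inD U (Coh.structureModule U))⟦m⟧)

theorem LocUnit.of_iso {W W' : DCoh.D X} (h : LocUnit W) (e : W ≅ W') : LocUnit W' := fun x => by
  obtain ⟨U, j, _, m, hx, ⟨i⟩⟩ := h x
  exact ⟨U, j, inferInstance, m, hx, ⟨(resD j).mapIso e.symm ≪≫ i⟩⟩

theorem LocUnit.isPerfect {W : DCoh.D X} (h : LocUnit W) : DCoh.IsPerfect W := isPerfect_of_local fun x => by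
  obtain ⟨U, j, _, m, hx, ⟨i⟩⟩ := h x
  exact ⟨U, j, inferInstance, hx, isPerfect_of_iso (isPerfect_shift (isPerfect_unit U) m) i.symm⟩

/-- A locally free rank one object is self dual. -/
theorem LocUnit.nonempty_rhom_self {W₁ : CochainComplex X.Modules ℤ} (hW₁ : DCoh.IsKFlat W₁)
    [DCoh.HasLTensorCx W₁] [DCoh.HasRSheafHom W₁] (h : LocUnit (Q.obj W₁)) :
    Nonempty ((DCoh.RSheafHom W₁).obj (Q.obj W₁) ≅ DCoh.inD X (Coh.structureModule X)) := by
  let O := DCoh.inD X (Coh.structureModule X)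
  let adj := DCoh.RSheafHomAdj W₁
  let L := (DCoh.RSheafHom W₁).obj O
  have key : ∀ x : X, ∃ (U : Scheme.{u}) (j : U ⟶ X) (_ : IsOpenImmersion j), x ∈ Set.range j ∧
      IsIso ((resD j).map (adj.counit.app O)) := by
    intro x
    obtain ⟨U, j, _, m, hx, ⟨i⟩⟩ := h x
    refine ⟨U, j, inferInstance, hx, ?_⟩
    let E := (resCx j).obj W₁
    haveI := OX.hasLTensorCx E
    haveI := OX.hasRSheafHom E
    haveI := OX.hasLTensorCx (unitCx U)
    haveI := OX.hasLTensorCx ((unitCx U)⟦m⟧)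
    let e : Q.obj E ≅ Q.obj ((unitCx U)⟦m⟧) := ((resDFac j).app W₁).symm ≪≫ i ≪≫
      (shiftFunctor (DCoh.D U) m).mapIso (unitCxQIso U).symm ≪≫
      (((DerivedCategory.Q (C := U.Modules)).commShiftIso m).app (unitCx U)).symm
    obtain ⟨c⟩ := nonempty_ltensorCx_congr_of_iso e
    obtain ⟨s⟩ := nonempty_ltensorCx_shift (unitCx U) m
    obtain ⟨u⟩ := RightAdj22.nonempty_LTensorCx_unit (X := U)
    haveI : (DCoh.LTensorCx E).IsEquivalence := Functor.isEquivalence_of_iso
      (c ≪≫ s ≪≫ Functor.isoWhiskerRight u _ ≪≫ Functor.leftUnitor _).symm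
    haveI : IsIso ((DCoh.RSheafHomAdj E).counit.app ((resD j).obj O)) := inferInstance
    obtain ⟨β⟩ := nonempty_resD_RSheafHom (j := j) (K := W₁)
    obtain ⟨α⟩ := Dual22.nonempty_resD_ltensorCx j W₁ L
    let eO : (resD j).obj O ≅ DCoh.inD U (Coh.structureModule U) :=
      ((Scheme.Modules.restrictFunctor j).mapDerivedCategorySingleFunctor 0).app _ ≪≫
        (DerivedCategory.singleFunctor U.Modules 0).mapIso
          ((Scheme.Modules.restrictFunctorIsoPullback j).app _ ≪≫ pullUnitIso j)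
    have hcomm : ∀ a b : (resD j).obj O ⟶ (resD j).obj O, a ≫ b = b ≫ a := by
      intro a b
      obtain ⟨a', ha⟩ := (DerivedCategory.singleFunctor U.Modules 0).map_surjective (eO.inv ≫ a ≫ eO.hom)
      obtain ⟨b', hb⟩ := (DerivedCategory.singleFunctor U.Modules 0).map_surjective (eO.inv ≫ b ≫ eO.hom)
      have h := congrArg (DerivedCategory.singleFunctor U.Modules 0).map (end_structure_comm a' b')
      rw [Functor.map_comp, Functor.map_comp, ha, hb] at h
      simpa using h
    let G := DCoh.RSheafHom E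
    let γ : (resD j).obj ((DCoh.LTensorCx W₁).obj L) ≅ (resD j).obj O :=
      α ≪≫ (DCoh.LTensorCx E).mapIso (β.app O) ≪≫ asIso ((DCoh.RSheafHomAdj E).counit.app ((resD j).obj O))
    let f : (resD j).obj O ⟶ (resD j).obj O := γ.inv ≫ (resD j).map (adj.counit.app O)
    let hf : G.obj ((resD j).obj O) ⟶ G.obj ((resD j).obj O) :=
      β.inv.app O ≫ (resD j).map (adj.unit.app L) ≫ β.hom.app _ ≫ G.map γ.hom
    have hh : hf ≫ G.map f = 𝟙 _ := by
      have hn : β.hom.app ((DCoh.LTensorCx W₁).obj L) ≫ G.map ((resD j).map (adj.counit.app O)) =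
          (resD j).map ((DCoh.RSheafHom W₁).map (adj.counit.app O)) ≫ β.hom.app O :=
        (β.hom.naturality (adj.counit.app O)).symm
      simp only [hf, f, Category.assoc, Functor.map_comp]
      rw [← G.map_comp_assoc, γ.hom_inv_id, G.map_id, Category.id_comp, hn, ← Functor.map_comp_assoc]
      erw [adj.right_triangle_components O]
      rw [(resD j).map_id]
      erw [Category.id_comp]
      exact β.inv_hom_id_app O
    haveI := Dual22.isIso_of_split_epi_map (DCoh.RSheafHomAdj E) hcomm f hf hh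
    exact IsIso.of_isIso_comp_left γ.inv _
  haveI : IsIso (adj.counit.app O) := TorBC25.isIso_of_local_resD _ key
  haveI := OX.hasLTensorCx (unitCx X)
  obtain ⟨D, hD, ⟨eD⟩⟩ := exists_kflat_rep L
  haveI := OX.hasLTensorCx D
  obtain ⟨τ⟩ := RightAdj20.nonempty_ltensor_dual_natIso W₁ D hW₁ h.isPerfect eD
  obtain ⟨sy⟩ := KSix19.nonempty_ltensor_symm (K₁ := D) (K₂ := W₁) (Iso.refl _) (Iso.refl _)
  exact ⟨(τ.app _).symm ≪≫ sy.symm ≪≫ (DCoh.LTensorCx W₁).mapIso eD ≪≫ asIso (adj.counit.app O)⟩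

/-- Gorenstein morphisms are stable under base change of finite type. -/
theorem isGorensteinMor_baseChange {f : X ⟶ Y} {g : Y' ⟶ Y} {f' : X' ⟶ Y'} {g' : X' ⟶ X}
    (hsq : IsPullback g' f' f g) [LocallyOfFiniteType f] [LocallyOfFiniteType g] (hf : Dual3.IsGorensteinMor f) :
    Dual3.IsGorensteinMor f' := fun x => by
  have hfib : ∀ y, IsLocallyNoetherian (f.fiber y) := fun y =>
    haveI : LocallyOfFiniteType (f.fiberToSpecResidueField y) :=
      inferInstanceAs (LocallyOfFiniteType (pullback.snd f (Y.fromSpecResidueField y)))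
    LocallyOfFiniteType.isLocallyNoetherian (f.fiberToSpecResidueField y)
  have h := (GorMor23.isGorensteinAt_iff f _).1 (hf (g' x))
  exact (GorMor23.isGorensteinAt_iff f' x).2
    ⟨CMMor6.flat_stalkMap_baseChange hsq x h.1, (GorMor23.isGorensteinAt_baseChange_iff hfib hsq x).2 h.2⟩

/-- The relative dualizing complex of a proper flat Gorenstein morphism is locally a shifted structure sheaf. -/
theorem locUnit_dualizingCx (f : X ⟶ Y) [AlgebraicGeometry.IsNoetherian Y] [IsProper f] [Flat f]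
    (hG : Dual3.IsGorensteinMor f) [DCoh.HasRpush f] (hf : DCoh.RpushPreservesQCoh f) [DCoh.HasShriek f hf]
    (O : DCoh.DQCoh Y) (eO : O.obj ≅ DCoh.inD Y (Coh.structureModule Y)) :
    LocUnit (DCoh.dualizingCx f hf O) := fun x => by
  let c : DEt.Compactification f := ⟨X, 𝟙 X, f, inferInstance, inferInstance, Category.id_comp f⟩
  haveI : DCoh.HasRpush c.fbar := ‹DCoh.HasRpush f›
  obtain ⟨W, g, _, m, hx, ⟨e⟩⟩ := (ShriekBridge22.isGorensteinAt_iff_exists_chart f c hf
    (DCoh.shriekAdj f hf) O ⟨eO⟩ x).1 (hG x)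
  exact ⟨W, g, inferInstance, m, hx, ⟨(resD g).mapIso ((RightAdj22.resDIdIso X).app _).symm ≪≫ e⟩⟩

/-- Flat base change of the relative dualizing complex. -/
theorem nonempty_dualizingCx_bc [AlgebraicGeometry.IsNoetherian Y] [AlgebraicGeometry.IsNoetherian Y'] {f : X ⟶ Y}
    {g : Y' ⟶ Y} {f' : X' ⟶ Y'} {g' : X' ⟶ X} (hsq : IsPullback g' f' f g) [IsProper f] [IsProper f'] [Flat g]
    [DCoh.HasRpush f] (hf : DCoh.RpushPreservesQCoh f) [DCoh.HasShriek f hf]
    [DCoh.HasRpush f'] (hf' : DCoh.RpushPreservesQCoh f') [DCoh.HasShriek f' hf'] [DCoh.HasLpull g']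
    (O : DCoh.DQCoh Y) (eO : O.obj ≅ DCoh.inD Y (Coh.structureModule Y))
    (O' : DCoh.DQCoh Y') (eO' : O'.obj ≅ DCoh.inD Y' (Coh.structureModule Y')) :
    Nonempty ((DCoh.Lpull g').obj (DCoh.dualizingCx f hf O) ≅ DCoh.dualizingCx f' hf' O') := by
  haveI := OX.hasLpull g
  let c : DEt.Compactification f := ⟨X, 𝟙 X, f, inferInstance, inferInstance, Category.id_comp f⟩
  let c' : DEt.Compactification f' := ⟨X', 𝟙 X', f', inferInstance, inferInstance, Category.id_comp f'⟩
  haveI : DCoh.HasRpush c.fbar := ‹DCoh.HasRpush f›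
  haveI : DCoh.HasRpush c'.fbar := ‹DCoh.HasRpush f'›
  have hLg : Dual3.LpullPreservesQCoh g := fun _ hK => TorBC25.isQCohD_lpull g hK
  obtain ⟨i⟩ := HomBC22.nonempty_shriekC_bc hsq c c' hf hf' (DCoh.shriekAdj f hf) (DCoh.shriekAdj f' hf') hLg
  haveI : O.obj.IsGE 0 := DerivedCategory.TStructure.t.isGE_of_iso eO.symm 0
  let OB : (Dual3.IsBddBelowQ Y).FullSubcategory := ⟨O, 0, inferInstance⟩
  obtain ⟨l⟩ := TorBC25.nonempty_lpull_structure g
  let eL : (Dual3.LpullQ g hLg).obj O ≅ O' :=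
    (DCoh.IsQCohD (X := Y')).isoMk ((DCoh.Lpull g).mapIso eO ≪≫ l ≪≫ eO'.symm)
  exact ⟨(DCoh.Lpull g').mapIso ((RightAdj22.resDIdIso X).app _).symm ≪≫ i.app OB ≪≫
    (Dual3.shriekC c' (DCoh.shriek f' hf')).mapIso eL ≪≫ (RightAdj22.resDIdIso X').app _⟩

end GrothLib.FMAdj25
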