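import Groth.Agent.Lib.FMAdj25.KilledTensor
import Groth.Agent.Lib.GorFlat.Affine
import Groth.Agent.Lib.Gor.Unmixed
import Groth.Agent.Lib.FinAff13.Poles
import Groth.Agent.Lib.RelProjK.Local
import Groth.Agent.Lib.BlowUp.EffCartier
import Groth.Agent.Lib.GrowthBd20.Field
import Groth.Agent.Lib.K0Sub.Killed

/-! # The residual ideal on a linked subscheme -/

set_option autoImplicit false
set_option maxHeartbeats 1000000
set_option linter.style.haveILetI false
set_option backward.isDefEq.respectTransparency false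
universe u

open CategoryTheory CategoryTheory.Limits AlgebraicGeometry Opposite

noncomputable section

namespace GrothLib.FMAdj25

open GrothLib.InvExt (mres fres)

section Tensor

variable {X Z : Scheme.{u}} (f : Z ⟶ X) [IsClosedImmersion f]

/-- Pullback of a twist of a killed module. -/
theorem nonempty_pullback_tensor_of_killed {M L : X.Modules} (hM : ClSub.KilledByIdeal f.ker M)
    (hL : PicF.IsInvertible L) :
    Nonempty ((Scheme.Modules.pullback f).obj (CohB1.tensorMod M L) ≅
      CohB1.tensorMod ((Scheme.Modules.pullback f).obj M) ((Scheme.Modules.pullback f).obj L)) := by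
  haveI := ClosedPush22.isIso_unit_of_killed f M hM
  obtain ⟨p⟩ := Regularity.nonempty_push_tensor f (Euler.isFinLocFree_of_isInvertible hL)
    ((Scheme.Modules.pullback f).obj M) (Iso.refl _)
  haveI := isIso_counit_closed f
    (CohB1.tensorMod ((Scheme.Modules.pullback f).obj M) ((Scheme.Modules.pullback f).obj L))
  exact ⟨(Scheme.Modules.pullback f).mapIso (PicGrp.tensorModIso
      (asIso ((Scheme.Modules.pullbackPushforwardAdjunction f).unit.app M)) (Iso.refl L) ≪≫ p.symm) ≪≫
    asIso ((Scheme.Modules.pullbackPushforwardAdjunction f).counit.app _)⟩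

/-- A module with an invertible twist is invertible. -/
theorem isInvertible_of_tensor {M L : X.Modules} (hL : PicF.IsInvertible L)
    (hML : PicF.IsInvertible (CohB1.tensorMod M L)) : PicF.IsInvertible M := by
  obtain ⟨L', hL', ⟨e⟩⟩ := ResProp22.exists_inverse hL
  exact RelProjK.isInvertible_of_iso (OX.tensorAssoc M L L' ≪≫ ((DCoh.tensorBi (X := X)).obj M).mapIso e ≪≫
    Euler.tFUnitIso M).symm (Ample.isInvertible_tensorMod hML hL')

end Tensor

variable {X : Scheme.{u}}

/-- Germ of a restriction. -/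
theorem germ_mres (M : X.Modules) {U V : X.Opens} (h : V ≤ U) (m : Γ(M, U)) (x : X) (hx : x ∈ V) :
    M.presheaf.germ V x hx (mres M h m) = M.presheaf.germ U x (h hx) m :=
  TopCat.Presheaf.germ_res_apply _ _ _ _ _

/-- A section of an invertible module with vanishing germs at the generic points of a Gorenstein scheme vanishes. -/
theorem eq_zero_of_generic_germ [IsLocallyNoetherian X]
    (hgor : ∀ x : X, LocCoh.IsGorensteinLocalRing (X.presheaf.stalk x)) {L : X.Modules} (hL : PicF.IsInvertible L)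
    {W : X.Opens} (m : Γ(L, W))
    (h : ∀ (η : X) (hη : η ∈ W), η ∈ genericPoints (X : Type u) → L.presheaf.germ W η hη m = 0) : m = 0 := by
  refine TopCat.Presheaf.section_ext ⟨L.presheaf, L.isSheaf⟩ W _ _ fun x hx => ?_
  rw [map_zero]
  obtain ⟨V₀, e₀, hxV₀, he₀⟩ := InvExt.exists_gen_nhd hL x
  obtain ⟨⟨V, hV⟩, hxV, hle⟩ := BlowUp.exists_affine_mem_le (show x ∈ V₀ ⊓ W from ⟨hxV₀, hx⟩)
  have hV0 : V ≤ V₀ := hle.trans inf_le_left
  have hVW : V ≤ W := hle.trans inf_le_right
  have he := he₀.restrict hV0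
  obtain ⟨c, hc⟩ := he.exists_smul_eq le_rfl (mres L hVW m)
  rw [InvExt.mres_self] at hc
  suffices hc0 : c = 0 by
    rw [← germ_mres L hVW m x hxV, hc, hc0, zero_smul, map_zero]
  by_contra hne
  haveI : IsNoetherianRing Γ(X, V) := IsLocallyNoetherian.component_noetherian ⟨V, hV⟩
  haveI := GorFlat.isGorensteinRing_of_stalks hV fun x _ => hgor x
  haveI : LocCoh.IsGorensteinRing (Γ(X, V) ⧸ (⊥ : Ideal Γ(X, V))) :=
    GorFlat.isGorensteinRing_of_ringEquiv (RingEquiv.quotientBot Γ(X, V)).symm inferInstance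
  obtain ⟨P, hP, hle'⟩ := exists_le_isAssociatedPrime_of_isNoetherianRing Γ(X, V)
    (Ideal.Quotient.mk (⊥ : Ideal Γ(X, V)) c) (by
      rw [Ne, Ideal.Quotient.eq_zero_iff_mem, Ideal.mem_bot]; exact hne)
  have hmin := Gor.mem_minimalPrimes_of_mem_associatedPrimes ⊥ hP
  haveI := hP.isPrime
  let η : X := hV.fromSpec ⟨P, inferInstance⟩
  have hηV : η ∈ V := hV.range_fromSpec.le ⟨_, rfl⟩
  have hgen : η ∈ genericPoints (X : Type u) := FinAff13.mem_genericPoints_iff.2 fun y hy => by
    obtain ⟨q, rfl⟩ : y ∈ Set.range hV.fromSpec := hV.range_fromSpec ▸ hy.mem_open V.2 hηV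
    have hle := (PrimeSpectrum.le_iff_specializes _ _).2
      ((hV.fromSpec.isOpenEmbedding.isInducing.specializes_iff).1 hy)
    exact congrArg hV.fromSpec (PrimeSpectrum.ext (le_antisymm hle (hmin.2 ⟨q.isPrime, bot_le⟩ hle)))
  obtain ⟨T, hηT, i₁, i₂, hT⟩ := L.presheaf.germ_eq η (hVW hηV) (hVW hηV) m 0
    ((h η (hVW hηV) hgen).trans (map_zero _).symm)
  obtain ⟨g, hgT, hηg⟩ := hV.exists_basicOpen_le ⟨η, hηT⟩ hηV
  have hgV : X.basicOpen g ≤ V := X.basicOpen_le g
  have hm0 : mres L (hgV.trans hVW) m = 0 := by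
    have := congrArg (mres L hgT) hT
    rw [map_zero] at this
    rw [← InvExt.mres_mres L i₁.le hgT]
    exact this.trans (map_zero _)
  have hc0 : fres X hgV c = 0 := by
    refine he.smul_left_injective hgV ?_
    rw [zero_smul, ← InvExt.mres_smul, ← hc, InvExt.mres_mres]
    exact hm0
  haveI := hV.isLocalization_basicOpen g
  obtain ⟨n, hn⟩ : ∃ n : ℕ, g ^ n * c = 0 := by
    have h1 : algebraMap Γ(X, V) Γ(X, X.basicOpen g) c = 0 := hc0
    obtain ⟨⟨_, n, rfl⟩, hn⟩ := (IsLocalization.map_eq_zero_iff (Submonoid.powers g) _ c).1 h1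
    exact ⟨n, hn⟩
  have hgP : g ∈ P := by
    refine Ideal.IsPrime.mem_of_pow_mem inferInstance n (hle' ?_)
    rw [Submodule.mem_colon_singleton, Submodule.mem_bot]
    show Ideal.Quotient.mk (⊥ : Ideal Γ(X, V)) (g ^ n * c) = 0
    rw [hn, map_zero]
  have hns : (⟨P, inferInstance⟩ : Spec Γ(X, V)) ∈ PrimeSpectrum.basicOpen g := by
    rw [← hV.fromSpec_preimage_basicOpen g]
    exact hηg
  exact hns hgP

variable {Z : Scheme.{u}}

/-- The residual ideal pulls back to the ideal of its inverse image. -/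
theorem nonempty_pullback_residual [IsLocallyNoetherian Z] (IX IW : Z.IdealSheafData)
    (hW : ∀ U : Z.affineOpens, IW.ideal U = (IX.ideal U).annihilator)
    (hgor : ∀ x : IX.subscheme, LocCoh.IsGorensteinLocalRing (IX.subscheme.presheaf.stalk x))
    (hgen : ∀ T (hT : T ∈ irreducibleComponents (IX.subscheme : Type u)),
      Subsingleton ((ClSub.idealMod IX).presheaf.stalk (IX.subschemeι.base hT.1.genericPoint)))
    (hL : PicF.IsInvertible ((Scheme.Modules.pullback IX.subschemeι).obj (ClSub.idealMod IW))) :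
    Nonempty ((Scheme.Modules.pullback IX.subschemeι).obj (ClSub.idealMod IW) ≅
      ClSub.idealMod (IW.comap IX.subschemeι)) := by
  let f := IX.subschemeι
  have hker : f.ker = IX := Scheme.IdealSheafData.ker_subschemeι IX
  haveI : IsLocallyNoetherian IX.subscheme := LocallyOfFiniteType.isLocallyNoetherian f
  let adj := Scheme.Modules.pullbackPushforwardAdjunction f
  let push := Scheme.Modules.pushforward f
  let M := ClSub.idealMod IW
  let L := (Scheme.Modules.pullback f).obj M
  let D := IW.comap f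
  haveI hη : IsIso (adj.unit.app M) := ClosedPush22.isIso_unit_of_killed f M (killed_annihilator f IX IW hker hW)
  let χ : M ⟶ push.obj (Coh.structureModule IX.subscheme) := ClSub.idealModι IW ≫ ClSub.toSubscheme IX
  let j : L ⟶ Coh.structureModule IX.subscheme := (adj.homEquiv _ _).symm χ
  have hj : adj.unit.app M ≫ push.map j = χ := (adj.homEquiv_unit _ _ _).symm.trans ((adj.homEquiv _ _).apply_symm_apply χ)
  have happ : ∀ (U : Z.Opens) (m : Γ(M, U)),
      j.app (f ⁻¹ᵁ U) ((adj.unit.app M).app U m) = f.app U (IdealModSec.val IW U m) := fun U m =>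
    ConcreteCategory.congr_hom (congrArg (fun t => Scheme.Modules.Hom.app t U) hj) m
  have hbij : ∀ U : Z.Opens, Function.Bijective ((adj.unit.app M).app U) := fun U =>
    ConcreteCategory.bijective_of_isIso _
  have hsur : ∀ (U : Z.affineOpens) (x : Γ(IX.subscheme, f ⁻¹ᵁ U.1)),
      x ∈ D.ideal ⟨f ⁻¹ᵁ U.1, U.2.preimage f⟩ ↔ ∃ a ∈ IW.ideal U, f.app U.1 a = x := fun U x => by
    rw [BlowUp.ideal_comap_eq_map IW f U ⟨f ⁻¹ᵁ U.1, U.2.preimage f⟩ le_rfl, Scheme.Hom.appLE_eq_app]
    exact Ideal.mem_map_iff_of_surjective _ (f.app_surjective U.1 U.2)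
  have hinj : ∀ (U : Z.affineOpens) (m : Γ(M, U.1)), f.app U.1 (IdealModSec.val IW U.1 m) = 0 → m = 0 := by
    intro U m hm
    obtain ⟨a, ha⟩ := (IdealModSec.exists_val_eq IX U (a := IdealModSec.val IW U.1 m)
      (by rw [← IX.ker_subschemeι_app U]; exact hm))
    apply (hbij U.1).1
    refine (eq_zero_of_generic_germ hgor hL _ fun η hη hgη => ?_).trans (map_zero _).symm
    haveI : Subsingleton ((ClSub.idealMod IX).presheaf.stalk (f.base η)) := by
      have h0 := hgen _ hgη
      have e : genericPoints.component ⟨η, hgη⟩ = closure {η} := rfl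
      rwa [(IsIrreducible.isGenericPoint_genericPoint hgη.1 isClosed_closure).eq isGenericPoint_closure] at h0
    obtain ⟨T, hT, i₁, i₂, h2⟩ := (ClSub.idealMod IX).presheaf.germ_eq (f.base η) hη hη a 0 (Subsingleton.elim _ _)
    have h3 : mres M i₁.le m = 0 := by
      apply IdealModSec.val_injective IW T
      rw [IdealModSec.val_mres, ← ha, ← IdealModSec.val_mres, IdealModSec.val_zero]
      exact (congrArg (IdealModSec.val IX T) (h2.trans (map_zero _))).trans (IdealModSec.val_zero IX T)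
    rw [← germ_mres L (f.preimage_mono i₁.le) _ η hT]
    refine Eq.trans ?_ (map_zero (L.presheaf.germ (f ⁻¹ᵁ T) η hT).hom)
    refine congrArg (L.presheaf.germ (f ⁻¹ᵁ T) η hT) ?_
    refine (ConcreteCategory.congr_hom ((adj.unit.app M).mapPresheaf.naturality i₁.op) m).symm.trans ?_
    exact (congrArg ((adj.unit.app M).app T) h3).trans (map_zero _)
  have hcov : ⨆ U : Z.affineOpens, f ⁻¹ᵁ U.1 = ⊤ := by
    rw [← Scheme.Hom.preimage_iSup, iSup_affineOpens_eq_top, Scheme.Hom.preimage_top]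
  haveI hLq : L.IsQuasicoherent := (Euler.isCoh_of_isInvertible hL).1
  have hzero : j ≫ ClSub.toSubscheme D = 0 := by
    have hB : TopologicalSpace.Opens.IsBasis (Set.range fun U : Z.affineOpens => f ⁻¹ᵁ U.1) := by
      refine TopologicalSpace.Opens.isBasis_iff_nbhd.2 fun {V x} hx => ?_
      obtain ⟨W, rfl⟩ := K0Sub.exists_preimage f V
      obtain ⟨U, hxU, hUW⟩ := BlowUp.exists_affine_mem_le (show f x ∈ W from hx)
      exact ⟨_, ⟨U, rfl⟩, hxU, f.preimage_mono hUW⟩
    refine AffHom.hom_ext_basis (B := fun U : Z.affineOpens => f ⁻¹ᵁ U.1) hB fun U l => ?_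
    obtain ⟨m, rfl⟩ := (hbij U.1).2 l
    show D.subschemeι.app (f ⁻¹ᵁ U.1) (j.app (f ⁻¹ᵁ U.1) ((adj.unit.app M).app U.1 m)) = 0
    rw [happ]
    have : f.app U.1 (IdealModSec.val IW U.1 m) ∈ D.ideal ⟨f ⁻¹ᵁ U.1, U.2.preimage f⟩ :=
      (hsur U _).2 ⟨_, IdealModSec.val_mem IW U m, rfl⟩
    rwa [← D.ker_subschemeι_app ⟨f ⁻¹ᵁ U.1, U.2.preimage f⟩] at this
  let g : L ⟶ ClSub.idealMod D := kernel.lift _ j hzero
  have hg : ∀ (V : IX.subscheme.Opens) (l : Γ(L, V)), IdealModSec.val D V (g.app V l) = j.app V l := fun V l =>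
    ConcreteCategory.congr_hom (congrArg (fun t => Scheme.Modules.Hom.app t V) (kernel.lift_ι _ j hzero)) l
  haveI := H1Sheaf6.isQuasicoherent_idealMod D
  haveI : IsIso g := by
    refine QCoh.isIso_of_bijective_on_cover g (fun U : Z.affineOpens => f ⁻¹ᵁ U.1) hcov (fun U => U.2.preimage f)
      fun U => ⟨(injective_iff_map_eq_zero _).2 fun l hl => ?_, fun d => ?_⟩
    · obtain ⟨m, rfl⟩ := (hbij U.1).2 l
      have h1 := hg (f ⁻¹ᵁ U.1) ((adj.unit.app M).app U.1 m)
      rw [hl, IdealModSec.val_zero, happ] at h1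
      rw [hinj U m h1.symm]
      exact map_zero _
    · obtain ⟨a, ha, hax⟩ := (hsur U _).1 (IdealModSec.val_mem D ⟨f ⁻¹ᵁ U.1, U.2.preimage f⟩ d)
      obtain ⟨m, rfl⟩ := IdealModSec.exists_val_eq IW U ha
      refine ⟨(adj.unit.app M).app U.1 m, IdealModSec.val_injective D _ ?_⟩
      rw [hg, happ]
      exact hax
  exact ⟨asIso g⟩

end GrothLib.FMAdj25
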