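import Groth.Agent.Lib.FMComp25.Equiv
import Groth.Agent.Lib.RightAdj22.Main
import Groth.Agent.Lib.RightAdj22.Coprod
import Groth.Agent.Lib.RightAdj20.DualNat
import Groth.Agent.Lib.OX.HomQCoh

/-! # Adjoints of Fourier–Mukai transforms on quasi-coherent objects -/

set_option autoImplicit false
set_option maxHeartbeats 2000000
set_option linter.style.haveILetI false
set_option backward.isDefEq.respectTransparency false
universe u

open CategoryTheory CategoryTheory.Limits AlgebraicGeometry HomologicalComplex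
open DerivedCategory (Q Qh)

attribute [local instance] HasDerivedCategory.standard

noncomputable section

namespace GrothLib.FMAdj25

open GrothLib.OX GrothLib.FMId25 GrothLib.FMComp25

/-- An adjunction restricted to full subcategories stable under both functors. -/
def restrictAdj {C D : Type*} [Category C] [Category D] {P : ObjectProperty C} {P' : ObjectProperty D}
    {L : C ⥤ D} {R : D ⥤ C} (adj : L ⊣ R) (hL : ∀ M : P.FullSubcategory, P' ((P.ι ⋙ L).obj M))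
    (hR : ∀ M : P'.FullSubcategory, P ((P'.ι ⋙ R).obj M)) : P'.lift (P.ι ⋙ L) hL ⊣ P.lift (P'.ι ⋙ R) hR :=
  adj.restrictFullyFaithful P.fullyFaithfulι P'.fullyFaithfulι (Iso.refl _) (Iso.refl _)

variable {P X : Scheme.{u}}

theorem rpushPreservesQCoh (p : P ⟶ X) [QuasiCompact p] [QuasiSeparated p] [DCoh.HasRpush p] :
    DCoh.RpushPreservesQCoh p := fun K hK =>
  isQCohD_iso ((rpushIsoRres p).app K).symm (isQCohD_Rres p K hK)

/-- Derived pullback along an isomorphism followed by direct image. -/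
theorem nonempty_lpull_rpush_id (σ : P ⟶ X) [IsIso σ] [DCoh.HasLpull σ] [DCoh.HasRpush σ] :
    Nonempty (DCoh.Lpull σ ⋙ DCoh.Rpush σ ≅ 𝟭 (DCoh.D X)) := by
  haveI := OX.hasLpull (inv σ)
  haveI := OX.hasLpull (inv σ ≫ σ)
  haveI := OX.hasLpull (σ ≫ inv σ)
  haveI := OX.hasLpull (𝟙 X)
  haveI := OX.hasLpull (𝟙 P)
  obtain ⟨i⟩ := nonempty_lpull_id X
  obtain ⟨i'⟩ := nonempty_lpull_id P
  haveI : (DCoh.Lpull σ).IsEquivalence :=
    (CategoryTheory.Equivalence.mk (DCoh.Lpull σ) (DCoh.Lpull (inv σ))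
      ((lpullCompIso (inv σ) σ ≪≫ lpullCongr (IsIso.inv_hom_id σ) ≪≫ i).symm)
      (lpullCompIso σ (inv σ) ≪≫ lpullCongr (IsIso.hom_inv_id σ) ≪≫ i')).isEquivalence_functor
  obtain ⟨adj⟩ := nonempty_lpullAdj σ
  haveI : IsIso adj.unit := inferInstance
  exact ⟨(asIso adj.unit).symm⟩

variable {Y : Scheme.{u}}

/-- The restriction of an integral functor to quasi-coherent objects has a twisted integral functor as right
adjoint. -/
theorem nonempty_fm_adjunction [CompactSpace P] [QuasiSeparatedSpace P] [CompactSpace Y] [QuasiSeparatedSpace Y]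
    (p : P ⟶ X) [QuasiCompact p] [QuasiSeparated p] (q : P ⟶ Y) [IsProper q] [Flat q]
    [LocallyOfFinitePresentation q]
    (K : CochainComplex P.Modules ℤ) (hK : DCoh.IsPerfect (Q.obj K))
    [DCoh.HasLpull p] [DCoh.HasLTensorCx K] [DCoh.HasRpush q] [DCoh.HasRSheafHom K]
    (hR : DCoh.RpushPreservesQCoh q) [DCoh.HasShriek q hR]
    (OY : DCoh.DQCoh Y) (hOY : OY.obj ≅ DCoh.inD Y (Coh.structureModule Y))
    [DCoh.HasLpull q] [DCoh.HasRpush p]
    (G : CochainComplex P.Modules ℤ) [DCoh.HasLTensorCx G]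
    (eG : Q.obj G ≅ (DCoh.RSheafHom K).obj (DCoh.dualizingCx q hR OY))
    (h : ∀ M : (DCoh.IsQCohD (X := X)).FullSubcategory, DCoh.IsQCohD
      (((DCoh.IsQCohD (X := X)).ι ⋙ (DCoh.Lpull p ⋙ DCoh.LTensorCx K ⋙ DCoh.Rpush q)).obj M))
    (h' : ∀ N : (DCoh.IsQCohD (X := Y)).FullSubcategory, DCoh.IsQCohD
      (((DCoh.IsQCohD (X := Y)).ι ⋙ (DCoh.Lpull q ⋙ DCoh.LTensorCx G ⋙ DCoh.Rpush p)).obj N)) :
    Nonempty ((DCoh.IsQCohD (X := Y)).lift _ h ⊣ (DCoh.IsQCohD (X := X)).lift _ h') := by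
  let hp := rpushPreservesQCoh p
  obtain ⟨lp⟩ := nonempty_lpullAdj p
  let a₁ : _ ⊣ DCoh.RpushQ p hp := restrictAdj lp (fun M => SuppTens22.isQCohD_lpull p M.property)
    (fun M => hp M.obj M.property)
  let a₂ := restrictAdj (DCoh.RSheafHomAdj K) (P := DCoh.IsQCohD (X := P)) (P' := DCoh.IsQCohD (X := P))
    (fun M => RightAdj22.isQCohD_ltensor K (isQCohD_of_isPerfect hK) M.property)
    (fun M => isQCohD_RSheafHom_of_perfect K hK M.property)
  let A := (a₁.comp a₂).comp (DCoh.shriekAdj q hR)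
  -- the dual of the kernel and the twisted kernel
  obtain ⟨K₁, hK₁, ⟨eK⟩⟩ := exists_kflat_rep (Q.obj K)
  haveI := OX.hasLTensorCx K₁
  haveI := OX.hasRSheafHom K₁
  obtain ⟨cK⟩ := nonempty_RSheafHom_congr (E := K) (E' := K₁) eK.symm
  obtain ⟨D, hD, ⟨eD⟩⟩ := exists_kflat_rep
    ((DCoh.RSheafHom K₁).obj ((DerivedCategory.singleFunctor P.Modules 0).obj (Coh.structureModule P)))
  haveI := OX.hasLTensorCx D
  obtain ⟨τ⟩ := RightAdj20.nonempty_ltensor_dual_natIso K₁ D hK₁ (isPerfect_of_iso hK eK.symm) eD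
  obtain ⟨E, hE, ⟨eE⟩⟩ := exists_kflat_rep (DCoh.dualizingCx q hR OY)
  haveI := OX.hasLTensorCx E
  let E₁ := ((DCoh.tensorCx (X := P)).obj E).obj D
  haveI := OX.hasLTensorCx E₁
  obtain ⟨vE⟩ := ltensorCx_value D E hE
  obtain ⟨cG⟩ := nonempty_ltensorCx_congr_of_iso (vE.symm ≪≫ τ.app _ ≪≫ cK.symm.app _ ≪≫
    (DCoh.RSheafHom K).mapIso eE ≪≫ eG.symm : Q.obj E₁ ≅ Q.obj G)
  have hcop := RightAdj22.preservesColimitsOfShape (DCoh.shriekAdj q hR) fun M hM =>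
    isPerfect_of_iso (TorBC25.isPerfect_RR q hM) ((rpushIsoRres q).app M.obj).symm
  obtain ⟨s⟩ := RightAdj22.nonempty_iso q hR (DCoh.shriekAdj q hR) hcop OY ⟨hOY⟩ E ⟨eE⟩
  let iX := (DCoh.IsQCohD (X := X)).ι
  let iY := (DCoh.IsQCohD (X := Y)).ι
  let φ : (DCoh.shriek q hR ⋙ (DCoh.IsQCohD (X := P)).ι) ⋙ DCoh.RSheafHom K ⋙ DCoh.Rpush p ≅
      iY ⋙ (DCoh.Lpull q ⋙ DCoh.LTensorCx G ⋙ DCoh.Rpush p) :=
    Functor.isoWhiskerRight s _ ≪≫
      (Functor.isoWhiskerLeft (iY ⋙ DCoh.Lpull q) (Functor.isoWhiskerRight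
        (Functor.isoWhiskerLeft (DCoh.LTensorCx E) (cK ≪≫ τ.symm) ≪≫ ltensorCompIso E D hD ≪≫ cG)
        (DCoh.Rpush p)) :
        (iY ⋙ DCoh.Lpull q) ⋙ (DCoh.LTensorCx E ⋙ DCoh.RSheafHom K) ⋙ DCoh.Rpush p ≅ _)
  exact ⟨(A.ofNatIsoLeft (Functor.fullyFaithfulCancelRight iY (Iso.refl _))).ofNatIsoRight
    (Functor.fullyFaithfulCancelRight iX φ)⟩

end GrothLib.FMAdj25
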