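import Groth.Agent.S3603
import Groth.Agent.Lib.FMAdj25.Basic
import Groth.Agent.Lib.TorBC25.Splits

/-! # Base change of the relative dualizing complex along any morphism -/

set_option autoImplicit false
set_option maxHeartbeats 1000000
set_option linter.style.haveILetI false
set_option backward.isDefEq.respectTransparency false
universe u

open CategoryTheory CategoryTheory.Limits AlgebraicGeometry

attribute [local instance] HasDerivedCategory.standard

noncomputable section

namespace GrothLib.FMAdj25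

open GrothLib.OX

/-- Base change of the relative dualizing complex of a proper flat morphism of finite presentation. -/
theorem nonempty_dualizingCx_bc' {X Y X' Y' : Scheme.{u}} [CompactSpace X] [QuasiSeparatedSpace X] [CompactSpace Y]
    [QuasiSeparatedSpace Y] [CompactSpace X'] [QuasiSeparatedSpace X'] [CompactSpace Y'] [QuasiSeparatedSpace Y']
    {f : X ⟶ Y} {g : Y' ⟶ Y} {f' : X' ⟶ Y'} {g' : X' ⟶ X} (hsq : IsPullback g' f' f g) [IsProper f] [Flat f]
    [LocallyOfFinitePresentation f] [DCoh.HasRpush f] (hf : DCoh.RpushPreservesQCoh f) [DCoh.HasShriek f hf]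
    [DCoh.HasRpush f'] (hf' : DCoh.RpushPreservesQCoh f') [DCoh.HasShriek f' hf'] [DCoh.HasLpull g']
    (O : DCoh.DQCoh Y) (eO : O.obj ≅ DCoh.inD Y (Coh.structureModule Y))
    (O' : DCoh.DQCoh Y') (eO' : O'.obj ≅ DCoh.inD Y' (Coh.structureModule Y')) :
    Nonempty ((DCoh.Lpull g').obj (DCoh.dualizingCx f hf O) ≅ DCoh.dualizingCx f' hf' O') := by
  haveI : QuasiCompact g := quasiCompact_of_compactSpace g
  haveI : QuasiSeparated g := QuasiSeparated.of_quasiSeparatedSpace g
  haveI : QuasiCompact g' := quasiCompact_of_compactSpace g'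
  haveI : QuasiSeparated g' := QuasiSeparated.of_quasiSeparatedSpace g'
  haveI : DCoh.HasRpush g := KInj.hasRightDerivedFunctor _
  haveI : DCoh.HasRpush g' := KInj.hasRightDerivedFunctor _
  haveI := OX.hasLpull g
  have hg := rpushPreservesQCoh g
  have hg' := rpushPreservesQCoh g'
  obtain ⟨b⟩ := nonempty_lpullAdj g
  obtain ⟨b'⟩ := nonempty_lpullAdj g'
  obtain ⟨e, hξ, hbc⟩ := Groth.Agent.S3603.result X Y X' Y' f g f' g' hsq hf hf' hg hg' _ _ (DCoh.shriekAdj f hf)
    (DCoh.shriekAdj f' hf') _ _ (BaseChange22.adjQ hg b) (BaseChange22.adjQ hg' b')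
  haveI := hbc O
  obtain ⟨l⟩ := TorBC25.nonempty_lpull_structure g
  let eL : (Dual3.LpullQ g (fun _ hK => TorBC25.isQCohD_lpull g hK)).obj O ≅ O' :=
    (DCoh.IsQCohD (X := Y')).isoMk ((DCoh.Lpull g).mapIso eO ≪≫ l ≪≫ eO'.symm)
  exact ⟨(DCoh.IsQCohD (X := X')).ι.mapIso (@asIso _ _ _ _ _ (hbc O) ≪≫ (DCoh.shriek f' hf').mapIso eL)⟩

end GrothLib.FMAdj25
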