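import Groth.Agent.Lib.CurveSerre11.Balanced
import Groth.Agent.Lib.FMAdj25.SepReducible
import Groth.Agent.Lib.CurveSerre11.GorOmega
import Groth.Agent.Lib.RegPow10.Main

/-! # Very ampleness on reduced curves by degrees on subcurves -/

set_option autoImplicit false
set_option maxHeartbeats 1000000
set_option linter.all false
set_option backward.isDefEq.respectTransparency false
universe u

open CategoryTheory CategoryTheory.Limits AlgebraicGeometry Opposite TopologicalSpace

noncomputable section

namespace GrothLib.FMAdj25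

open GrothLib.QCoh GrothLib.Euler GrothLib.CurveSerre11 GrothLib.SubCurve16

variable {k : Type u} [Field k] [IsAlgClosed k] {X : Scheme.{u}} [X.Over (Spec (CommRingCat.of k))]
  [IsProper (X ↘ Spec (CommRingCat.of k))] [AlgebraicGeometry.IsReduced X] [ConnectedSpace X]
  (hdim : topologicalKrullDim X = 1) {L : X.Modules} (hL : PicF.IsInvertible L)
  (hdeg : ∀ J : X.IdealSheafData, IsReduced J.subscheme → ConnectedSpace J.subscheme →
    topologicalKrullDim J.subscheme = 1 →
    2 * (@Curv2.genus k _ J.subscheme ⟨J.subschemeι ≫ (X ↘ (Spec (CommRingCat.of k)))⟩ : ℤ) + 1 ≤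
      @Curv2.deg k _ J.subscheme ⟨J.subschemeι ≫ (X ↘ (Spec (CommRingCat.of k)))⟩
        ((Scheme.Modules.pullback J.subschemeι).obj L) 1)

include hdim hL hdeg in
/-- The sections separate subschemes of length at most two. -/
theorem bound_of_deg_subcurves (Z : X.IdealSheafData) (hZd : topologicalKrullDim (Z.support : Set X) ≤ 0)
    (h2 : Module.finrank k (Coh.HH X (ClSub.quotMod Z) 0) ≤ 2) :
    Module.finrank k (Coh.HH X (CohB1.tensorMod (ClSub.idealMod Z) L) 0) +
      Module.finrank k (Coh.HH X (ClSub.quotMod Z) 0) ≤ Module.finrank k (Coh.HH X L 0) := by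
  haveI := Euler.isNoetherian_of_proper (X := X) k
  haveI hL1 : Subsingleton (Coh.HH X L 1) :=
    subsingleton_H1_of_deg k hdim hL fun J h1 h2 h3 => by have := hdeg J h1 h2 h3; omega
  have hng : ∀ η ∈ genericPoints (X : Type u), η ∉ (Z.support : Set X) := by
    intro η hη h
    have hC : closure ({η} : Set X) ∈ irreducibleComponents (X : Type u) := hη
    have hsub : closure ({η} : Set X) ⊆ (Z.support : Set X) :=
      closure_minimal (Set.singleton_subset_iff.2 h) Z.support.isClosed
    have hle : topologicalKrullDim (closure ({η} : Set X)) ≤ 0 :=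
      le_trans (Topology.IsInducing.topologicalKrullDim_le (f := Set.inclusion hsub)
        (Topology.IsEmbedding.inclusion hsub).isInducing) hZd
    rw [equidim_of_connected (k := k) hdim _ hC] at hle
    exact absurd hle (by decide)
  have hsuppQ : ∀ {J : X.IdealSheafData}, Z ≤ J → (CohB1.support (ClSub.quotMod J)) ⊆ (Z.support : Set X) :=
    fun hJ x hx => Scheme.IdealSheafData.support_antitone hJ (Snapper.support_quotMod _ hx)
  obtain ⟨hfin, hcl⟩ := finite_of_notMem_genericPoints k hdim.le Z.support.isClosed hng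
  haveI := Euler.epi_toSubscheme Z
  have hseq : (ShortComplex.mk (ClSub.idealModι Z) (ClSub.toSubscheme Z) (kernel.condition _)).ShortExact :=
    { exact := ShortComplex.exact_of_f_is_kernel _ (kernelIsKernel _)
      mono_f := inferInstanceAs (Mono (kernel.ι _)) }
  have hlf := Euler.isFinLocFree_of_isInvertible hL
  have hO := Euler.isCoh_of_isInvertible (Euler.isInvertible_structure (X := X))
  have hQ : Coh.IsCoh (ClSub.quotMod Z) := Snapper.isCoh_quotMod k Z
  have hI : Coh.IsCoh (ClSub.idealMod Z) := RegPow.isCoh_idealMod Z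
  have hadd := euler_tF_add (k := k) (L := L) _ _ _ hseq (OX.flat_of_isFinLocFree hlf) (Euler.isCoh_tF hI hlf)
    (Euler.isCoh_tF hO hlf) (Euler.isCoh_tF hQ hlf)
  have hQe : Curv2.euler k X ((tF L).obj (ClSub.quotMod Z)) = Module.finrank k (Coh.HH X (ClSub.quotMod Z) 0) := by
    rw [Euler.euler_tF_of_finite_support k (Euler.isFinLocFreeOfRank_one' hL) hQ (hfin.subset (hsuppQ le_rfl))
      (fun x hx => hcl x (hsuppQ le_rfl hx)), Nat.cast_one, one_mul,
      Euler.euler_eq_of_finite_support k _ (hfin.subset (hsuppQ le_rfl)) fun x hx => hcl x (hsuppQ le_rfl hx)]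
  have hI1 : Subsingleton (Coh.HH X (CohB1.tensorMod (ClSub.idealMod Z) L) 1) := by
    rw [← not_nontrivial_iff_subsingleton]
    intro hne
    obtain ⟨J, hJr, hJc, hJ1, hle⟩ := exists_subcurve Z hL k hdim hng subset_rfl (nontrivial_GG_univ Z hL k hne)
    haveI := hJr
    haveI := hJc
    have h3 := hdeg J hJr hJc hJ1
    rw [euler_structure k hdim.le J] at hle
    have hZJ : Module.finrank k (Coh.HH X (ClSub.quotMod (Z ⊔ J)) 0) ≤ 2 := by
      let q : ClSub.quotMod Z ⟶ ClSub.quotMod (Z ⊔ J) := Lef.quotMap le_sup_left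
      have hs : (ShortComplex.mk (kernel.ι q) q (kernel.condition q)).ShortExact :=
        { exact := ShortComplex.exact_of_f_is_kernel _ (kernelIsKernel q) }
      have hZJc : Coh.IsCoh (ClSub.quotMod (Z ⊔ J)) := Snapper.isCoh_quotMod k _
      have hK : Coh.IsCoh (kernel q) := QCoh.isCoh_kernel _ hQ hZJc
      have hKs : CohB1.support (kernel q) ⊆ (Z.support : Set X) := fun x hx => by
        refine hsuppQ le_rfl fun hs => hx ?_
        exact (@Function.Injective.subsingleton _ _ _ (QCoh.stalkLin_injective (kernel.ι q) x) hs)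
      have e1 := Euler.euler_additive k hs hK hQ hZJc
      dsimp only at e1
      rw [Euler.euler_eq_of_finite_support k _ (hfin.subset hKs) fun x hx => hcl x (hKs hx),
        Euler.euler_eq_of_finite_support k _ (hfin.subset (hsuppQ le_rfl)) fun x hx => hcl x (hsuppQ le_rfl hx),
        Euler.euler_eq_of_finite_support k _ (hfin.subset (hsuppQ le_sup_left))
          fun x hx => hcl x (hsuppQ le_sup_left hx)] at e1
      omega
    push_cast at hle
    omega
  have e0 : Curv2.euler k X ((tF L).obj (Coh.structureModule X)) = Curv2.euler k X L :=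
    Euler.euler_of_iso k (OX.tensorUnitLeftIso L)
  haveI := (Euler.isCoh_tF hI hlf).1
  haveI := (Euler.isCoh_of_isInvertible hL).1
  haveI : Subsingleton (Coh.HH X ((tF L).obj (ClSub.idealMod Z)) 1) := hI1
  have e2 := Euler.euler_eq_sub k hdim.le ((tF L).obj (ClSub.idealMod Z))
  have e3 := Euler.euler_eq_sub k hdim.le L
  rw [Module.finrank_zero_of_subsingleton (R := k) (M := Coh.HH X L 1), Nat.cast_zero, sub_zero] at e3
  rw [Module.finrank_zero_of_subsingleton (R := k) (M := Coh.HH X ((tF L).obj (ClSub.idealMod Z)) 1), Nat.cast_zero,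
    sub_zero] at e2
  rw [e0, hQe, e2, e3] at hadd
  show Module.finrank k (Coh.HH X ((tF L).obj (ClSub.idealMod Z)) 0) + _ ≤ _
  omega

include hdim hL hdeg in
/-- **Very ampleness.** -/
theorem exists_closedImmersion_of_deg_subcurves :
    ∃ (n : ℕ) (i : X ⟶ CohB1.ProjSpace n k), IsClosedImmersion i ∧
      i ≫ CohB1.ProjSpace.toSpec n k = X ↘ Spec (CommRingCat.of k) ∧
      Nonempty ((Scheme.Modules.pullback i).obj (Twist.twistProjSpace n k 1) ≅ L) := by
  haveI : Nonempty X := ConnectedSpace.toNonempty
  refine CurveMult.exists_closedImmersion_of_bound' k hdim.le hL ?_ (bound_of_deg_subcurves hdim hL hdeg)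
  refine (isAmple_iff_degS k hdim hL).2 fun η hη => ?_
  obtain ⟨hr, -, hc, hd1⟩ := irreducible_JJ k hdim hη
  have h1 := hdeg _ hr hc hd1
  rw [← deg_eq_degS k hL]
  omega

end GrothLib.FMAdj25
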