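import Groth.Agent.Lib.FMAdj25.TreeGen
import Groth.Agent.Lib.CurveSerre11.InjDim
import Groth.Agent.Lib.CurveSerre11.GorOmega
import Groth.Agent.Lib.CurveSerre11.Balanced
import Groth.Agent.Lib.Kodaira.Cones
import Groth.Agent.Lib.OX.TensorAssoc

/-!
# Deformation ampleness of bundles on nodal curves
-/

set_option autoImplicit false
set_option linter.all false
set_option backward.isDefEq.respectTransparency false
set_option maxHeartbeats 1000000

universe u

open CategoryTheory CategoryTheory.Limits AlgebraicGeometry TopologicalSpace Opposite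
attribute [local instance] HasDerivedCategory.standard

noncomputable section

namespace GrothLib.FMAdj25

open GrothLib.Euler (tF)
open GrothLib.CurveSerre11

variable {k : Type u} [Field k] {X : Scheme.{u}} [X.Over (Spec (CommRingCat.of k))]
  [IsProper (X ↘ Spec (CommRingCat.of k))]

include k in
/-- The local rings of a reduced curve are Cohen-Macaulay. -/
theorem isCM_stalk_of_reduced [AlgebraicGeometry.IsReduced X] (hdim : topologicalKrullDim X ≤ 1) (x : X) :
    LocCoh.IsCohenMacaulayLocalRing (X.presheaf.stalk x) := by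
  haveI := Euler.isNoetherian_of_proper (X := X) k
  obtain ⟨U, hU, hxU, -⟩ := exists_isAffineOpen_mem_and_subset (x := x) (U := ⊤) trivial
  have hd : ringKrullDim (X.presheaf.stalk x) ≤ 1 := by
    let _ := TopCat.Presheaf.algebra_section_stalk X.presheaf (⟨x, hxU⟩ : U)
    haveI := hU.isLocalization_stalk ⟨x, hxU⟩
    rw [IsLocalization.AtPrime.ringKrullDim_eq_height (hU.primeIdealOf ⟨x, hxU⟩).asIdeal (X.presheaf.stalk x)]
    exact (Ideal.height_le_ringKrullDim_of_ne_top Ideal.IsPrime.ne_top').trans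
      ((GrothLib.Dim.topologicalKrullDim_affineOpen hU).symm.le.trans ((topologicalKrullDim_subspace_le X U).trans hdim))
  refine { supportDim_eq_depth := le_antisymm ?_ (Depth.depth_le_supportDim _ _) }
  rw [Module.supportDim_self_eq_ringKrullDim]
  by_cases hf : IsField (X.presheaf.stalk x)
  · rw [ringKrullDim_eq_zero_of_isField hf]
    exact WithBot.coe_le_coe.2 bot_le
  · refine hd.trans (WithBot.coe_le_coe.2 ?_)
    exact Order.one_le_iff_pos.2 (pos_iff_ne_zero.2 fun h0 => hf (CMBasics.depth_self_eq_zero_iff.1 h0))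

/-- An epimorphism after an invertible twist gives one before. -/
theorem exists_epi_of_twist {Y : Scheme.{u}} {T L E : Y.Modules}
    (eT : CohB1.tensorMod T L ≅ Coh.structureModule Y) (φ : CohB1.tensorMod E L ⟶ L) (hφ : Epi φ) :
    ∃ ψ : E ⟶ Coh.structureModule Y, Epi ψ := by
  haveI := hφ
  haveI h1 : Epi ((tF T).map φ) := inferInstance
  let nat : ((DCoh.tensorBi (X := Y)).obj T) ≅ tF T := ((OX.tensorBraiding (X := Y)).app T).symm
  haveI : Epi (((DCoh.tensorBi (X := Y)).obj T).map φ) := by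
    rw [← NatIso.naturality_2 nat φ]
    exact epi_comp' inferInstance (epi_comp' h1 inferInstance)
  let a1 : E ≅ ((DCoh.tensorBi (X := Y)).obj (Coh.structureModule Y)).obj E :=
    (OX.tensorUnitLeftIso E).symm
  let a2 : ((DCoh.tensorBi (X := Y)).obj (Coh.structureModule Y)).obj E ≅
      ((DCoh.tensorBi (X := Y)).obj (((DCoh.tensorBi (X := Y)).obj T).obj L)).obj E :=
    ((DCoh.tensorBi (X := Y)).mapIso eT.symm).app E
  let a3 := OX.tensorAssoc T L E
  let a4 : ((DCoh.tensorBi (X := Y)).obj T).obj (((DCoh.tensorBi (X := Y)).obj L).obj E) ≅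
      ((DCoh.tensorBi (X := Y)).obj T).obj (((DCoh.tensorBi (X := Y)).obj E).obj L) :=
    ((DCoh.tensorBi (X := Y)).obj T).mapIso (((OX.tensorBraiding (X := Y)).app L).app E).symm
  exact ⟨a1.hom ≫ a2.hom ≫ a3.hom ≫ a4.hom ≫ ((DCoh.tensorBi (X := Y)).obj T).map φ ≫ eT.hom,
    epi_comp' inferInstance (epi_comp' inferInstance (epi_comp' inferInstance (epi_comp' inferInstance
      (epi_comp' inferInstance inferInstance))))⟩

variable [DCoh.HasRpush (X ↘ Spec (CommRingCat.of k))] (h : DCoh.RpushPreservesQCoh (X ↘ Spec (CommRingCat.of k)))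
  [DCoh.HasShriek (X ↘ Spec (CommRingCat.of k)) h]
  (OY : DCoh.DQCoh (Spec (CommRingCat.of k)))
  (hOY : Nonempty (OY.obj ≅ DCoh.inD (Spec (CommRingCat.of k)) (Coh.structureModule (Spec (CommRingCat.of k)))))

local notation "ω" => DCoh.dualizingMod (X ↘ Spec (CommRingCat.of k)) h OY 1

include hOY in
/-- A globally generated bundle with `H¹(E ⊗ ω) ≠ 0` has the structure sheaf as a quotient. -/
theorem exists_epi_structure (hdim : topologicalKrullDim X ≤ 1)
    (h0 : Module.finrank k (Coh.HH X (Coh.structureModule X) 0) = 1) (hω : PicF.IsInvertible ω)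
    {E : X.Modules} (hE : FlatMod.IsFinLocFree E) (hgg : Curv2.IsGloballyGenerated E)
    (hne : ¬ Subsingleton (Coh.HH X (CohB1.tensorMod E ω) 1)) :
    ∃ ψ : E ⟶ Coh.structureModule X, Epi ψ := by
  haveI := Euler.isNoetherian_of_proper (X := X) k
  obtain ⟨t, ht⟩ := exists_trace h OY hOY hdim
  have hF : Coh.IsQCoh (CohB1.tensorMod E ω) :=
    (show Coh.IsCoh ((tF ω).obj E) from Euler.isCoh_tF (Euler.isCoh_of_isFinLocFree hE) (Euler.isFinLocFree_of_isInvertible hω)).1
  obtain ⟨x, hx⟩ : ∃ x : Coh.HH X (CohB1.tensorMod E ω) 1, x ≠ 0 :=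
    haveI := not_subsingleton_iff_nontrivial.1 hne; exists_ne 0
  haveI : FiniteDimensional k (Coh.HH X (CohB1.tensorMod E ω) 1) :=
    Euler.finiteDimensional_HH k (show Coh.IsCoh ((tF ω).obj E) from Euler.isCoh_tF (Euler.isCoh_of_isFinLocFree hE) (Euler.isFinLocFree_of_isInvertible hω)) 1
  obtain ⟨ψ₀, hψ₀⟩ : ∃ ψ : Coh.HH X (CohB1.tensorMod E ω) 1 →ₗ[k] k, ψ x ≠ 0 := by
    by_contra hc
    push Not at hc
    exact hx ((Module.forall_dual_apply_eq_zero_iff k x).1 hc)
  let φ : CohB1.tensorMod E ω ⟶ ω := homOf ht hF ψ₀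
  have hφ : φ ≠ 0 := fun h0' => hψ₀ (by
    rw [homOf_spec ht hF ψ₀ x, show homOf ht hF ψ₀ = 0 from h0']
    have h2 := hmap_add (k := k) (0 : CohB1.tensorMod E ω ⟶ ω) 0 1 x
    rw [add_zero] at h2
    rw [left_eq_add.1 h2, map_zero])
  obtain ⟨n, p, hp⟩ := CurveMult.exists_epi_freeMod (Euler.isCoh_of_isFinLocFree hE) hgg
  haveI := hp
  let q : CohB1.tensorMod (FlatMod.freeMod X n) ω ⟶ CohB1.tensorMod E ω := (tF ω).map p
  haveI : Epi q := inferInstanceAs (Epi ((tF ω).map p))
  let e := CMReg.tensorSigmaIso (fun _ : Fin n => Coh.structureModule X) ω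
  let u : CohB1.tensorMod (Coh.structureModule X) ω ≅ ω := OX.tensorUnitLeftIso ω
  obtain ⟨j, hj⟩ : ∃ j : Fin n,
      u.inv ≫ Sigma.ι (fun _ : Fin n => CohB1.tensorMod (Coh.structureModule X) ω) j ≫ e.inv ≫ q ≫ φ ≠ 0 := by
    by_contra hc
    push Not at hc
    refine hφ ((cancel_epi q).1 ?_)
    rw [comp_zero]
    refine (cancel_epi e.inv).1 (Sigma.hom_ext _ _ fun j => ?_)
    rw [comp_zero, comp_zero]
    exact (cancel_epi u.inv).1 ((hc j).trans comp_zero.symm)
  obtain ⟨c, hc⟩ := exists_eq_scalar h OY hOY hdim h0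
    (u.inv ≫ Sigma.ι (fun _ : Fin n => CohB1.tensorMod (Coh.structureModule X) ω) j ≫ e.inv ≫ q ≫ φ)
  haveI hφe : Epi φ := by
    have hc0 : c ≠ 0 := fun h' => hj (by rw [hc, h', map_zero, smulMod_zero])
    have : IsIso (Euler.smulMod ω (Coh.toGlobal (X ↘ Spec (CommRingCat.of k)) c)) :=
      ⟨Euler.smulMod ω (Coh.toGlobal (X ↘ Spec (CommRingCat.of k)) c⁻¹),
        by rw [smulMod_mul, ← map_mul, inv_mul_cancel₀ hc0, map_one, smulMod_one],
        by rw [smulMod_mul, ← map_mul, mul_inv_cancel₀ hc0, map_one, smulMod_one]⟩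
    rw [← hc] at this
    haveI := this
    exact epi_of_epi_fac (f := u.inv ≫ Sigma.ι (fun _ : Fin n => CohB1.tensorMod (Coh.structureModule X) ω) j ≫ e.inv ≫ q)
        (g := φ) (h := u.inv ≫ Sigma.ι (fun _ : Fin n => CohB1.tensorMod (Coh.structureModule X) ω) j ≫ e.inv ≫ q ≫ φ)
        (by simp only [Category.assoc])
  obtain ⟨T, hT, ⟨eT⟩⟩ := Kodaira.exists_inverse hω
  exact exists_epi_of_twist eT φ hφe

include hOY in
/-- Such a quotient contradicts the vanishing on a subcurve. -/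
theorem not_epi_structure [AlgebraicGeometry.IsReduced X] [Nonempty X] (hdim : topologicalKrullDim X ≤ 1)
    (hequi : ∀ Z ∈ irreducibleComponents (X : Type u), topologicalKrullDim Z = 1)
    {E : X.Modules} (hvan : Subsingleton (Coh.HH X (CohB1.tensorMod E ω) 1))
    (ψ : E ⟶ Coh.structureModule X) : ¬ Epi ψ := by
  intro hψ
  haveI := Euler.isNoetherian_of_proper (X := X) k
  haveI : Epi ((tF ω).map ψ) := inferInstance
  haveI h1 : Subsingleton (Coh.HH X ω 1) :=
    CurveMult.subsingleton_H1_of_epi k hdim ((tF ω).map ψ ≫ (OX.tensorUnitLeftIso ω).hom) hvan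
  have h2 := finrank_HH_one_omega h OY hOY hdim
    (badSet_eq_empty h OY hOY (isCM_stalk_of_reduced (k := k) hdim) hequi)
  rw [Module.finrank_zero_of_subsingleton] at h2
  exact (SubCurve16.finrank_H0_pos k).ne h2

end GrothLib.FMAdj25
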