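import Groth.Agent.Lib.ClosedPush22.HomO
import Groth.Agent.Lib.OX.LocFreeTensor
import Groth.Agent.Lib.FundIso27.Iso
import Groth.Agent.Lib.Regularity10.Transfer
import Groth.Agent.Lib.Euler.Coh
import Groth.Agent.Lib.ResProp22.Ample
import Groth.Agent.Lib.H1Sheaf6.Conormal
import Groth.Agent.Lib.VA.Tensor
import Groth.Agent.Lib.IdealModSec.Basic
import Groth.Agent.Lib.K0Sub.Killed
import Groth.Agent.Lib.OX.TensorAssoc
import Groth.Agent.Lib.AffHom.Basic

/-! # Killed submodules and tensor products with invertible modules -/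

set_option autoImplicit false
set_option maxHeartbeats 1000000
set_option linter.style.haveILetI false
set_option backward.isDefEq.respectTransparency false
universe u

open CategoryTheory CategoryTheory.Limits AlgebraicGeometry Opposite

noncomputable section

namespace GrothLib.FMAdj25

variable {X Z : Scheme.{u}} (f : Z ⟶ X) [IsClosedImmersion f]

theorem killed_of_iso {M N : X.Modules} (e : M ≅ N) (hN : ClSub.KilledByIdeal f.ker N) :
    ClSub.KilledByIdeal f.ker M := ClosedPush22.killedByIdeal_of_mono f e.hom hN

/-- Tensoring with an invertible module preserves being killed by the ideal. -/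
theorem killed_tensor {M L : X.Modules} (hM : ClSub.KilledByIdeal f.ker M) (hL : PicF.IsInvertible L) :
    ClSub.KilledByIdeal f.ker (CohB1.tensorMod M L) := by
  haveI := ClosedPush22.isIso_unit_of_killed f M hM
  obtain ⟨p⟩ := Regularity.nonempty_push_tensor f (Euler.isFinLocFree_of_isInvertible hL)
    ((Scheme.Modules.pullback f).obj M) (Iso.refl _)
  exact killed_of_iso f (PicGrp.tensorModIso (asIso ((Scheme.Modules.pullbackPushforwardAdjunction f).unit.app M))
    (Iso.refl L) ≪≫ p.symm) (ClosedPush22.killedByIdeal_push f _)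

/-- Killed modules transfer back along the twist. -/
theorem killed_of_killed_tensor {M L : X.Modules} (hL : PicF.IsInvertible L)
    (hM : ClSub.KilledByIdeal f.ker (CohB1.tensorMod M L)) : ClSub.KilledByIdeal f.ker M := by
  obtain ⟨L', hL', ⟨e⟩⟩ := ResProp22.exists_inverse hL
  exact killed_of_iso f (OX.tensorAssoc M L L' ≪≫ ((DCoh.tensorBi (X := X)).obj M).mapIso e ≪≫
    Euler.tFUnitIso M).symm (killed_tensor f hM hL')

/-- The counit of a closed immersion is an isomorphism. -/
theorem isIso_counit_closed (N : Z.Modules) :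
    IsIso ((Scheme.Modules.pullbackPushforwardAdjunction f).counit.app N) := by
  let adj := Scheme.Modules.pullbackPushforwardAdjunction f
  haveI := ClosedPush22.isIso_unit_of_killed f _ (ClosedPush22.killedByIdeal_push f N)
  haveI : IsIso ((Scheme.Modules.pushforward f).map (adj.counit.app N)) := by
    rw [IsIso.eq_inv_of_hom_inv_id (adj.right_triangle_components N)]
    infer_instance
  exact K0Sub.isIso_of_isIso_push f (adj.counit.app N)

/-- The ideal sheaf of sections killed by `IX`. -/
theorem killed_annihilator (IX IW : X.IdealSheafData) (hker : f.ker = IX)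
    (hW : ∀ U : X.affineOpens, IW.ideal U = (IX.ideal U).annihilator) :
    ClSub.KilledByIdeal f.ker (ClSub.idealMod IW) := fun U a ha m => by
  rw [hker] at ha
  change Γ(ClSub.idealMod IW, U.1) at m
  apply IdealModSec.val_injective IW U.1
  rw [IdealModSec.val_smul, IdealModSec.val_zero]
  have hm : IdealModSec.val IW U.1 m ∈ (IX.ideal U).annihilator := hW U ▸ IdealModSec.val_mem IW U m
  rw [mul_comm]
  exact Submodule.mem_annihilator.1 hm a ha

/-- A map from a killed quasi-coherent module to the structure sheaf lands in the annihilator. -/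
theorem comp_toSubscheme_eq_zero (IX IW : X.IdealSheafData) (hker : f.ker = IX)
    (hW : ∀ U : X.affineOpens, IW.ideal U = (IX.ideal U).annihilator) {A : X.Modules}
    (hA : ClSub.KilledByIdeal f.ker A) (φ : A ⟶ Coh.structureModule X) : φ ≫ ClSub.toSubscheme IW = 0 := by
  refine AffHom.hom_ext_basis (B := fun U : X.affineOpens => U.1) (by simpa using X.isBasis_affineOpens)
    fun U m => ?_
  show IW.subschemeι.app U.1 (φ.app U.1 m) = 0
  have hm : (show Γ(X, U.1) from φ.app U.1 m) ∈ IW.ideal U := by
    rw [hW U, Submodule.mem_annihilator]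
    intro a ha
    rw [smul_eq_mul, mul_comm]
    refine ((Scheme.Modules.Hom.app_smul φ a m).symm.trans ?_)
    rw [show a • m = 0 from hA U a (hker ▸ ha) m]
    exact map_zero _
  rw [← Scheme.IdealSheafData.ker_subschemeι IW, Scheme.Hom.ker_apply, RingHom.mem_ker] at hm
  exact hm

/-- The sections killed by `IX` of the twist are the twisted annihilator. -/
theorem nonempty_homO_twist [Dual3.HasHomO f] (IX IW : X.IdealSheafData) (hker : f.ker = IX)
    (hW : ∀ U : X.affineOpens, IW.ideal U = (IX.ideal U).annihilator) {ω : X.Modules} (hω : PicF.IsInvertible ω) :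
    Nonempty ((Dual3.homO f).obj ω ≅ (Scheme.Modules.pullback f).obj (CohB1.tensorMod (ClSub.idealMod IW) ω)) := by
  let push := Scheme.Modules.pushforward f
  let adj := Dual3.homOAdj f
  let E := (DCoh.tensorBi (X := X)).flip.obj ω
  haveI := FundIso27.isEquivalence_tensor hω
  let O := Coh.structureModule X
  let w : E.obj O ≅ ω := OX.tensorUnitLeftIso ω
  let P := push.obj ((Dual3.homO f).obj O)
  let ε := adj.counit.app O
  haveI : Mono ε := ClosedPush22.mono_counit f O
  haveI : Mono (adj.counit.app ω) := ClosedPush22.mono_counit f ω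
  -- the annihilator is the killed part of the structure sheaf
  obtain ⟨g, hg⟩ := ClosedPush22.exists_fac f (killed_annihilator f IX IW hker hW) (ClSub.idealModι IW)
  let p : ClSub.idealMod IW ⟶ P := (Scheme.Modules.pullbackPushforwardAdjunction f).unit.app _ ≫ push.map g
  have hp : p ≫ ε = ClSub.idealModι IW := (Category.assoc _ _ _).trans hg
  let q : P ⟶ ClSub.idealMod IW := kernel.lift (ClSub.toSubscheme IW) ε
    (comp_toSubscheme_eq_zero f IX IW hker hW (ClosedPush22.killedByIdeal_push f _) ε)
  have hq : q ≫ ClSub.idealModι IW = ε := kernel.lift_ι _ _ _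
  haveI : Mono (ClSub.idealModι IW) := inferInstanceAs (Mono (kernel.ι _))
  let e₀ : ClSub.idealMod IW ≅ P :=
    { hom := p
      inv := q
      hom_inv_id := by rw [← cancel_mono (ClSub.idealModι IW), Category.assoc, hq, hp, Category.id_comp]
      inv_hom_id := by rw [← cancel_mono ε, Category.assoc, hp, hq, Category.id_comp] }
  -- twisting
  let M := E.obj P
  let N := push.obj ((Dual3.homO f).obj ω)
  let μ : M ⟶ ω := E.map ε ≫ w.hom
  obtain ⟨g', hg'⟩ := ClosedPush22.exists_fac f (killed_tensor f (ClosedPush22.killedByIdeal_push f _) hω) μ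
  let a : M ⟶ N := (Scheme.Modules.pullbackPushforwardAdjunction f).unit.app _ ≫ push.map g'
  have ha : a ≫ adj.counit.app ω = μ := (Category.assoc _ _ _).trans hg'
  let A := E.objPreimage N
  let eA : E.obj A ≅ N := E.objObjPreimageIso N
  have hA : ClSub.KilledByIdeal f.ker A := killed_of_killed_tensor f hω
    (killed_of_iso f eA (ClosedPush22.killedByIdeal_push f _))
  obtain ⟨g'', hg''⟩ := ClosedPush22.exists_fac f hA (E.preimage (eA.hom ≫ adj.counit.app ω ≫ w.inv))
  let c : A ⟶ P := (Scheme.Modules.pullbackPushforwardAdjunction f).unit.app _ ≫ push.map g''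
  have hc : c ≫ ε = E.preimage (eA.hom ≫ adj.counit.app ω ≫ w.inv) := (Category.assoc _ _ _).trans hg''
  let b : N ⟶ M := eA.inv ≫ E.map c
  have hb : b ≫ μ = adj.counit.app ω := by
    show (eA.inv ≫ E.map c) ≫ E.map ε ≫ w.hom = _
    rw [Category.assoc, ← E.map_comp_assoc, hc, E.map_preimage]
    simp
  haveI : Mono μ := mono_comp _ _
  let e₁ : M ≅ N :=
    { hom := a
      inv := b
      hom_inv_id := by rw [← cancel_mono μ, Category.assoc, hb, ha, Category.id_comp]
      inv_hom_id := by rw [← cancel_mono (adj.counit.app ω), Category.assoc, ha, hb, Category.id_comp] }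
  haveI := isIso_counit_closed f ((Dual3.homO f).obj ω)
  exact ⟨(asIso ((Scheme.Modules.pullbackPushforwardAdjunction f).counit.app _)).symm ≪≫
    (Scheme.Modules.pullback f).mapIso (e₁.symm ≪≫ E.mapIso e₀.symm)⟩

end GrothLib.FMAdj25
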