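import Groth.Agent.Lib.FMAdj25.Gorenstein
import Groth.Agent.Lib.SuppTens22.Local
import Groth.Agent.Lib.KSix19.ProjPush.Serre
import Groth.Agent.Lib.Euler.Coh
import Groth.Agent.Lib.OX.LocFreeTensor

/-! # Locally shifted structure sheaves in one degree -/

set_option autoImplicit false
set_option maxHeartbeats 1000000
set_option linter.style.haveILetI false
set_option backward.isDefEq.respectTransparency false
universe u

open CategoryTheory CategoryTheory.Limits AlgebraicGeometry Opposite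
open DerivedCategory (Q)

attribute [local instance] HasDerivedCategory.standard

noncomputable section

namespace GrothLib.FMAdj25

open GrothLib.OX

variable {X Y : Scheme.{u}}

theorem not_isZero_structure [Nonempty X] : ¬ IsZero (Coh.structureModule X) := fun h => by
  obtain ⟨x⟩ := ‹Nonempty X›
  have e : (1 : Γ(X, ⊤)) = 0 := congrArg (fun c : Coh.structureModule X ⟶ Coh.structureModule X =>
    (c.val.app (op ⊤) (1 : X.ringCatSheaf.obj.obj (op ⊤)) : Γ(X, ⊤))) (h.eq_of_src (𝟙 _) 0)
  have h1 := congrArg (X.presheaf.germ ⊤ x trivial).hom e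
  rw [map_one, map_zero] at h1
  exact one_ne_zero h1

/-- A shifted structure sheaf as a single functor. -/
def shiftUnitIso (U : Scheme.{u}) (s : ℤ) : (DCoh.inD U (Coh.structureModule U))⟦s⟧ ≅
    (DerivedCategory.singleFunctor U.Modules (-s)).obj (Coh.structureModule U) :=
  ((DerivedCategory.singleFunctors U.Modules).shiftIso s (-s) 0 (add_neg_cancel s)).app _

/-- The chosen cohomology of a single object. -/
def HDSingleIso (M : X.Modules) (j : ℤ) :
    DCoh.HD ((DerivedCategory.singleFunctor X.Modules j).obj M) j ≅ M :=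
  (DerivedCategory.singleFunctorCompHomologyFunctorIso X.Modules j).app M

/-- On a chart where a locally-shifted structure sheaf is concentrated in one degree the shift is that degree. -/
theorem exists_chart_degree {W : DCoh.D X} (hW : LocUnit W) {d : ℤ}
    (hd : ∀ i : ℤ, i ≠ d → IsZero (DCoh.HD W i)) (x : X) :
    ∃ U : X.Opens, x ∈ U ∧ Nonempty ((resD U.ι).obj W ≅
      (DerivedCategory.singleFunctor (U : Scheme.{u}).Modules d).obj (Coh.structureModule (U : Scheme.{u}))) := by
  obtain ⟨U, j, _, s, hx, ⟨i⟩⟩ := hW x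
  obtain ⟨e⟩ := DualRing.exists_opens_iso j i
  let V : X.Opens := j.opensRange
  haveI : Nonempty (V : Scheme.{u}) := ⟨⟨x, hx⟩⟩
  let e' := e ≪≫ shiftUnitIso _ s
  by_cases h : -s = d
  · exact ⟨V, hx, ⟨h ▸ e'⟩⟩
  · refine (not_isZero_structure (X := (V : Scheme.{u})) ?_).elim
    exact ((Scheme.Modules.restrictFunctor V.ι).map_isZero (hd (-s) h)).of_iso
      ((HDSingleIso _ (-s)).symm ≪≫ (DerivedCategory.homologyFunctor _ (-s)).mapIso e'.symm ≪≫ HDResIso V.ι W (-s))

/-- A locally-shifted structure sheaf concentrated in one degree is an invertible module in that degree. -/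
theorem exists_invertible_single {W : DCoh.D X} (hW : LocUnit W) {d : ℤ}
    (hd : ∀ i : ℤ, i ≠ d → IsZero (DCoh.HD W i)) :
    PicF.IsInvertible (DCoh.HD W d) ∧
      Nonempty (W ≅ (DerivedCategory.singleFunctor X.Modules d).obj (DCoh.HD W d)) := by
  refine ⟨fun x => ?_, ?_⟩
  · obtain ⟨U, hx, ⟨e⟩⟩ := exists_chart_degree hW hd x
    exact ⟨U, hx, ⟨(HDResIso U.ι W d).symm ≪≫ (DerivedCategory.homologyFunctor _ d).mapIso e ≪≫ HDSingleIso _ d⟩⟩
  · haveI : W.IsGE d := (DerivedCategory.isGE_iff _ _).2 fun i hi => hd i (by omega)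
    haveI : W.IsLE d := (DerivedCategory.isLE_iff _ _).2 fun i hi => hd i (by omega)
    obtain ⟨M, ⟨e⟩⟩ := DerivedCategory.exists_iso_singleFunctor_obj_of_isGE_of_isLE W d
    exact ⟨e ≪≫ (DerivedCategory.singleFunctor X.Modules d).mapIso
      ((DerivedCategory.homologyFunctor _ d).mapIso e ≪≫ HDSingleIso M d).symm⟩

/-- Pullback of an invertible module in one degree. -/
theorem nonempty_lpull_single (f : X ⟶ Y) [DCoh.HasLpull f] {M : Y.Modules} (hM : PicF.IsInvertible M) (j : ℤ) :
    Nonempty ((DCoh.Lpull f).obj ((DerivedCategory.singleFunctor Y.Modules j).obj M) ≅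
      (DerivedCategory.singleFunctor X.Modules j).obj ((Scheme.Modules.pullback f).obj M)) := by
  obtain ⟨v⟩ := lpull_value f _
    (isKFlat_single M (flat_of_isFinLocFree (Euler.isFinLocFree_of_isInvertible hM)) j)
  exact ⟨(DCoh.Lpull f).mapIso ((DerivedCategory.singleFunctorIsoCompQ Y.Modules j).app _) ≪≫ v ≪≫
    DerivedCategory.Q.mapIso ((HomologicalComplex.singleMapHomologicalComplex (Scheme.Modules.pullback f)
      (ComplexShape.up ℤ) j).app _) ≪≫
    ((DerivedCategory.singleFunctorIsoCompQ X.Modules j).app _).symm⟩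

/-- The degree of a locally-shifted structure sheaf can be read off after a surjective pullback. -/
theorem degree_of_lpull (f : X ⟶ Y) [Surjective f] [DCoh.HasLpull f] {W : DCoh.D Y} (hW : LocUnit W) {W' : DCoh.D X}
    (e : (DCoh.Lpull f).obj W ≅ W') {d : ℤ} (hd : ∀ i : ℤ, i ≠ d → IsZero (DCoh.HD W' i)) :
    ∀ i : ℤ, i ≠ d → IsZero (DCoh.HD W i) := by
  intro i hi
  refine isZero_of_local fun y => ?_
  obtain ⟨U, j, _, s, hy, ⟨c⟩⟩ := hW y
  obtain ⟨c'⟩ := DualRing.exists_opens_iso j c
  let V : Y.Opens := j.opensRange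
  let c'' := c' ≪≫ shiftUnitIso _ s
  have hs : -s = d := by
    by_contra h
    obtain ⟨x, hx⟩ := f.surjective y
    let V' : X.Opens := f ⁻¹ᵁ V
    haveI : Nonempty (V' : Scheme.{u}) := ⟨⟨x, by show f x ∈ V; rw [hx]; exact hy⟩⟩
    haveI := OX.hasLpull (f.resLE V V' le_rfl)
    obtain ⟨l⟩ := SuppTens22.nonempty_resD_lpull_resLE f V V' le_rfl W
    obtain ⟨t⟩ := KSix19.ProjPush.nonempty_lpull_structure (f.resLE V V' le_rfl) (-s)
    refine not_isZero_structure (X := (V' : Scheme.{u})) ?_
    exact ((Scheme.Modules.restrictFunctor V'.ι).map_isZero (hd (-s) h)).of_iso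
      ((HDSingleIso _ (-s)).symm ≪≫ (DerivedCategory.homologyFunctor _ (-s)).mapIso
        (t.symm ≪≫ (DCoh.Lpull _).mapIso c''.symm ≪≫ l.symm ≪≫ (resD V'.ι).mapIso e) ≪≫ HDResIso V'.ι W' (-s))
  refine ⟨(V : Scheme.{u}), V.ι, inferInstance, ⟨⟨y, hy⟩, rfl⟩, ?_⟩
  have hz : IsZero (DCoh.HD ((DerivedCategory.singleFunctor (V : Scheme.{u}).Modules (-s)).obj
      (Coh.structureModule (V : Scheme.{u}))) i) := by
    rcases lt_or_gt_of_ne hi with h | h
    · exact DerivedCategory.isZero_of_isGE _ (-s) i (hs.symm ▸ h)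
    · exact DerivedCategory.isZero_of_isLE _ (-s) i (hs.symm ▸ h)
  exact hz.of_iso ((HDResIso V.ι W i).symm ≪≫ (DerivedCategory.homologyFunctor _ i).mapIso c'')

end GrothLib.FMAdj25
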