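import Groth.Agent.S3637
import Groth.Agent.S3624
import Groth.Agent.Lib.Gor.Basic
import Groth.Agent.Lib.FMAdj25.LocUnitDeg
import Groth.Agent.Lib.FMAdj25.KilledTensor
import Groth.Agent.Lib.RightAdj22.TopRepApps
import Groth.Agent.Lib.ShriekBridge22.FieldPoints2
import Groth.Agent.Lib.SerrePn27.Dualizing
import Groth.Agent.Lib.DualQCoh12.Push

/-! # Dualizing modules of closed subschemes of the same dimension -/

set_option autoImplicit false
set_option maxHeartbeats 1000000
set_option linter.style.haveILetI false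
set_option linter.style.haveILetI false
set_option backward.isDefEq.respectTransparency false
universe u

open CategoryTheory CategoryTheory.Limits AlgebraicGeometry

attribute [local instance] HasDerivedCategory.standard

noncomputable section

namespace GrothLib.FMAdj25

variable {k : Type u} [Field k]

/-- The top trace of the dualizing module. -/
theorem exists_trace_dim {X : Scheme.{u}} (π : X ⟶ Spec (CommRingCat.of k)) [IsProper π]
    [DCoh.HasRpush π] (h : DCoh.RpushPreservesQCoh π) [DCoh.HasShriek π h]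
    (OY : DCoh.DQCoh (Spec (CommRingCat.of k)))
    (hOY : Nonempty (OY.obj ≅ DCoh.inD (Spec (CommRingCat.of k)) (Coh.structureModule (Spec (CommRingCat.of k)))))
    (d : ℕ) (hdim : topologicalKrullDim X ≤ ((d : ℕ) : WithBot ℕ∞)) :
    letI : X.Over (Spec (CommRingCat.of k)) := ⟨π⟩
    ∃ t : Coh.HH X (DCoh.dualizingMod π h OY d) d →ₗ[k] k,
      ∀ F : X.Modules, Coh.IsQCoh F → ∀ ψ : Coh.HH X F d →ₗ[k] k,
      ∃! φ : F ⟶ DCoh.dualizingMod π h OY d,
        ∀ x, ψ x = t (Sheaf.H.map ((SheafOfModules.toSheaf X.ringCatSheaf).map φ) d x) := by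
  letI : X.Over (Spec (CommRingCat.of k)) := ⟨π⟩
  obtain ⟨eO⟩ := hOY
  haveI : OY.obj.IsGE 0 := ShriekBridge22.isGE_zero_of_iso_structure ⟨eO⟩
  have key : ∀ z : ℤ, z = (0 : ℤ) - (d : ℤ) →
      ∃ t : Coh.HH X (DCoh.HD ((DCoh.shriek π h).obj OY).obj z) d →ₗ[k] k,
      ∀ F : X.Modules, Coh.IsQCoh F → ∀ ψ : Coh.HH X F d →ₗ[k] k,
      ∃! φ : F ⟶ DCoh.HD ((DCoh.shriek π h).obj OY).obj z,
        ∀ x, ψ x = t (Sheaf.H.map ((SheafOfModules.toSheaf X.ringCatSheaf).map φ) d x) := by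
    rintro z rfl
    obtain ⟨t, ht⟩ := RightAdj22.exists_topPair π h (DCoh.shriekAdj π h) OY 0 d
      (fun M hM q hq => RightAdj22.isZero_Rpush_of_fibreDim π d
        (fun s => ((π.fiberι s).isEmbedding.isInducing.topologicalKrullDim_le).trans hdim) M hM q hq)
      (ModuleCat.of k k)
      ((moduleSpecΓFunctor (R := CommRingCat.of k)).mapIso
        ((DerivedCategory.homologyFunctor _ 0).mapIso eO ≪≫
          (DerivedCategory.singleFunctorCompHomologyFunctorIso (Spec (CommRingCat.of k)).Modules 0).app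
            (Coh.structureModule (Spec (CommRingCat.of k)))) ≪≫
        RightAdj22.gammaStructureIso (CommRingCat.of k))
    exact ⟨t, ht⟩
  exact key _ (zero_sub _).symm

/-- The dualizing module of a Gorenstein proper scheme is invertible. -/
theorem isInvertible_dualizingMod {Z : Scheme.{u}} (π : Z ⟶ Spec (CommRingCat.of k)) [IsProper π] (d : ℕ)
    (hZdim : ∀ T ∈ irreducibleComponents (Z : Type u), topologicalKrullDim T = d)
    (hgor : ∀ z : Z, LocCoh.IsGorensteinLocalRing (Z.presheaf.stalk z))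
    [DCoh.HasRpush π] (h : DCoh.RpushPreservesQCoh π) [DCoh.HasShriek π h]
    (OY : DCoh.DQCoh (Spec (CommRingCat.of k)))
    (hOY : Nonempty (OY.obj ≅ DCoh.inD (Spec (CommRingCat.of k)) (Coh.structureModule (Spec (CommRingCat.of k))))) :
    PicF.IsInvertible (DCoh.dualizingMod π h OY d) := by
  obtain ⟨eY⟩ := hOY
  haveI : AlgebraicGeometry.IsNoetherian Z := RightAdj22.isNoetherian_of_proper π
  have hG : Dual3.IsGorenstein Z := ⟨inferInstance, hgor⟩
  have hl := locUnit_dualizingCx π (Groth.Agent.S3624.result _ _ π hG).1 h OY eY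
  have hdeg := (Groth.Agent.S3637.result k Z π
    (fun x => haveI := hgor x; Gor.isCohenMacaulayLocalRing _) d hZdim h _ (DCoh.shriekAdj π h) OY ⟨eY⟩).1
  exact (exists_invertible_single hl hdeg).1

variable {Z X : Scheme.{u}} (π : Z ⟶ Spec (CommRingCat.of k)) [IsProper π] (i : X ⟶ Z) [IsClosedImmersion i]
  (d : ℕ)

set_option synthInstance.maxHeartbeats 100000 in
/-- The dualizing module of a closed subscheme is the killed part of the dualizing module. -/
theorem nonempty_dualizingMod_iso_homO [Dual3.HasHomO i] (hdZ : topologicalKrullDim Z ≤ ((d : ℕ) : WithBot ℕ∞))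
    [DCoh.HasRpush π] (hZ : DCoh.RpushPreservesQCoh π) [DCoh.HasShriek π hZ]
    [DCoh.HasRpush (i ≫ π)] (hX : DCoh.RpushPreservesQCoh (i ≫ π)) [DCoh.HasShriek (i ≫ π) hX]
    (OY : DCoh.DQCoh (Spec (CommRingCat.of k)))
    (hOY : Nonempty (OY.obj ≅ DCoh.inD (Spec (CommRingCat.of k)) (Coh.structureModule (Spec (CommRingCat.of k)))))
    (hq : Coh.IsQCoh ((Dual3.homO i).obj (DCoh.dualizingMod π hZ OY d))) :
    Nonempty (DCoh.dualizingMod (i ≫ π) hX OY d ≅ (Dual3.homO i).obj (DCoh.dualizingMod π hZ OY d)) := by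
  letI : Z.Over (Spec (CommRingCat.of k)) := ⟨π⟩
  letI : X.Over (Spec (CommRingCat.of k)) := ⟨i ≫ π⟩
  let ωX := DCoh.dualizingMod (i ≫ π) hX OY d
  let ωZ := DCoh.dualizingMod π hZ OY d
  have hdX : topologicalKrullDim X ≤ ((d : ℕ) : WithBot ℕ∞) :=
    (i.isEmbedding.isInducing.topologicalKrullDim_le).trans hdZ
  obtain ⟨tX, hX'⟩ := exists_trace_dim (i ≫ π) hX OY hOY d hdX
  obtain ⟨tZ, hZ'⟩ := exists_trace_dim π hZ OY hOY d hdZ
  obtain ⟨e, he⟩ := DualQCoh12.exists_natural_push_equiv (A := k) i rfl d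
  have qX : Coh.IsQCoh ωX := (ShriekBridge22.isCoh_HD_adjoint _ hX (DCoh.shriekAdj _ hX) OY hOY _).1
  let push := Scheme.Modules.pushforward i
  have qp : ∀ G : X.Modules, Coh.IsQCoh G → Coh.IsQCoh (push.obj G) := fun G hG =>
    haveI : G.IsQuasicoherent := hG
    QCoh.isQuasicoherent_pushforward i G
  obtain ⟨u₀, hu₀, -⟩ := hZ' (push.obj ωX) (qp _ qX) (tX ∘ₗ (e ωX qX).symm.toLinearMap)
  have univ : ∀ (G : X.Modules) (hG : Coh.IsQCoh G) (ψ : push.obj G ⟶ ωZ),
      ∃! φ : G ⟶ ωX, push.map φ ≫ u₀ = ψ := by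
    intro G hG ψ
    let mZ : ∀ φ' : push.obj G ⟶ ωZ, Coh.HH X G d → k := fun φ' x =>
      tZ (Sheaf.H.map ((SheafOfModules.toSheaf Z.ringCatSheaf).map φ') d (e G hG x))
    have hm : ∀ (φ : G ⟶ ωX) (x : Coh.HH X G d), tX (Canon.HHlin k φ d x) = mZ (push.map φ ≫ u₀) x := by
      intro φ x
      have h1 := hu₀ (e ωX qX (Canon.HHlin k φ d x))
      rw [LinearMap.comp_apply, LinearEquiv.coe_coe, LinearEquiv.symm_apply_apply] at h1
      rw [h1, he G ωX hG qX φ x]
      show tZ (Sheaf.H.map _ d (Sheaf.H.map _ d (e G hG x))) = tZ (Sheaf.H.map _ d (e G hG x))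
      rw [Functor.map_comp, Sheaf.H.map_comp_apply]
    obtain ⟨φ, hφ, huniq⟩ := hX' G hG (tZ ∘ₗ Canon.HHlin k ψ d ∘ₗ (e G hG).toLinearMap)
    refine ⟨φ, ?_, fun φ' hφ' => huniq φ' fun x => ?_⟩
    · obtain ⟨χ, -, hu⟩ := hZ' (push.obj G) (qp G hG) (tZ ∘ₗ Canon.HHlin k ψ d)
      refine (hu _ fun y => ?_).trans (hu ψ fun y => rfl).symm
      obtain ⟨x, rfl⟩ := (e G hG).surjective y
      exact (hφ x).trans (hm φ x)
    · have := hm φ' x
      rw [hφ'] at this
      exact this.symm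
  let adj := Dual3.homOAdj i
  let H := (Dual3.homO i).obj ωZ
  obtain ⟨a, ha, -⟩ := univ H hq (adj.counit.app ωZ)
  let b : ωX ⟶ H := adj.homEquiv _ _ u₀
  have hb : push.map b ≫ adj.counit.app ωZ = u₀ :=
    (adj.homEquiv_counit _ _ _).symm.trans ((adj.homEquiv _ _).symm_apply_apply u₀)
  refine ⟨{ hom := b, inv := a, hom_inv_id := ?_, inv_hom_id := ?_ }⟩
  · exact (univ ωX qX u₀).unique (by rw [Functor.map_comp, Category.assoc, ha, hb])
      (by rw [CategoryTheory.Functor.map_id, Category.id_comp])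
  · apply (adj.homEquiv _ _).symm.injective
    rw [adj.homEquiv_counit, adj.homEquiv_counit, Functor.map_comp, Category.assoc, hb, ha, CategoryTheory.Functor.map_id,
      Category.id_comp]

end GrothLib.FMAdj25
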