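import Groth.Agent.Lib.FMAdj25.Residual
import Groth.Agent.Lib.DivProd10.Main
import Groth.Agent.Lib.QCoh.Filtration

/-! # The residual ideal on a linked Cohen–Macaulay subscheme of a Gorenstein scheme -/

set_option autoImplicit false
set_option maxHeartbeats 1000000
set_option linter.style.haveILetI false
set_option backward.isDefEq.respectTransparency false
universe u

open CategoryTheory CategoryTheory.Limits AlgebraicGeometry Opposite

noncomputable section

namespace GrothLib.FMAdj25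

open GrothLib.InvExt (mres fres)

variable {Z : Scheme.{u}} [IsLocallyNoetherian Z] (IX IW : Z.IdealSheafData)
    (hW : ∀ U : Z.affineOpens, IW.ideal U = (IX.ideal U).annihilator)
    (hgen : ∀ T (hT : T ∈ irreducibleComponents (IX.subscheme : Type u)),
      Subsingleton ((ClSub.idealMod IX).presheaf.stalk (IX.subschemeι.base hT.1.genericPoint)))

include hgen in
omit [IsLocallyNoetherian Z] in
theorem subsingleton_stalk_generic (η : IX.subscheme) (hη : η ∈ genericPoints (IX.subscheme : Type u)) :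
    Subsingleton ((ClSub.idealMod IX).presheaf.stalk (IX.subschemeι.base η)) := by
  have h0 := hgen _ hη
  rwa [(IsIrreducible.isGenericPoint_genericPoint hη.1 isClosed_closure).eq isGenericPoint_closure] at h0

include hgen in
omit [IsLocallyNoetherian Z] in
theorem exists_smul_eq_zero_generic (U : Z.affineOpens) (η : IX.subscheme) (hη : η ∈ genericPoints (IX.subscheme : Type u))
    (hU : IX.subschemeι η ∈ U.1) (a : Γ(Z, U.1)) (ha : a ∈ IX.ideal U) :
    ∃ s : Γ(Z, U.1), s ∉ WeakAss.primeAt (IX.subschemeι η) hU ∧ s * a = 0 := by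
  obtain ⟨a', rfl⟩ := IdealModSec.exists_val_eq IX U ha
  haveI := subsingleton_stalk_generic IX hgen η hη
  haveI := U.2.isLocalization_stalk ⟨IX.subschemeι η, hU⟩
  have h1 : (ClSub.idealMod IX).presheaf.germ U.1 (IX.subschemeι η) hU a' = 0 := Subsingleton.elim _ _
  obtain ⟨T, hT, i₁, i₂, h2⟩ := (ClSub.idealMod IX).presheaf.germ_eq _ hU hU a' 0 (Subsingleton.elim _ _)
  have h3 : fres Z i₁.le (IdealModSec.val IX U.1 a') = 0 := by
    rw [← IdealModSec.val_mres]
    exact (congrArg (IdealModSec.val IX T) (h2.trans (map_zero _))).trans (IdealModSec.val_zero IX T)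
  have h4 : Z.presheaf.germ U.1 (IX.subschemeι η) hU (IdealModSec.val IX U.1 a') = 0 := by
    rw [← TopCat.Presheaf.germ_res_apply Z.presheaf i₁ (IX.subschemeι η) hT]
    exact (congrArg (Z.presheaf.germ T _ hT) h3).trans (map_zero _)
  let _ := TopCat.Presheaf.algebra_section_stalk Z.presheaf (⟨IX.subschemeι η, hU⟩ : U.1)
  obtain ⟨⟨s, hs⟩, hsa⟩ := (IsLocalization.map_eq_zero_iff
    (U.2.primeIdealOf ⟨IX.subschemeι η, hU⟩).asIdeal.primeCompl (Z.presheaf.stalk (IX.subschemeι η)) _).1 h4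
  refine ⟨s, ?_, hsa⟩
  have he := congrArg PrimeSpectrum.asIdeal (QCoh.primeAt_eq_primeIdealOf U.2 hU)
  dsimp at he
  rw [he]
  exact hs

include hgen hW in
/-- The residual scheme avoids the generic points. -/
theorem notMem_support_residual (η : IX.subscheme) (hη : η ∈ genericPoints (IX.subscheme : Type u)) :
    IX.subschemeι η ∉ IW.support := by
  classical
  obtain ⟨U, hU, -⟩ := BlowUp.exists_affine_mem_le (X := Z) (W := ⊤) (x := IX.subschemeι η) trivial
  haveI := IsLocallyNoetherian.component_noetherian U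
  obtain ⟨S, hS⟩ : (IX.ideal U).FG := IsNoetherian.noetherian _
  rw [DivProd10.mem_support_iff_le hU, hW U]
  choose s hs hsa using fun a : S => exists_smul_eq_zero_generic IX hgen U η hη hU a.1
    (hS ▸ Ideal.subset_span a.2)
  intro hle
  have hmem : ∏ a : S, s a ∈ (IX.ideal U).annihilator := by
    rw [Submodule.mem_annihilator]
    intro x hx
    rw [← hS] at hx
    induction hx using Submodule.span_induction with
    | mem x hx =>
      rw [smul_eq_mul, ← Finset.prod_erase_mul _ _ (Finset.mem_univ (⟨x, hx⟩ : S)), mul_assoc, hsa ⟨x, hx⟩, mul_zero]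
    | zero => exact smul_zero _
    | add x y _ _ h₁ h₂ => rw [smul_add, h₁, h₂, add_zero]
    | smul c x _ h => rw [smul_comm, h, smul_zero]
  obtain ⟨a, -, ha⟩ := (Ideal.IsPrime.prod_mem_iff).1 (hle hmem)
  exact hs a ha

include hgen hW in
/-- On a Gorenstein scheme the residual ideal meets the ideal in zero. -/
theorem inf_residual_eq_bot (hgor : ∀ z : Z, LocCoh.IsGorensteinLocalRing (Z.presheaf.stalk z))
    (U : Z.affineOpens) (a : Γ(Z, U.1)) (haX : a ∈ IX.ideal U) (haW : a ∈ IW.ideal U) : a = 0 := by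
  by_contra hne
  let R := Γ(Z, U.1)
  haveI : IsNoetherianRing R := IsLocallyNoetherian.component_noetherian U
  haveI := GorFlat.isGorensteinRing_of_stalks U.2 fun x _ => hgor x
  haveI : LocCoh.IsGorensteinRing (R ⧸ (⊥ : Ideal R)) :=
    GorFlat.isGorensteinRing_of_ringEquiv (RingEquiv.quotientBot R).symm inferInstance
  obtain ⟨P, hP, hle'⟩ := exists_le_isAssociatedPrime_of_isNoetherianRing R
    (Ideal.Quotient.mk (⊥ : Ideal R) a) (by rw [Ne, Ideal.Quotient.eq_zero_iff_mem, Ideal.mem_bot]; exact hne)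
  have hmin := Gor.mem_minimalPrimes_of_mem_associatedPrimes ⊥ hP
  haveI := hP.isPrime
  suffices h : ∃ s, s ∉ P ∧ s * a = 0 by
    obtain ⟨s, hs, hsa⟩ := h
    refine hs (hle' ?_)
    rw [Submodule.mem_colon_singleton, Submodule.mem_bot]
    show Ideal.Quotient.mk (⊥ : Ideal R) (s * a) = 0
    rw [hsa, map_zero]
  by_cases hXP : IX.ideal U ≤ P
  · let y : Z := U.2.fromSpec ⟨P, inferInstance⟩
    have hy : y ∈ U.1 := U.2.range_fromSpec.le ⟨_, rfl⟩
    have hPy : WeakAss.primeAt y hy = P :=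
      (congrArg PrimeSpectrum.asIdeal (QCoh.primeAt_eq_primeIdealOf U.2 hy)).trans
        (congrArg PrimeSpectrum.asIdeal (U.2.fromSpec.isOpenEmbedding.injective (U.2.fromSpec_primeIdealOf ⟨y, hy⟩)))
    have hsupp : y ∈ IX.support := (DivProd10.mem_support_iff_le hy).2 (hPy.symm ▸ hXP)
    rw [← SetLike.mem_coe, ← IX.range_subschemeι] at hsupp
    obtain ⟨η, hηy⟩ := hsupp
    have hgZ : ∀ z : Z, z ⤳ y → z = y := fun z hz => by
      obtain ⟨q, rfl⟩ : z ∈ Set.range U.2.fromSpec := U.2.range_fromSpec ▸ hz.mem_open U.1.2 hy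
      have hle := (PrimeSpectrum.le_iff_specializes _ _).2
        ((U.2.fromSpec.isOpenEmbedding.isInducing.specializes_iff).1 hz)
      exact congrArg U.2.fromSpec (PrimeSpectrum.ext (le_antisymm hle (hmin.2 ⟨q.isPrime, bot_le⟩ hle)))
    have hgη : η ∈ genericPoints (IX.subscheme : Type u) := FinAff13.mem_genericPoints_iff.2 fun z hz =>
      IX.subschemeι.isClosedEmbedding.injective (((hgZ _ (hηy ▸ hz.map IX.subschemeι.continuous))).trans hηy.symm)
    obtain ⟨s, hs, hsa⟩ := exists_smul_eq_zero_generic IX hgen U η hgη (hηy.symm ▸ hy) a haX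
    refine ⟨s, fun hsP => hs ?_, hsa⟩
    have : WeakAss.primeAt (IX.subschemeι η) (hηy.symm ▸ hy) = P := by
      rw [← hPy]; congr 1
    rwa [this]
  · obtain ⟨x, hxX, hxP⟩ := Set.not_subset.1 hXP
    rw [hW U, Submodule.mem_annihilator] at haW
    exact ⟨x, hxP, (mul_comm x a).trans (haW x hxX)⟩

omit [IsLocallyNoetherian Z] in
/-- The residual ideal pulls back to the ideal of its inverse image. -/
theorem nonempty_pullback_residual_of_inf (hdisj : ∀ (U : Z.affineOpens) (a : Γ(Z, U.1)), a ∈ IX.ideal U → a ∈ IW.ideal U → a = 0)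
    (hW : ∀ U : Z.affineOpens, IW.ideal U = (IX.ideal U).annihilator) :
    Nonempty ((Scheme.Modules.pullback IX.subschemeι).obj (ClSub.idealMod IW) ≅
      ClSub.idealMod (IW.comap IX.subschemeι)) := by
  let f := IX.subschemeι
  have hker : f.ker = IX := Scheme.IdealSheafData.ker_subschemeι IX
  let adj := Scheme.Modules.pullbackPushforwardAdjunction f
  let push := Scheme.Modules.pushforward f
  let M := ClSub.idealMod IW
  let L := (Scheme.Modules.pullback f).obj M
  let D := IW.comap f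
  haveI hη : IsIso (adj.unit.app M) := ClosedPush22.isIso_unit_of_killed f M (killed_annihilator f IX IW hker hW)
  let χ : M ⟶ push.obj (Coh.structureModule IX.subscheme) := ClSub.idealModι IW ≫ ClSub.toSubscheme IX
  let j : L ⟶ Coh.structureModule IX.subscheme := (adj.homEquiv _ _).symm χ
  have hj : adj.unit.app M ≫ push.map j = χ := (adj.homEquiv_unit _ _ _).symm.trans ((adj.homEquiv _ _).apply_symm_apply χ)
  have happ : ∀ (U : Z.Opens) (m : Γ(M, U)),
      j.app (f ⁻¹ᵁ U) ((adj.unit.app M).app U m) = f.app U (IdealModSec.val IW U m) := fun U m =>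
    ConcreteCategory.congr_hom (congrArg (fun t => Scheme.Modules.Hom.app t U) hj) m
  have hbij : ∀ U : Z.Opens, Function.Bijective ((adj.unit.app M).app U) := fun U =>
    ConcreteCategory.bijective_of_isIso _
  have hsur : ∀ (U : Z.affineOpens) (x : Γ(IX.subscheme, f ⁻¹ᵁ U.1)),
      x ∈ D.ideal ⟨f ⁻¹ᵁ U.1, U.2.preimage f⟩ ↔ ∃ a ∈ IW.ideal U, f.app U.1 a = x := fun U x => by
    rw [BlowUp.ideal_comap_eq_map IW f U ⟨f ⁻¹ᵁ U.1, U.2.preimage f⟩ le_rfl, Scheme.Hom.appLE_eq_app]
    exact Ideal.mem_map_iff_of_surjective _ (f.app_surjective U.1 U.2)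
  have hinj : ∀ (U : Z.affineOpens) (m : Γ(M, U.1)), f.app U.1 (IdealModSec.val IW U.1 m) = 0 → m = 0 := fun U m hm =>
    IdealModSec.val_injective IW U.1 ((hdisj U _ (by rw [← IX.ker_subschemeι_app U]; exact hm)
      (IdealModSec.val_mem IW U m)).trans (IdealModSec.val_zero IW U.1).symm)
  have hcov : ⨆ U : Z.affineOpens, f ⁻¹ᵁ U.1 = ⊤ := by
    rw [← Scheme.Hom.preimage_iSup, iSup_affineOpens_eq_top, Scheme.Hom.preimage_top]
  haveI : M.IsQuasicoherent := H1Sheaf6.isQuasicoherent_idealMod IW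
  haveI hLq : L.IsQuasicoherent := FittSheaf.isQuasicoherent_pullback f M
  have hzero : j ≫ ClSub.toSubscheme D = 0 := by
    have hB : TopologicalSpace.Opens.IsBasis (Set.range fun U : Z.affineOpens => f ⁻¹ᵁ U.1) := by
      refine TopologicalSpace.Opens.isBasis_iff_nbhd.2 fun {V x} hx => ?_
      obtain ⟨W, rfl⟩ := K0Sub.exists_preimage f V
      obtain ⟨U, hxU, hUW⟩ := BlowUp.exists_affine_mem_le (show f x ∈ W from hx)
      exact ⟨_, ⟨U, rfl⟩, hxU, f.preimage_mono hUW⟩
    refine AffHom.hom_ext_basis (B := fun U : Z.affineOpens => f ⁻¹ᵁ U.1) hB fun U l => ?_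
    obtain ⟨m, rfl⟩ := (hbij U.1).2 l
    show D.subschemeι.app (f ⁻¹ᵁ U.1) (j.app (f ⁻¹ᵁ U.1) ((adj.unit.app M).app U.1 m)) = 0
    rw [happ]
    have : f.app U.1 (IdealModSec.val IW U.1 m) ∈ D.ideal ⟨f ⁻¹ᵁ U.1, U.2.preimage f⟩ :=
      (hsur U _).2 ⟨_, IdealModSec.val_mem IW U m, rfl⟩
    rwa [← D.ker_subschemeι_app ⟨f ⁻¹ᵁ U.1, U.2.preimage f⟩] at this
  let g : L ⟶ ClSub.idealMod D := kernel.lift _ j hzero
  have hg : ∀ (V : IX.subscheme.Opens) (l : Γ(L, V)), IdealModSec.val D V (g.app V l) = j.app V l := fun V l =>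
    ConcreteCategory.congr_hom (congrArg (fun t => Scheme.Modules.Hom.app t V) (kernel.lift_ι _ j hzero)) l
  haveI := H1Sheaf6.isQuasicoherent_idealMod D
  haveI : IsIso g := by
    refine QCoh.isIso_of_bijective_on_cover g (fun U : Z.affineOpens => f ⁻¹ᵁ U.1) hcov (fun U => U.2.preimage f)
      fun U => ⟨(injective_iff_map_eq_zero _).2 fun l hl => ?_, fun d => ?_⟩
    · obtain ⟨m, rfl⟩ := (hbij U.1).2 l
      have h1 := hg (f ⁻¹ᵁ U.1) ((adj.unit.app M).app U.1 m)
      rw [hl, IdealModSec.val_zero, happ] at h1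
      rw [hinj U m h1.symm]
      exact map_zero _
    · obtain ⟨a, ha, hax⟩ := (hsur U _).1 (IdealModSec.val_mem D ⟨f ⁻¹ᵁ U.1, U.2.preimage f⟩ d)
      obtain ⟨m, rfl⟩ := IdealModSec.exists_val_eq IW U ha
      refine ⟨(adj.unit.app M).app U.1 m, IdealModSec.val_injective D _ ?_⟩
      rw [hg, happ]
      exact hax
  exact ⟨asIso g⟩

end GrothLib.FMAdj25
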