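import Groth.Agent.S17671
import Groth.Agent.Lib.FMAdj25.Basic
import Groth.Agent.Lib.FMAdj25.Residual2
import Groth.Agent.Lib.CurveSerre11.Numbers
import Groth.Agent.Lib.SubCurve16.Stalk
import Groth.Agent.Lib.Snapper.Intersection
import Groth.Agent.Lib.EulerLin16.Main
import Groth.Agent.Lib.RelDiv.Degree
import Groth.Agent.Lib.PPGen.Sections
import Groth.Agent.Lib.CMReg.StructureMain
import Groth.Agent.Lib.CMBasics.Basic
import Groth.Agent.Lib.Euler.TensorSupport
import Groth.Agent.Lib.RegPow10.Main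

/-! # The numerical formula for linked curves -/

set_option autoImplicit false
set_option maxHeartbeats 1000000
set_option linter.style.haveILetI false
set_option backward.isDefEq.respectTransparency false
universe u

open CategoryTheory CategoryTheory.Limits AlgebraicGeometry

attribute [local instance] HasDerivedCategory.standard

noncomputable section

namespace GrothLib.FMAdj25

variable {k : Type u} [Field k]

theorem euler_eq_ch {X : Scheme.{u}} [X.Over (Spec (CommRingCat.of k))] [IsProper (X ↘ Spec (CommRingCat.of k))]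
    (hd : topologicalKrullDim X ≤ 1) {F : X.Modules} (hF : Coh.IsCoh F) :
    Curv2.euler k X F = EulerLin16.ch k F := by
  haveI := hF.1
  haveI := Euler.isNoetherian_of_proper (X := X) k
  haveI := fun n => Euler.finiteDimensional_HH k hF n
  rw [Euler.euler_eq_sub k hd, EulerLin16.ch, Module.length_eq_finrank, Module.length_eq_finrank]
  rfl

/-- The degree of the twists pulled back to a curve. -/
theorem euler_pullback_twist {X : Scheme.{u}} [X.Over (Spec (CommRingCat.of k))] [IsProper (X ↘ Spec (CommRingCat.of k))]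
    (hd : topologicalKrullDim X ≤ 1) {n : ℕ} (g : X ⟶ CohB1.ProjSpace n k) (m : ℤ) :
    Curv2.euler k X ((Scheme.Modules.pullback g).obj (Twist.twistProjSpace n k m)) =
      Curv2.euler k X (Coh.structureModule X) +
        m * Curv2.deg k X ((Scheme.Modules.pullback g).obj (Twist.twistProjSpace n k 1)) 1 := by
  haveI := Euler.isNoetherian_of_proper (X := X) k
  let N : ℤ → X.Modules := fun a => (Scheme.Modules.pullback g).obj (Twist.twistProjSpace n k a)
  have hN : ∀ a, PicF.IsInvertible (N a) := fun a => RelProjK.isInvertible_pullback g (CMReg.isInvertible_twist a)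
  let D : ℤ → ℤ := fun a => EulerLin16.deg k (N a)
  have hadd : ∀ a b, D (a + b) = D a + D b := fun a b => by
    obtain ⟨e⟩ := CMReg.nonempty_twist_add (n := n) (k := k) (rfl : a + b = a + b)
    obtain ⟨p⟩ := Ample.nonempty_pullback_tensorMod g (CMReg.isInvertible_twist (n := n) (k := k) a)
      (CMReg.isInvertible_twist b)
    show EulerLin16.deg k (N (a + b)) = _
    rw [← EulerLin16.deg_tensorMod k hd (hN a) (hN b), EulerLin16.deg, EulerLin16.deg,
      EulerLin16.ch_of_iso k (((Scheme.Modules.pullback g).mapIso e).symm ≪≫ p)]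
  have hm : D m = m * D 1 := by
    have := map_zsmul (AddMonoidHom.mk' D hadd) m 1
    simpa using this
  have he : ∀ a, Curv2.euler k X (N a) = Curv2.euler k X (Coh.structureModule X) + D a := fun a => by
    have hc := fun a => Euler.isCoh_of_isInvertible (hN a)
    rw [euler_eq_ch hd (hc a), euler_eq_ch hd (HomSh.isCoh_structureModule X)]
    show _ = _ + (EulerLin16.ch k (N a) - EulerLin16.ch k (Coh.structureModule X))
    ring
  rw [he m, hm, Curv2.deg, he 1]
  push_cast
  ring

/-- Reduced curves are Cohen–Macaulay. -/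
theorem isCM_stalk_of_reduced {X : Scheme.{u}} [IsLocallyNoetherian X] [AlgebraicGeometry.IsReduced X]
    (hdim : topologicalKrullDim X ≤ 1) (x : X) : LocCoh.IsCohenMacaulayLocalRing (X.presheaf.stalk x) := by
  obtain ⟨U, hU, hxU, -⟩ := exists_isAffineOpen_mem_and_subset (x := x) (U := ⊤) trivial
  have hd : ringKrullDim (X.presheaf.stalk x) ≤ 1 := by
    let _ := TopCat.Presheaf.algebra_section_stalk X.presheaf (⟨x, hxU⟩ : U)
    haveI := hU.isLocalization_stalk ⟨x, hxU⟩
    rw [IsLocalization.AtPrime.ringKrullDim_eq_height (hU.primeIdealOf ⟨x, hxU⟩).asIdeal (X.presheaf.stalk x)]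
    exact (Ideal.height_le_ringKrullDim_of_ne_top Ideal.IsPrime.ne_top').trans
      ((GrothLib.Dim.topologicalKrullDim_affineOpen hU).symm.le.trans ((topologicalKrullDim_subspace_le X U).trans hdim))
  refine { supportDim_eq_depth := le_antisymm ?_ (Depth.depth_le_supportDim _ _) }
  rw [Module.supportDim_self_eq_ringKrullDim]
  by_cases hf : IsField (X.presheaf.stalk x)
  · rw [ringKrullDim_eq_zero_of_isField hf]
    exact WithBot.coe_le_coe.2 bot_le
  · refine hd.trans (WithBot.coe_le_coe.2 ?_)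
    exact Order.one_le_iff_pos.2 (pos_iff_ne_zero.2 fun h0 => hf (CMBasics.depth_self_eq_zero_iff.1 h0))

set_option maxHeartbeats 4000000 in
/-- `-2 χ(O_X) = m deg X - χ(O_{X ∩ W})`. -/
theorem linked_formula (n : ℕ) (IZ : (CohB1.ProjSpace n k).IdealSheafData)
    (hZdim : ∀ T ∈ irreducibleComponents (IZ.subscheme : Type u), topologicalKrullDim T = 1)
    (hZgor : ∀ z : IZ.subscheme, LocCoh.IsGorensteinLocalRing (IZ.subscheme.presheaf.stalk z))
    [DCoh.HasRpush (IZ.subschemeι ≫ CohB1.ProjSpace.toSpec n k)]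
    (hZ : DCoh.RpushPreservesQCoh (IZ.subschemeι ≫ CohB1.ProjSpace.toSpec n k))
    [DCoh.HasShriek (IZ.subschemeι ≫ CohB1.ProjSpace.toSpec n k) hZ]
    (OY : DCoh.DQCoh (Spec (CommRingCat.of k)))
    (hOY : Nonempty (OY.obj ≅ DCoh.inD (Spec (CommRingCat.of k)) (Coh.structureModule (Spec (CommRingCat.of k)))))
    (m : ℤ) (hωZ : Nonempty (DCoh.dualizingMod (IZ.subschemeι ≫ CohB1.ProjSpace.toSpec n k) hZ OY 1 ≅
      (Scheme.Modules.pullback IZ.subschemeι).obj (Twist.twistProjSpace n k m)))
    (IX : IZ.subscheme.IdealSheafData)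
    (hXdim : ∀ T ∈ irreducibleComponents (IX.subscheme : Type u), topologicalKrullDim T = 1)
    (hXcm : ∀ x : IX.subscheme, LocCoh.IsCohenMacaulayLocalRing (IX.subscheme.presheaf.stalk x))
    (hgen : ∀ T (hT : T ∈ irreducibleComponents (IX.subscheme : Type u)),
      Subsingleton ((ClSub.idealMod IX).presheaf.stalk (IX.subschemeι.base hT.1.genericPoint)))
    (IW : IZ.subscheme.IdealSheafData) (hW : ∀ U : IZ.subscheme.affineOpens, IW.ideal U = (IX.ideal U).annihilator) :
    (-2 : ℤ) * @Curv2.euler k _ IX.subscheme ⟨IX.subschemeι ≫ IZ.subschemeι ≫ CohB1.ProjSpace.toSpec n k⟩ (Coh.structureModule IX.subscheme) =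
      m * @Curv2.deg k _ IX.subscheme ⟨IX.subschemeι ≫ IZ.subschemeι ≫ CohB1.ProjSpace.toSpec n k⟩ ((Scheme.Modules.pullback (IX.subschemeι ≫ IZ.subschemeι)).obj (Twist.twistProjSpace n k 1)) 1 - @Curv2.euler k _ (IX ⊔ IW).subscheme ⟨(IX ⊔ IW).subschemeι ≫ IZ.subschemeι ≫ CohB1.ProjSpace.toSpec n k⟩ (Coh.structureModule (IX ⊔ IW).subscheme) := by
  let π := IZ.subschemeι ≫ CohB1.ProjSpace.toSpec n k
  let f := IX.subschemeι
  let X := IX.subscheme
  haveI : IsProper (CohB1.ProjSpace.toSpec n k) := Chow.isProper_toSpec n k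
  haveI : IsProper π := inferInstance
  haveI : IsLocallyNoetherian IZ.subscheme := LocallyOfFiniteType.isLocallyNoetherian π
  letI : IZ.subscheme.Over (Spec (CommRingCat.of k)) := ⟨π⟩
  haveI : IsProper (IZ.subscheme ↘ Spec (CommRingCat.of k)) := inferInstanceAs (IsProper π)
  letI : X.Over (Spec (CommRingCat.of k)) := ⟨f ≫ π⟩
  haveI : IsProper (X ↘ Spec (CommRingCat.of k)) := inferInstanceAs (IsProper (f ≫ π))
  haveI := Euler.isNoetherian_of_proper (X := X) k
  have hd : topologicalKrullDim X ≤ 1 := SerrePn27.topologicalKrullDim_le_of_components fun T hT => (hXdim T hT).le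
  haveI : DCoh.HasRpush (f ≫ π) := KInj.hasRightDerivedFunctor _
  let hX := rpushPreservesQCoh (f ≫ π)
  haveI : DCoh.HasShriek (f ≫ π) hX :=
    ((RightAdj22.aQAdj (f ≫ π)).ofNatIsoLeft (RightAdj22.rpushQIso (f ≫ π) hX).symm).isLeftAdjoint
  haveI : DCoh.HasRpush (IZ.subscheme ↘ Spec (CommRingCat.of k)) := ‹DCoh.HasRpush π›
  haveI : DCoh.HasShriek (IZ.subscheme ↘ Spec (CommRingCat.of k)) hZ := ‹DCoh.HasShriek π hZ›
  haveI : DCoh.HasRpush (IX.subschemeι ≫ (IZ.subscheme ↘ Spec (CommRingCat.of k))) := ‹DCoh.HasRpush (f ≫ π)›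
  haveI : DCoh.HasShriek (IX.subschemeι ≫ (IZ.subscheme ↘ Spec (CommRingCat.of k))) hX := ‹DCoh.HasShriek (f ≫ π) hX›
  haveI : DCoh.HasRpush (X ↘ Spec (CommRingCat.of k)) := ‹DCoh.HasRpush (f ≫ π)›
  haveI : DCoh.HasShriek (X ↘ Spec (CommRingCat.of k)) hX := ‹DCoh.HasShriek (f ≫ π) hX›
  obtain ⟨e⟩ := Groth.Agent.S17671.result k IZ.subscheme 1 hZdim hZgor IX hXdim hXcm hgen IW hW hZ hX OY hOY
  obtain ⟨eω⟩ := hωZ
  have hω : PicF.IsInvertible (DCoh.dualizingMod π hZ OY 1) :=
    RelProjK.isInvertible_of_iso eω (RelProjK.isInvertible_pullback _ (CMReg.isInvertible_twist m))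
  have hker : f.ker = IX := Scheme.IdealSheafData.ker_subschemeι IX
  obtain ⟨t⟩ := nonempty_pullback_tensor_of_killed f (killed_annihilator f IX IW hker hW) hω
  obtain ⟨g⟩ := nonempty_pullback_residual_of_inf IX IW (inf_residual_eq_bot IX IW hW hgen hZgor) hW
  let D := IW.comap f
  let N := (Scheme.Modules.pullback (f ≫ IZ.subschemeι)).obj (Twist.twistProjSpace n k m)
  have hN : PicF.IsInvertible N := RelProjK.isInvertible_pullback _ (CMReg.isInvertible_twist m)
  let ω := DCoh.dualizingMod (f ≫ π) hX OY 1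
  let eX : ω ≅ (Euler.tF N).obj (ClSub.idealMod D) := e ≪≫ t ≪≫ PicGrp.tensorModIso g
    ((Scheme.Modules.pullback f).mapIso eω ≪≫ (Scheme.Modules.pullbackComp f IZ.subschemeι).app _)
  -- duality
  have hdual : Curv2.euler k X ω = - Curv2.euler k X (Coh.structureModule X) := by
    haveI : ω.IsQuasicoherent := (CurveSerre11.isCoh_omega (X := X) hX OY hOY).1
    haveI := (HomSh.isCoh_structureModule X).1
    rw [Euler.euler_eq_sub k hd, Euler.euler_eq_sub k hd]
    have h0 := CurveSerre11.finrank_HH_zero_omega hX OY hOY hd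
    have h1 := CurveSerre11.finrank_HH_one_omega hX OY hOY hd (CurveSerre11.badSet_eq_empty hX OY hOY hXcm hXdim)
    change (Module.finrank k (Coh.HH X ω 0) : ℕ) = Module.finrank k (Coh.HH X (Coh.structureModule X) 1) at h0
    change (Module.finrank k (Coh.HH X ω 1) : ℕ) = Module.finrank k (Coh.HH X (Coh.structureModule X) 0) at h1
    omega
  -- the intersection is finite
  have hQ : Coh.IsCoh (ClSub.quotMod D) := Snapper.isCoh_quotMod k D
  obtain ⟨hfin, hcl⟩ := SubCurve16.finite_of_notMem_genericPoints k hd (QCoh.isClosed_support_of_isCoh hQ)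
    fun η hη h => by
      have h' := Snapper.support_quotMod D h
      rw [Scheme.IdealSheafData.support_comap] at h'
      exact notMem_support_residual IX IW hW hgen η hη h'
  -- the sequence of the intersection
  haveI := Euler.epi_toSubscheme D
  have hseq : (ShortComplex.mk (ClSub.idealModι D) (ClSub.toSubscheme D) (kernel.condition _)).ShortExact :=
    { exact := ShortComplex.exact_of_f_is_kernel _ (kernelIsKernel _)
      mono_f := inferInstanceAs (Mono (kernel.ι _)) }
  have hlf := Euler.isFinLocFree_of_isInvertible hN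
  have hsum := Euler.euler_additive k (OX.tensor_map_shortExact (OX.flat_of_isFinLocFree hlf) hseq)
    (Euler.isCoh_tF (RegPow.isCoh_idealMod D) hlf) (Euler.isCoh_tF (HomSh.isCoh_structureModule X) hlf)
    (Euler.isCoh_tF hQ hlf)
  simp only [ShortComplex.map_X₁, ShortComplex.map_X₂, ShortComplex.map_X₃] at hsum
  have hNO : Curv2.euler k X ((Euler.tF N).obj (Coh.structureModule X)) = Curv2.euler k X N :=
    Euler.euler_of_iso k (OX.tensorUnitLeftIso N)
  have hNQ : Curv2.euler k X ((Euler.tF N).obj (ClSub.quotMod D)) = Curv2.euler k X (ClSub.quotMod D) := by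
    rw [Euler.euler_tF_of_finite_support k (Euler.isFinLocFreeOfRank_one' hN) hQ hfin hcl, Nat.cast_one, one_mul]
  have hsum' : Curv2.euler k X ((Euler.tF N).obj (Coh.structureModule X)) =
      Curv2.euler k X ((Euler.tF N).obj (ClSub.idealMod D)) + Curv2.euler k X ((Euler.tF N).obj (ClSub.quotMod D)) :=
    hsum
  rw [hNO, hNQ, ← Euler.euler_of_iso k eX, hdual, euler_pullback_twist hd (f ≫ IZ.subschemeι) m,
    Snapper.euler_quotMod k D] at hsum'
  -- the intersection subscheme
  have hD : (IX ⊔ IW).comap f = D := by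
    rw [Scheme.IdealSheafData.comap_sup, PPGen.comap_subschemeι_self, bot_sup_eq]
  obtain ⟨i, hi⟩ := RelDiv.exists_iso_comap_subscheme (le_sup_left : IX ≤ IX ⊔ IW)
  have hfin' : @Curv2.euler k _ D.subscheme ⟨D.subschemeι ≫ f ≫ π⟩ (Coh.structureModule D.subscheme) =
      @Curv2.euler k _ (IX ⊔ IW).subscheme ⟨(IX ⊔ IW).subschemeι ≫ π⟩ (Coh.structureModule (IX ⊔ IW).subscheme) := by
    rw [← hD]
    letI : ((IX ⊔ IW).comap f).subscheme.Over (Spec (CommRingCat.of k)) :=
      ⟨((IX ⊔ IW).comap f).subschemeι ≫ f ≫ π⟩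
    letI : (IX ⊔ IW).subscheme.Over (Spec (CommRingCat.of k)) := ⟨(IX ⊔ IW).subschemeι ≫ π⟩
    haveI : IsProper ((IX ⊔ IW).subscheme ↘ Spec (CommRingCat.of k)) :=
      inferInstanceAs (IsProper ((IX ⊔ IW).subschemeι ≫ π))
    haveI := Euler.isNoetherian_of_proper (X := (IX ⊔ IW).subscheme) k
    haveI := Cohom.isQuasicoherent_structureModule ((IX ⊔ IW).comap f).subscheme
    rw [← Snapper.euler_pushforward i.hom (by rw [reassoc_of% hi]; rfl)
      (Coh.structureModule ((IX ⊔ IW).comap f).subscheme)]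
    haveI : IsIso (ClSub.unitToPush i.hom) :=
      Scheme.Modules.Hom.isIso_iff_isIso_app.2 fun U => (ConcreteCategory.isIso_iff_bijective _).2
        (ConcreteCategory.bijective_of_isIso (i.hom.app U))
    exact Euler.euler_of_iso k (asIso (ClSub.unitToPush i.hom)).symm
  have hX' : (f ≫ π : X ⟶ _) = IX.subschemeι ≫ IZ.subschemeι ≫ CohB1.ProjSpace.toSpec n k := rfl
  change (-2 : ℤ) * Curv2.euler k X (Coh.structureModule X) =
    m * Curv2.deg k X ((Scheme.Modules.pullback (f ≫ IZ.subschemeι)).obj (Twist.twistProjSpace n k 1)) 1 -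
      @Curv2.euler k _ (IX ⊔ IW).subscheme ⟨(IX ⊔ IW).subschemeι ≫ π⟩ (Coh.structureModule (IX ⊔ IW).subscheme)
  rw [← hfin']
  change Curv2.euler k X (Coh.structureModule X) + _ = _ + @Curv2.euler k _ D.subscheme ⟨D.subschemeι ≫ f ≫ π⟩ _ at hsum'
  linarith

end GrothLib.FMAdj25
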