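import Groth.Agent.Lib.FMAdj25.UniformVA
import Groth.Agent.Lib.Euler.GenericCompare
import Groth.Agent.Lib.Euler.TensorSupport
import Groth.Agent.Lib.Snapper.AvoidAll
import Groth.Agent.Lib.CMReg.NegGrowth
import Groth.Agent.Lib.CMReg.Free
import Groth.Agent.Lib.FormalExist7.PushTwist
import Groth.Agent.Lib.SerreVanish.Main
import Groth.Agent.Lib.UnifVanish7.Convert
import Groth.Agent.Lib.SubCurve16.Subcurve
import Groth.Agent.Lib.SubCurve16.Stalk
import Groth.Agent.Lib.FunFlat8.FreeGen
import Groth.Agent.Lib.FormalFun.HomComplete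

/-!
# Coherent modules of uniform multirank embed in sums of powers of an ample module
-/

universe u

set_option autoImplicit false
set_option linter.all false
set_option backward.isDefEq.respectTransparency false
set_option maxHeartbeats 1000000

open CategoryTheory CategoryTheory.Limits AlgebraicGeometry TopologicalSpace Opposite

noncomputable section

namespace GrothLib.FMAdj25

open GrothLib.QCoh (stalkLin)
open GrothLib.Euler (tF)
open GrothLib.FinCov (IsFrame)
open GrothLib.Ample (Cocycle res)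
open GrothLib.InvExt (mres)

variable (k : Type u) [Field k] {X : Scheme.{u}} [X.Over (Spec (CommRingCat.of k))]
  [IsProper (X ↘ Spec (CommRingCat.of k))]

include k in
/-- A coherent module free of rank `n` at the generic points is trivial near them. -/
theorem exists_trivial_of_stalks {n : ℕ} {E : X.Modules} (hF : Coh.IsCoh E)
    (hgen : ∀ η ∈ genericPoints (X : Type u),
      Nonempty (E.presheaf.stalk η ≃ₗ[X.presheaf.stalk η] (Fin n → X.presheaf.stalk η))) :
    ∃ U : X.Opens, genericPoints (X : Type u) ⊆ U ∧ Nonempty (E.restrict U.ι ≅ FlatMod.freeMod (↑U) n) := by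
  classical
  have := Euler.isNoetherian_of_proper (X := X) k
  have hfin : (genericPoints (X : Type u)).Finite :=
    genericPoints.finite NoetherianSpace.finite_irreducibleComponents
  haveI := hfin.to_subtype
  choose D e hxD he using fun η : genericPoints (X : Type u) =>
    Euler.exists_frame_of_stalk_basis hF (Module.Basis.ofEquivFun (hgen η.1 η.2).some)
  let C : genericPoints (X : Type u) → Set X := fun η =>
    ⋃ η' ∈ (genericPoints (X : Type u) \ {η.1}), closure ({η'} : Set X)
  let W : genericPoints (X : Type u) → X.Opens := fun η =>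
    D η ⊓ ⟨(C η)ᶜ, ((hfin.subset Set.diff_subset).isClosed_biUnion fun _ _ => isClosed_closure).isOpen_compl⟩
  have hηW : ∀ η, η.1 ∈ W η := fun η => ⟨hxD η, fun hmem => by
    obtain ⟨η', ⟨hη', hne⟩, h⟩ := Set.mem_iUnion₂.mp hmem
    have hle : closure ({η.1} : Set X) ≤ closure {η'} :=
      closure_minimal (Set.singleton_subset_iff.mpr h) isClosed_closure
    have : closure ({η.1} : Set X) = closure {η'} :=
      le_antisymm hle (η.2.2 isIrreducible_singleton.closure hle)
    exact hne (Inseparable.eq ((inseparable_iff_closure_eq).mpr this)).symm⟩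
  have hcover : ∀ y : X, ∃ ζ ∈ genericPoints (X : Type u), y ∈ closure ({ζ} : Set X) := by
    intro y
    have hy : y ∈ closure (genericPoints (X : Type u)) := by rw [genericPoints.closure]; trivial
    rw [← Set.biUnion_of_singleton (genericPoints (X : Type u)), hfin.closure_biUnion] at hy
    obtain ⟨ζ, hζ, hy⟩ := Set.mem_iUnion₂.mp hy
    exact ⟨ζ, hζ, hy⟩
  have hdisj : ∀ (η η' : genericPoints (X : Type u)) (y : X), y ∈ W η → y ∈ W η' → η = η' := by
    intro η η' y hy hy'
    obtain ⟨ζ, hζ, hyζ⟩ := hcover y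
    have h1 : ∀ θ, y ∈ W θ → ζ = θ.1 := fun θ hθ => by
      by_contra h
      exact hθ.2 (Set.mem_iUnion₂.mpr ⟨ζ, ⟨hζ, h⟩, hyζ⟩)
    exact Subtype.ext ((h1 η hy).symm.trans (h1 η' hy'))
  let U : X.Opens := ⨆ η, W η
  let sf : ∀ i : Fin n, ∀ η, Γ(E, W η) := fun i η => E.presheaf.map (homOfLE (inf_le_left : W η ≤ D η)).op (e η i)
  have hcompat : ∀ i, TopCat.Presheaf.IsCompatible E.presheaf W (sf i) := by
    intro i a b
    by_cases hab : a = b
    · subst hab; rfl
    · refine TopCat.Presheaf.section_ext (C := Ab.{u}) (X := X.carrier) ⟨E.presheaf, E.isSheaf⟩ _ _ _ fun z hz => ?_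
      exact absurd (hdisj a b z hz.1 hz.2) hab
  choose s hs hsu using fun i => TopCat.Sheaf.existsUnique_gluing' ⟨E.presheaf, E.isSheaf⟩ W U
    (fun η => homOfLE (le_iSup W η)) le_rfl (sf i) (hcompat i)
  let e' : Fin n → Γ(E, U) := s
  have hU : genericPoints (X : Type u) ⊆ U := fun η hη => Opens.mem_iSup.2 ⟨⟨η, hη⟩, hηW _⟩
  refine ⟨U, hU, FinCov.exists_iso_of_frame (e := e') (Euler.isFrame_of_stalk_basis fun y hy => ?_)⟩
  obtain ⟨η, hy'⟩ := Opens.mem_iSup.1 hy
  have hgerm : ∀ i, E.presheaf.germ U y hy (e' i) = E.presheaf.germ (D η) y hy'.1 (e η i) := fun i => by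
    have h1 := congrArg (E.presheaf.germ (W η) y hy') (hs i η)
    erw [TopCat.Presheaf.germ_res_apply] at h1
    refine h1.trans ?_
    exact TopCat.Presheaf.germ_res_apply _ _ _ _ _
  simp only [hgerm]
  exact Euler.bijective_germ_comb (he η) hy'.1


include k in
/-- A section nonzero at the generic points and vanishing outside a given open. -/
theorem exists_sect_locus_le (c : Cocycle X) (hc : c.IsAmp) (U : X.Opens)
    (hU : genericPoints (X : Type u) ⊆ U) :
    ∃ (m : ℕ) (a : c.sect m ⊤), 0 < m ∧ genericPoints (X : Type u) ⊆ c.locus a ∧ c.locus a ≤ U := by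
  classical
  have := Euler.isNoetherian_of_proper (X := X) k
  have hfin : (genericPoints (X : Type u)).Finite :=
    genericPoints.finite NoetherianSpace.finite_irreducibleComponents
  let P := hfin.toFinset
  have hP : ∀ {η : X}, η ∈ P ↔ η ∈ genericPoints (X : Type u) := hfin.mem_toFinset
  have hw : ∀ η ∈ P, ∃ (e : ℕ) (w : c.sect (e + 1) ⊤), η ∈ c.locus w ∧ c.locus w ≤ U ∧
      ∀ η' ∈ P, η' ≠ η → η' ∉ c.locus w := by
    intro η hη
    let C : Set X := (⋃ η' ∈ P.erase η, closure {η'}) ∪ (U : Set X)ᶜ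
    have hC : IsClosed C :=
      (isClosed_biUnion_finset fun _ _ => isClosed_closure).union U.isOpen.isClosed_compl
    have hηC : η ∉ C := by
      rintro (hmem | hmem)
      · obtain ⟨η', hη', hcl⟩ := Set.mem_iUnion₂.1 hmem
        obtain ⟨hne, hη'P⟩ := Finset.mem_erase.1 hη'
        have hle : closure ({η} : Set X) ≤ closure {η'} :=
          closure_minimal (Set.singleton_subset_iff.mpr hcl) isClosed_closure
        have : closure ({η} : Set X) = closure {η'} :=
          le_antisymm hle ((hP.1 hη).2 isIrreducible_singleton.closure hle)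
        exact hne (Inseparable.eq (inseparable_iff_closure_eq.mpr this)).symm
      · exact hmem (hU (hP.1 hη))
    obtain ⟨e, w, h1, h2, -⟩ := c.exists_affine_locus_le hc (O := ⟨Cᶜ, hC.isOpen_compl⟩) hηC
    exact ⟨e, w, h1, fun y hy => by_contra fun h => h2 hy (Or.inr h), fun η' hη' hne hmem =>
      h2 hmem (Or.inl (Set.mem_iUnion₂.2 ⟨η', Finset.mem_erase.2 ⟨hne, hη'⟩, subset_closure rfl⟩))⟩
  choose! e w hw₁ hwU hw₂ using hw
  let D : ℕ := ∏ η ∈ P, (e η + 1)
  have hD : 0 < D := Finset.prod_pos fun η _ => Nat.succ_pos _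
  have hy : ∀ η ∈ P, ∃ y : c.sect D ⊤, η ∈ c.locus y ∧ c.locus y ≤ U ∧
      ∀ η' ∈ P, η' ≠ η → η' ∉ c.locus y := by
    intro η hη
    obtain ⟨r, hr⟩ : e η + 1 ∣ D := Finset.dvd_prod_of_mem _ hη
    have hr0 : 0 < r := Nat.pos_of_ne_zero fun h => by simp [h] at hr; omega
    refine ⟨c.sectCast (show (e η + 1) * r = D by omega) (c.sectPow (w η) r), ?_⟩
    rw [c.locus_sectCast, c.locus_sectPow _ hr0]
    exact ⟨hw₁ η hη, hwU η hη, hw₂ η hη⟩
  choose! y hy₁ hyU hy₂ using hy
  have hunit : ∀ (z : X), z ∈ c.locus (∑ η ∈ P, y η) → ∃ η ∈ P, z ∈ c.locus (y η) := by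
    intro z hz
    obtain ⟨i, hi⟩ := c.exists_mem z
    have hmem : z ∈ (⊤ : X.Opens) ⊓ c.D i := ⟨trivial, hi⟩
    rw [c.mem_locus_iff _ hi, Scheme.mem_basicOpen _ _ z hmem] at hz
    rw [AddSubgroup.val_finsetSum, Finset.sum_apply, map_sum] at hz
    by_contra hno
    push Not at hno
    refine IsLocalRing.notMem_maximalIdeal.2 hz (Ideal.sum_mem _ fun η hη => ?_)
    have := hno η hη
    rw [c.mem_locus_iff _ hi, Scheme.mem_basicOpen _ _ z hmem] at this
    exact (IsLocalRing.mem_maximalIdeal _).2 this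
  refine ⟨D, ∑ η ∈ P, y η, hD, fun π hπ => ?_, fun z hz => ?_⟩
  · obtain ⟨i, hi⟩ := c.exists_mem π
    have hmem : π ∈ (⊤ : X.Opens) ⊓ c.D i := ⟨trivial, hi⟩
    show π ∈ c.locus _
    rw [c.mem_locus_iff _ hi, Scheme.mem_basicOpen _ _ π hmem]
    rw [AddSubgroup.val_finsetSum, Finset.sum_apply, map_sum, ← Finset.add_sum_erase _ _ (hP.2 hπ)]
    by_contra hu
    have hrest : ∑ z ∈ P.erase π, X.presheaf.germ _ π hmem ((y z).1 i) ∈
        IsLocalRing.maximalIdeal (X.presheaf.stalk π) := Ideal.sum_mem _ fun z hz => by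
      obtain ⟨hne, hzP⟩ := Finset.mem_erase.1 hz
      have := hy₂ z hzP π (hP.2 hπ) (Ne.symm hne)
      rw [c.mem_locus_iff _ hi, Scheme.mem_basicOpen _ _ π hmem] at this
      exact (IsLocalRing.mem_maximalIdeal _).2 this
    have hmain : IsUnit (X.presheaf.germ _ π hmem ((y π).1 i)) :=
      (Scheme.mem_basicOpen _ _ π hmem).1 ((c.mem_locus_iff _ hi).1 (hy₁ π (hP.2 hπ)))
    refine IsLocalRing.notMem_maximalIdeal.2 hmain ?_
    exact (Submodule.add_mem_iff_left _ hrest).1 ((IsLocalRing.mem_maximalIdeal _).2 hu)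
  · obtain ⟨η, hη, hzη⟩ := hunit z hz
    exact hyU η hη hzη

/-- The stalk map of zero. -/
theorem stalkLin_zero25 {M N : X.Modules} (y : X) (e : M.presheaf.stalk y) : stalkLin (0 : M ⟶ N) y e = 0 :=
  LinearMap.congr_fun (congrArg ModuleCat.Hom.hom ((OX.stalk y).map_zero M N)) e

/-- A high power of a section kills a coherent module with finite support off its locus. -/
theorem exists_mulSect_eq_zero [IsLocallyNoetherian X] (c : Cocycle X) {m : ℕ} (a : c.sect m ⊤) {Q : X.Modules}
    (hQ : Coh.IsCoh Q) (hfin : (CohB1.support Q).Finite) (hz : ∀ x ∈ CohB1.support Q, x ∉ c.locus a) :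
    ∃ N : ℕ, 0 < N ∧ FormalExist7.mulSect c Q (c.sectPow a N) = 0 := by
  classical
  haveI := hQ.1
  have key : ∀ (x : X) (v : Q.presheaf.stalk x), ∃ N₀, ∀ N, N₀ ≤ N →
      stalkLin (FormalExist7.mulSect c Q (c.sectPow a N)) x v = 0 := by
    intro x v
    obtain ⟨V, hxV, s, rfl⟩ := TopCat.Presheaf.exists_germ_eq Q.presheaf v
    obtain ⟨i, hi⟩ := c.exists_mem x
    obtain ⟨W, hW, hxW, hWle⟩ := exists_isAffineOpen_mem_and_subset (x := x) (U := V ⊓ c.D i) ⟨hxV, hi⟩
    have hWV : W ≤ V := fun z h => (hWle h).1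
    have hWD : W ≤ c.D i := fun z h => (hWle h).2
    let α : Γ(X, W) := res (le_inf le_top hWD) (a.1 i)
    let δ : Γ(Q, W) := mres Q hWV s
    have hδ : mres Q (X.basicOpen_le α) δ = 0 := by
      refine QCoh.section_eq_zero_of_germ Q _ fun z hzα => ?_
      have hzl : z ∈ c.locus a := ((c.locus_inf_eq_basicOpen a hWD).ge hzα).1
      haveI : Subsingleton (Q.presheaf.stalk z) := QCoh.stalk_subsingleton_of_notMem fun h => hz z h hzl
      exact Subsingleton.elim _ _
    obtain ⟨N₀, hN₀⟩ := QCoh.smulSep_of_isCompact Q hW.isCompact α δ hδ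
    refine ⟨N₀, fun N hN => ?_⟩
    rw [QCoh.stalkLin_germ, ← QCoh.germ_map (c.modTwist Q (m * N)) (homOfLE hWV) hxW]
    rw [show (c.modTwist Q (m * N)).presheaf.map (homOfLE hWV).op
      ((FormalExist7.mulSect c Q (c.sectPow a N)).app V s) = 0 from ?_, map_zero]
    refine c.msect_ext_of_le (M := Q) hWD ?_
    have e : α ^ N • δ = 0 := by
      rw [← Nat.sub_add_cancel hN, pow_add, mul_smul, hN₀, smul_zero]
    have e' := congrArg (mres Q (inf_le_left : W ⊓ c.D i ≤ W)) e
    show mres Q (inf_le_inf_right (c.D i) hWV)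
      ((c.sectRes le_top (c.sectPow a N)).1 i • mres Q (inf_le_left : V ⊓ c.D i ≤ V) s) = 0
    simp only [α, δ, Ample.Cocycle.sectRes_apply, Ample.Cocycle.sectPow_apply, Ample.mres_smul', map_pow,
      InvExt.mres_mres, Ample.res_res] at e' ⊢
    exact e'.trans (map_zero _)
  have hst : ∀ x : X, ∃ N₀, ∀ N, N₀ ≤ N → stalkLin (FormalExist7.mulSect c Q (c.sectPow a N)) x = 0 := by
    intro x
    haveI := FunFlat8.finite_stalk hQ.2 x
    obtain ⟨S, hS⟩ := Module.Finite.fg_top (R := X.presheaf.stalk x) (M := Q.presheaf.stalk x)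
    choose N₀ hN₀ using key x
    refine ⟨S.sup N₀, fun N hN => LinearMap.ext_on hS fun v hv => ?_⟩
    exact hN₀ v N ((Finset.le_sup (f := N₀) hv).trans hN)
  choose N₀ hN₀ using hst
  refine ⟨hfin.toFinset.sup N₀ + 1, Nat.succ_pos _, FormalFun.hom_ext_stalkLin fun x v => ?_⟩
  by_cases hx : x ∈ CohB1.support Q
  · rw [hN₀ x _ ((Finset.le_sup (f := N₀) (hfin.mem_toFinset.2 hx)).trans (Nat.le_succ _))]
    exact (stalkLin_zero25 x v).symm
  · haveI : Subsingleton (Q.presheaf.stalk x) := QCoh.stalk_subsingleton_of_notMem hx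
    rw [Subsingleton.elim v 0, map_zero, map_zero]

/-- Over a reduced ring an element of a free module with annihilator of maximal radical forces a field. -/
theorem isField_of_weakAss_pi {R : Type u} [CommRing R] [IsLocalRing R] [_root_.IsReduced R] {n : ℕ}
    (v : Fin n → R) (h : Ideal.radical (LinearMap.ker (LinearMap.toSpanSingleton R _ v)) = IsLocalRing.maximalIdeal R) :
    IsField R := by
  rw [IsLocalRing.isField_iff_maximalIdeal_eq]
  obtain ⟨i, hi⟩ : ∃ i, v i ≠ 0 := by
    by_contra hno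
    push Not at hno
    refine (IsLocalRing.maximalIdeal.isMaximal R).ne_top (h.symm.trans (Ideal.radical_eq_top.2 ?_))
    rw [show v = 0 from funext hno, LinearMap.toSpanSingleton_zero, LinearMap.ker_zero]
  have hm : ∀ s ∈ IsLocalRing.maximalIdeal R, s * v i = 0 := fun s hs => by
    rw [← h] at hs
    obtain ⟨N, hN⟩ := hs
    have h0 : s ^ N * v i = 0 := congrFun (show s ^ N • v = 0 from hN) i
    refine IsReduced.eq_zero _ ⟨N + 1, ?_⟩
    rw [mul_pow, pow_succ s, pow_succ (v i)]
    linear_combination (s * v i ^ N) * h0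
  refine le_bot_iff.1 fun s hs => ?_
  have hu : IsUnit (v i) := by
    by_contra hu
    exact hi (IsReduced.eq_zero _ ⟨2, by rw [pow_two]; exact hm _ ((IsLocalRing.mem_maximalIdeal _).2 hu)⟩)
  exact (hu.mul_left_eq_zero).1 (hm s hs)

variable [AlgebraicGeometry.IsReduced X]

/-- Weakly associated points of a module with free stalk of finite rank are generic. -/
theorem mem_genericPoints_of_weakAss {G : X.Modules} {n : ℕ} {x : X}
    (e : G.presheaf.stalk x ≃ₗ[X.presheaf.stalk x] (Fin n → X.presheaf.stalk x))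
    (h : Curv2.IsWeakAssPoint G x) : x ∈ genericPoints (X : Type u) := by
  obtain ⟨v, hv⟩ := h
  refine mem_genericPoints_of_isField_stalk (isField_of_weakAss_pi (e v) ?_)
  rw [← hv]
  congr 1
  ext s
  simp [LinearMap.mem_ker, ← map_smul]

include k in
/-- The target: a sum of copies of a power is locally free of rank `r`. -/
theorem nonempty_stalk_sigma_pow {L : X.Modules} (hL : PicF.IsInvertible L) (m r : ℕ) (x : X) :
    Nonempty ((∐ fun _ : Fin r => CohB1.tensorPow L m : X.Modules).presheaf.stalk x ≃ₗ[X.presheaf.stalk x]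
      (Fin r → X.presheaf.stalk x)) := by
  have hr : FlatMod.IsFinLocFreeOfRank r (FlatMod.freeMod X r) := fun y =>
    ⟨⊤, trivial, ⟨DCoh.restrictFreeModIso _ r⟩⟩
  obtain ⟨D, f, hxD, hf⟩ := FinCov.exists_frame_nhd_of_rank hr x
  obtain ⟨b⟩ := Euler.stalk_basis_of_frame hf hxD
  obtain ⟨ψ⟩ := Euler.nonempty_stalk_equiv_pi (M := FlatMod.freeMod X r)
    (Euler.isFinLocFreeOfRank_one' (Ample.isInvertible_tensorPow hL m)) x
  let e : (tF (CohB1.tensorPow L m)).obj (FlatMod.freeMod X r) ≅ ∐ fun _ : Fin r => CohB1.tensorPow L m :=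
    CMReg.tensorSigmaIso (fun _ : Fin r => Coh.structureModule X) _ ≪≫
      Sigma.mapIso fun _ => OX.tensorUnitLeftIso _
  exact ⟨((OX.stalk x).mapIso e.symm).toLinearEquiv.trans
    (ψ.trans ((LinearEquiv.funUnique (Fin 1) _ _).trans b.equivFun))⟩

variable [ConnectedSpace X]

/-- Closed points which are not associated are not weakly associated. -/
theorem mem_genericPoints_of_not_ass (hdim : topologicalKrullDim X = 1) {F : X.Modules}
    (hass : ∀ x : X, IsClosed ({x} : Set X) → ¬ Curv2.IsAssPoint F x) {x : X}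
    (h : Curv2.IsWeakAssPoint F x) : x ∈ genericPoints (X : Type u) := by
  by_contra hx
  refine hass x (Euler.isClosed_singleton_of_notMem_genericPoints hdim.le hx) ?_
  obtain ⟨v, hv⟩ := h
  refine Submodule.isAssociatedPrime_def.2 ⟨(IsLocalRing.maximalIdeal.isMaximal _).isPrime, v, ?_⟩
  rw [← hv]
  congr 1
  ext s
  simp [Submodule.mem_colon_singleton, LinearMap.mem_ker]

include k in
theorem exists_mono_sigma_pow_iff (hdim : topologicalKrullDim X = 1) {L : X.Modules} (hL : CohB1.IsAmple L)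
    {F : X.Modules} (hF : Coh.IsCoh F) (r : ℕ) :
    ((∀ x : X, IsClosed ({x} : Set X) → ¬ Curv2.IsAssPoint F x) ∧
      (∀ η : X, IsField (X.presheaf.stalk η) →
        Nonempty (F.presheaf.stalk η ≃ₗ[X.presheaf.stalk η] (Fin r → X.presheaf.stalk η)))) ↔
    (∃ (m : ℕ) (ι : F ⟶ ∐ fun _ : Fin r => CohB1.tensorPow L m), Mono ι ∧
      ∀ η : X, IsField (X.presheaf.stalk η) → Subsingleton ((cokernel ι).presheaf.stalk η)) := by
  classical
  haveI := Euler.isNoetherian_of_proper (X := X) k
  haveI := hF.1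
  constructor
  · rintro ⟨hass, hrk⟩
    obtain ⟨U, hU, ⟨φ⟩⟩ := exists_trivial_of_stalks k hF fun η hη => hrk η (SubCurve16.isField_stalk hη)
    have hfree : Coh.IsCoh (FlatMod.freeMod X r) := Euler.isCoh_of_isFinLocFree fun x =>
      ⟨⊤, r, trivial, ⟨DCoh.restrictFreeModIso _ r⟩⟩
    haveI := hfree.1
    obtain ⟨H, p, q, hH, hpq⟩ := Euler.exists_comparison hF hfree U
      (φ ≪≫ (DCoh.restrictFreeModIso U.ι r).symm)
    have hpqz : kernel.ι p ≫ q = 0 := by
      refine Scheme.Modules.hom_ext _ _ fun V => ?_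
      ext s
      refine WeakAss.eq_zero_of_germ _ fun x hx hw => ?_
      have hr : FlatMod.IsFinLocFreeOfRank r (FlatMod.freeMod X r) := fun y =>
        ⟨⊤, trivial, ⟨DCoh.restrictFreeModIso _ r⟩⟩
      obtain ⟨D, f, hxD, hf⟩ := FinCov.exists_frame_nhd_of_rank hr x
      obtain ⟨b⟩ := Euler.stalk_basis_of_frame hf hxD
      have hxU : x ∈ U := hU (mem_genericPoints_of_weakAss b.equivFun hw)
      rw [← QCoh.stalkLin_germ, QCoh.stalkLin_comp]
      have h0 : stalkLin p x (stalkLin (kernel.ι p) x ((kernel p).presheaf.germ V x hx s)) = 0 := by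
        rw [← QCoh.stalkLin_comp, kernel.condition, stalkLin_zero25]
      rw [(hpq x hxU).1.1 (h0.trans (map_zero _).symm), map_zero]
    let I := cokernel (kernel.ι p)
    let j : I ⟶ F := cokernel.desc (kernel.ι p) p (kernel.condition p)
    haveI hj : Mono j := inferInstanceAs (Mono (Abelian.factorThruCoimage p))
    let q' : I ⟶ FlatMod.freeMod X r := cokernel.desc (kernel.ι p) q hpqz
    have hI : Coh.IsCoh I := QCoh.isCoh_cokernel (kernel.ι p) (QCoh.isCoh_kernel p hH hF) hH
    have hjU : ∀ x ∈ U, Function.Surjective (stalkLin j x) := fun x hx v => by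
      obtain ⟨w, rfl⟩ := (hpq x hx).1.2 v
      exact ⟨stalkLin (cokernel.π (kernel.ι p)) x w, by rw [← QCoh.stalkLin_comp, cokernel.π_desc]⟩
    have hq'U : ∀ x ∈ U, Function.Injective (stalkLin q' x) := fun x hx => by
      refine (injective_iff_map_eq_zero _).2 fun v hv => ?_
      obtain ⟨w, rfl⟩ := QCoh.stalkLin_surjective (cokernel.π (kernel.ι p)) x v
      rw [← QCoh.stalkLin_comp, cokernel.π_desc] at hv
      rw [(hpq x hx).2.1 (hv.trans (map_zero _).symm), map_zero]
    have hass' : ∀ x, Curv2.IsWeakAssPoint F x → x ∈ U := fun x hx =>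
      hU (mem_genericPoints_of_not_ass hdim hass hx)
    haveI : Mono q' := by
      haveI := hI.1
      refine CMReg.mono_of_stalk_injective_weakAss q' fun x hx => hq'U x (hass' x ?_)
      obtain ⟨v, hv⟩ := hx
      refine ⟨stalkLin j x v, hv ▸ congrArg Ideal.radical ?_⟩
      ext s
      show s • stalkLin j x v = 0 ↔ s • v = 0
      rw [← map_smul]
      exact map_eq_zero_iff _ (QCoh.stalkLin_injective j x)
    let S := ShortComplex.mk j (cokernel.π j) (cokernel.condition j)
    have hS : S.ShortExact := { exact := ShortComplex.exact_of_g_is_cokernel _ (cokernelIsCokernel _) }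
    have hQ : Coh.IsCoh (cokernel j) := QCoh.isCoh_cokernel j hI hF
    obtain ⟨c, ⟨e⟩⟩ := Ample.exists_cocycle hL.1
    have hc := ((c.isAmple_iff e).1 hL).2
    obtain ⟨m, a, hm, hgl, hlU⟩ := exists_sect_locus_le k c hc U hU
    have hQU : CohB1.support (cokernel j) ⊆ (U : Set X)ᶜ := fun x hx hxU =>
      QCoh.notMem_support_cokernel_of_surjective j (hjU x hxU) hx
    obtain ⟨hfin, -⟩ := Euler.finite_closed_of_disjoint k hdim.le hU
    obtain ⟨N, hN, hN0⟩ := exists_mulSect_eq_zero c a hQ (hfin.subset hQU) fun x hx h => hQU hx (hlU h)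
    let b := c.sectPow a N
    let μ := FormalExist7.mulSect c F b
    have hμ : μ ≫ c.mtwistMap (cokernel.π j) (m * N) = 0 := by
      rw [← FormalExist7.mulSect_natural, hN0, comp_zero]
    have hT := SerreVanish.twistSeq_shortExact c (m * N) hS
    haveI := hT.mono_f
    let l : F ⟶ c.modTwist I (m * N) := hT.exact.lift μ hμ
    have hl : l ≫ c.mtwistMap j (m * N) = μ := hT.exact.lift_f μ hμ
    let ι' : F ⟶ c.modTwist (FlatMod.freeMod X r) (m * N) := l ≫ c.mtwistMap q' (m * N)
    haveI : Mono (c.mtwistMap q' (m * N)) := QCoh.mono_of_app_injective _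
      (c.mtwistMap_app_injective _ _ fun V => Cohom.app_injective_of_mono q' V)
    have hι' : ∀ x ∈ c.locus a, Function.Injective (stalkLin ι' x) := fun x hx => by
      have h1 : Function.Injective (stalkLin μ x) :=
        FormalExist7.stalk_injective_mulSect c F b (c.le_locus_sectPow a N hx)
      have h2 : Function.Injective (stalkLin l x) := fun u v h => h1 (by
        rw [← hl, QCoh.stalkLin_comp, QCoh.stalkLin_comp, h])
      intro u v h
      rw [QCoh.stalkLin_comp, QCoh.stalkLin_comp] at h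
      exact h2 (QCoh.stalkLin_injective _ x h)
    haveI : Mono ι' := CMReg.mono_of_stalk_injective_weakAss ι' fun x hx =>
      hι' x (hgl (mem_genericPoints_of_not_ass hdim hass hx))
    obtain ⟨eT⟩ := UnifVanish7.nonempty_tensorPow_modTwist c e (FlatMod.freeMod X r) (m * N)
    let e' : c.modTwist (FlatMod.freeMod X r) (m * N) ≅ ∐ fun _ : Fin r => CohB1.tensorPow L (m * N) :=
      eT.symm ≪≫ CMReg.tensorSigmaIso (fun _ : Fin r => Coh.structureModule X) _ ≪≫
        Sigma.mapIso fun _ => OX.tensorUnitLeftIso _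
    refine ⟨m * N, ι' ≫ e'.hom, inferInstance, fun η hη => ?_⟩
    letI : Field (X.presheaf.stalk η) := hη.toField
    obtain ⟨eF⟩ := hrk η hη
    obtain ⟨eG⟩ := nonempty_stalk_sigma_pow k hL.1 (m * N) r η
    haveI := eF.symm.finiteDimensional
    haveI := eG.symm.finiteDimensional
    have hinj : Function.Injective (stalkLin (ι' ≫ e'.hom) η) := QCoh.stalkLin_injective _ η
    have hsurj := (LinearMap.injective_iff_surjective_of_finrank_eq_finrank
      (eF.finrank_eq.trans eG.finrank_eq.symm)).1 hinj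
    exact QCoh.stalk_subsingleton_of_notMem (QCoh.notMem_support_cokernel_of_surjective _ hsurj)
  · rintro ⟨m, ι, hι, hco⟩
    refine ⟨fun x hx hxa => ?_, fun η hη => ?_⟩
    · obtain ⟨-, v, hv⟩ := Submodule.isAssociatedPrime_def.1 hxa
      obtain ⟨eG⟩ := nonempty_stalk_sigma_pow k hL.1 m r x
      refine SubCurve16.not_isClosed_generic hdim
        (mem_genericPoints_of_weakAss eG ⟨stalkLin ι x v, ?_⟩) hx
      rw [hv]
      congr 1
      ext s
      rw [Submodule.mem_colon_singleton, Submodule.mem_bot, LinearMap.mem_ker, LinearMap.toSpanSingleton_apply,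
        ← map_smul]
      exact map_eq_zero_iff _ (QCoh.stalkLin_injective ι x)
    · obtain ⟨eG⟩ := nonempty_stalk_sigma_pow k hL.1 m r η
      haveI : Subsingleton ((OX.stalk η).obj (cokernel ι)) := hco η hη
      have hsurj : Function.Surjective (stalkLin ι η) := by
        intro w
        obtain ⟨v, hv⟩ := (ShortComplex.moduleCat_exact_iff _).1 ((OX.exact_iff (ShortComplex.mk ι (cokernel.π ι) (cokernel.condition ι))).1
          (ShortComplex.exact_of_g_is_cokernel _ (cokernelIsCokernel ι)) η) w (@Subsingleton.elim _ (hco η hη) _ _)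
        exact ⟨v, hv⟩
      exact ⟨(LinearEquiv.ofBijective (stalkLin ι η) ⟨QCoh.stalkLin_injective ι η, hsurj⟩).trans eG⟩

end GrothLib.FMAdj25
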