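import Groth.Agent.Lib.FMAdj25.PointedDegree

/-! # Stability of pointed nodal curves on components -/

set_option autoImplicit false
set_option maxHeartbeats 1000000
set_option linter.all false
set_option backward.isDefEq.respectTransparency false
universe u

open CategoryTheory CategoryTheory.Limits AlgebraicGeometry Opposite TopologicalSpace
attribute [local instance] HasDerivedCategory.standard

noncomputable section

namespace GrothLib.FMAdj25

open GrothLib.QCoh GrothLib.Euler GrothLib.CurveSerre11 GrothLib.SubCurve16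

variable {k : Type u} [Field k] [IsAlgClosed k] {X : Scheme.{u}} [X.Over (Spec (CommRingCat.of k))]
  [IsProper (X ↘ Spec (CommRingCat.of k))] [ConnectedSpace X]
  [DCoh.HasRpush (X ↘ Spec (CommRingCat.of k))] (h : DCoh.RpushPreservesQCoh (X ↘ Spec (CommRingCat.of k)))
  [DCoh.HasShriek (X ↘ Spec (CommRingCat.of k)) h]
  (OY : DCoh.DQCoh (Spec (CommRingCat.of k)))
  (hOY : Nonempty (OY.obj ≅ DCoh.inD (Spec (CommRingCat.of k)) (Coh.structureModule (Spec (CommRingCat.of k)))))
  (hdim : topologicalKrullDim X = 1) (hX : Curv2.AtWorstNodal k X)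

omit [IsAlgClosed k] [ConnectedSpace X] [DCoh.HasRpush (X ↘ Spec (CommRingCat.of k))] in
theorem deg_restrict_tensor (hd : topologicalKrullDim X ≤ 1) {A B : X.Modules} (hA : PicF.IsInvertible A)
    (hB : PicF.IsInvertible B) (J : X.IdealSheafData) :
    @Curv2.deg k _ J.subscheme ⟨J.subschemeι ≫ (X ↘ Spec (CommRingCat.of k))⟩
      ((Scheme.Modules.pullback J.subschemeι).obj (CohB1.tensorMod A B)) 1 =
    @Curv2.deg k _ J.subscheme ⟨J.subschemeι ≫ (X ↘ Spec (CommRingCat.of k))⟩
      ((Scheme.Modules.pullback J.subschemeι).obj A) 1 +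
    @Curv2.deg k _ J.subscheme ⟨J.subschemeι ≫ (X ↘ Spec (CommRingCat.of k))⟩
      ((Scheme.Modules.pullback J.subschemeι).obj B) 1 := by
  letI : J.subscheme.Over (Spec (CommRingCat.of k)) := ⟨J.subschemeι ≫ X ↘ Spec (CommRingCat.of k)⟩
  haveI : IsProper (J.subscheme ↘ Spec (CommRingCat.of k)) :=
    inferInstanceAs (IsProper (J.subschemeι ≫ X ↘ Spec (CommRingCat.of k)))
  have hdJ : topologicalKrullDim J.subscheme ≤ 1 :=
    (Scheme.Hom.isClosedEmbedding J.subschemeι).isInducing.topologicalKrullDim_le.trans hd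
  have h1 := Ample.isInvertible_pullback J.subschemeι hA
  have h2 := Ample.isInvertible_pullback J.subschemeι hB
  refine (Euler.deg_of_iso k (OX.pullTensorIso J.subschemeι A B) 1).trans ?_
  show Curv2.deg k J.subscheme (CohB1.tensorMod _ _) 1 = _
  rw [deg_eq_ch k hdJ (Ample.isInvertible_tensorMod h1 h2),
    deg_eq_ch k hdJ h1, deg_eq_ch k hdJ h2, EulerLin16.deg_tensorMod k hdJ h1 h2]

include hOY hdim hX in
/-- The degree of a twisted dualizing module on a component. -/
theorem degS_twist_component (T : Closeds X) (hfinT : (T : Set X).Finite) {L : X.Modules} (hL : PicF.IsInvertible L)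
    (e : CohB1.tensorMod L (ClSub.idealMod (Scheme.IdealSheafData.vanishingIdeal T)) ≅ Coh.structureModule X)
    (C : Set X) (hC : C ∈ irreducibleComponents (X : Type u)) :
    ∃ η ∈ genericPoints (X : Type u), closure ({η} : Set X) = C ∧
      degS k (CohB1.tensorMod (DCoh.dualizingMod (X ↘ Spec (CommRingCat.of k)) h OY 1) L) {η} =
        2 * (@Curv2.genus k _ (Scheme.IdealSheafData.vanishingIdeal (⟨C, isClosed_of_mem_irreducibleComponents C hC⟩ : Closeds X)).subscheme
          ⟨(Scheme.IdealSheafData.vanishingIdeal (⟨C, isClosed_of_mem_irreducibleComponents C hC⟩ : Closeds X)).subschemeι ≫ (X ↘ Spec (CommRingCat.of k))⟩ : ℤ) - 2 +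
          (Nat.card (C ∩ closure Cᶜ : Set X) : ℤ) + (((T : Set X) ∩ C).ncard : ℤ) := by
  haveI := Euler.isNoetherian_of_proper (X := X) k
  obtain ⟨hred, hω⟩ := nodal_data h OY hdim hOY (equidim_of_connected (k := k) hdim) hX
  haveI := hred
  obtain ⟨η, hη, hcl, hJ, -⟩ := component_data (k := k) hdim C hC
  obtain ⟨hr, hirr, hconn, hd1⟩ := irreducible_JJ k hdim hη
  haveI := hr
  haveI := hconn
  refine ⟨η, hη, hcl, ?_⟩
  rw [hJ, ← deg_eq_degS k (Ample.isInvertible_tensorMod hω hL), deg_restrict_tensor hdim.le hω hL,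
    (numbers k hdim h OY hOY hω (JJ {η}) hd1).1, finrank_meet hdim hX (JJ {η}) hd1, deg_eq_degS k hL,
    degS_singleton_eq_ncard hdim T hfinT (fun x hx => isClosed_singleton_of_mem (k := k) hfinT T.isClosed hx)
      (fun η' hη' => notMem_of_genericPoint (k := k) hdim hfinT T.isClosed hη') hL e hη,
    support_JJ, hcl]

omit [IsAlgClosed k] [ConnectedSpace X] [DCoh.HasRpush (X ↘ Spec (CommRingCat.of k))] in
/-- The edges leaving a vertex are the meeting points of its component. -/
theorem card_edges {V E : Type u} (cv : V → Set X) (ce : E → X) (ends : E → V × V)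
    (hΓ : DualGr.IsDualGraph (X ↘ Spec (CommRingCat.of k)) cv ce ends) (v : V) :
    Nat.card {e : E // (ends e).1 ≠ (ends e).2 ∧ ((ends e).1 = v ∨ (ends e).2 = v)} =
      Nat.card (cv v ∩ closure (cv v)ᶜ : Set X) := by
  haveI := Euler.isNoetherian_of_proper (X := X) k
  have hcl : ∀ w, IsClosed (cv w) := fun w => isClosed_of_mem_irreducibleComponents _ (hΓ.comp_mem w)
  have hsub : ∀ w, w ≠ v → cv w ⊆ closure (cv v)ᶜ := by
    intro w hw
    have hne : ¬ cv w ⊆ cv v := fun hle =>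
      hw (hΓ.comp_injective (subset_antisymm hle ((hΓ.comp_mem w).2 (hΓ.comp_mem v).1 hle)))
    obtain ⟨y, hy, hy'⟩ := Set.not_subset.1 hne
    exact (subset_closure_inter_of_isPreirreducible_of_isOpen (hΓ.comp_mem w).1.2 (hcl v).isOpen_compl
      ⟨y, hy, hy'⟩).trans (closure_mono Set.inter_subset_right)
  refine Nat.card_congr (Equiv.ofBijective (fun e => ⟨ce e.1, ?_⟩) ⟨fun a b hab => ?_, fun x => ?_⟩)
  · obtain ⟨hne, hv⟩ := e.2
    refine ⟨(hΓ.incidence e.1 v).1 hv, ?_⟩
    rcases hv with h1 | h1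
    · exact hsub _ (fun h2 => hne (h1.trans h2.symm)) ((hΓ.incidence e.1 _).1 (Or.inr rfl))
    · exact hsub _ (fun h2 => hne (h2.trans h1.symm)) ((hΓ.incidence e.1 _).1 (Or.inl rfl))
  · exact Subtype.ext (hΓ.pt_injective (congrArg Subtype.val hab))
  · obtain ⟨x, hxC, hxc⟩ := x
    have hcover : closure (cv v)ᶜ ⊆ ⋃₀ {Z ∈ irreducibleComponents (X : Type u) | Z ≠ cv v} := by
      refine closure_minimal (fun y hy => ?_) ?_
      · obtain ⟨Z, hZ, hyZ⟩ : ∃ Z ∈ irreducibleComponents (X : Type u), y ∈ Z :=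
          ⟨_, irreducibleComponent_mem_irreducibleComponents y, mem_irreducibleComponent⟩
        exact ⟨Z, ⟨hZ, fun hZv => hy (hZv ▸ hyZ)⟩, hyZ⟩
      · rw [Set.sUnion_eq_biUnion]
        exact Set.Finite.isClosed_biUnion (NoetherianSpace.finite_irreducibleComponents.subset fun Z hZ => hZ.1)
          fun Z hZ => isClosed_of_mem_irreducibleComponents Z hZ.1
    obtain ⟨Z, ⟨hZ, hZne⟩, hxZ⟩ := hcover hxc
    obtain ⟨w, hw⟩ := hΓ.comp_surjective Z hZ
    have hns : x ∈ DualGr.nonsmoothPts (X ↘ Spec (CommRingCat.of k)) := fun hs =>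
      hZne (eq_of_mem_of_formallySmooth hs hZ hxZ (hΓ.comp_mem v) hxC)
    obtain ⟨ed, hed⟩ := hΓ.pt_surjective x hns
    have hv := (hΓ.incidence ed v).2 (hed ▸ hxC)
    have hw' := (hΓ.incidence ed w).2 (hed ▸ hw ▸ hxZ)
    have hvw : v ≠ w := fun h => hZne (hw.symm.trans (congrArg cv h.symm))
    refine ⟨⟨ed, fun heq => hvw ?_, hv⟩, Subtype.ext hed⟩
    rcases hv with h1 | h1 <;> rcases hw' with h2 | h2 <;> simp_all

include hOY hdim hX in
/-- Stability is positivity on every vertex of the dual graph. -/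
theorem isAmple_twist_iff_dualGraph (D : Set X) (hDfin : D.Finite) (hDcl : IsClosed D) (LD : X.Modules)
    (hLD : PicF.IsInvertible LD)
    (hinv : ClSub.IsInverseOf LD (ClSub.idealMod (Scheme.IdealSheafData.vanishingIdeal (⟨D, hDcl⟩ : Closeds X))))
    (V E : Type u) (cv : V → Set X) (ce : E → X) (ends : E → V × V)
    (hΓ : DualGr.IsDualGraph (X ↘ Spec (CommRingCat.of k)) cv ce ends) :
    CohB1.IsAmple (CohB1.tensorMod (DCoh.dualizingMod (X ↘ (Spec (CommRingCat.of k))) h OY 1) LD) ↔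
      ∀ v : V, 0 < 2 * (@Curv2.genus k _ (Scheme.IdealSheafData.vanishingIdeal (⟨cv v, isClosed_of_mem_irreducibleComponents (cv v) (hΓ.comp_mem v)⟩ : Closeds X)).subscheme ⟨(Scheme.IdealSheafData.vanishingIdeal (⟨cv v, isClosed_of_mem_irreducibleComponents (cv v) (hΓ.comp_mem v)⟩ : Closeds X)).subschemeι ≫ (X ↘ (Spec (CommRingCat.of k)))⟩ : ℤ) - 2 +
        (Nat.card {e : E // (ends e).1 ≠ (ends e).2 ∧ ((ends e).1 = v ∨ (ends e).2 = v)} : ℤ) +
        (Nat.card ↥(D ∩ cv v) : ℤ) := by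
  haveI := Euler.isNoetherian_of_proper (X := X) k
  obtain ⟨hred, hω⟩ := nodal_data h OY hdim hOY (equidim_of_connected (k := k) hdim) hX
  haveI := hred
  obtain ⟨e⟩ := hinv
  rw [isAmple_iff_degS k hdim (Ample.isInvertible_tensorMod hω hLD)]
  refine ⟨fun hA v => ?_, fun hA η hη => ?_⟩
  · obtain ⟨η, hη, hcl, hdeg⟩ := degS_twist_component h OY hOY hdim hX ⟨D, hDcl⟩ hDfin hLD e (cv v) (hΓ.comp_mem v)
    have := hA η hη
    rw [card_edges cv ce ends hΓ v, Nat.card_coe_set_eq (D ∩ cv v)]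
    rw [hdeg] at this
    exact this
  · obtain ⟨v, hv⟩ := hΓ.comp_surjective _ (show closure ({η} : Set X) ∈ irreducibleComponents (X : Type u) from hη)
    obtain ⟨η', hη', hcl, hdeg⟩ := degS_twist_component h OY hOY hdim hX ⟨D, hDcl⟩ hDfin hLD e (cv v) (hΓ.comp_mem v)
    have heq : η' = η := (inseparable_iff_closure_eq.2 (hcl.trans hv)).eq
    subst heq
    have := hA v
    rw [card_edges cv ce ends hΓ v, Nat.card_coe_set_eq (D ∩ cv v)] at this
    rw [hdeg]
    exact this

end GrothLib.FMAdj25
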