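import Groth.Agent.Lib.CurveSerre11.NodalMeet
import Groth.Agent.Lib.CurveSerre11.TailsMain
import Groth.Agent.Lib.LeffAmp7.Stalks
import Groth.Agent.Lib.Euler.InvHom
import Groth.Agent.Lib.C1.Fibre
import Groth.Agent.Lib.Seesaw26.Criterion

/-! # Powers of the log canonical sheaf of a pointed stable curve -/

set_option autoImplicit false
set_option maxHeartbeats 1000000
set_option linter.all false
set_option backward.isDefEq.respectTransparency false
universe u

open CategoryTheory CategoryTheory.Limits AlgebraicGeometry Opposite TopologicalSpace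
attribute [local instance] HasDerivedCategory.standard

noncomputable section

namespace GrothLib.FMAdj25

open GrothLib.QCoh GrothLib.Euler GrothLib.CurveSerre11 GrothLib.SubCurve16

/-- The section attached to an inverse of an ideal. -/
def inverseSection {X : Scheme.{u}} (J : X.IdealSheafData) {L : X.Modules}
    (e : CohB1.tensorMod L (ClSub.idealMod J) ≅ Coh.structureModule X) : Coh.structureModule X ⟶ L :=
  (((OX.tensorBraiding (X := X)).app L).app (ClSub.idealMod J) ≪≫ e).inv ≫
    (tF L).map (ClSub.idealModι J) ≫ (OX.tensorUnitLeftIso L).hom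

/-- The section attached to an inverse of an ideal generates away from the subscheme. -/
theorem surjective_inverseSection {X : Scheme.{u}} (J : X.IdealSheafData) {L : X.Modules}
    (hL : PicF.IsInvertible L) (e : CohB1.tensorMod L (ClSub.idealMod J) ≅ Coh.structureModule X) {x : X}
    (hx : x ∉ (J.support : Set X)) : Function.Surjective (stalkLin (inverseSection J e) x) := by
  haveI := Euler.epi_toSubscheme J
  have hseq : (ShortComplex.mk (ClSub.idealModι J) (ClSub.toSubscheme J) (kernel.condition _)).ShortExact :=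
    { exact := ShortComplex.exact_of_f_is_kernel _ (kernelIsKernel _)
      mono_f := inferInstanceAs (Mono (kernel.ι _)) }
  have hS := OX.tensor_map_shortExact (OX.flat_of_isFinLocFree (isFinLocFree_of_isInvertible hL)) hseq
  haveI : Subsingleton (((tF L).obj (ClSub.quotMod J)).presheaf.stalk x) :=
    QCoh.stalk_subsingleton_of_notMem fun h => hx (Snapper.support_quotMod J ((support_tF hL).le h))
  have hex := (ShortComplex.ShortExact.moduleCat_exact_iff_function_exact _).1 ((OX.shortExact_iff _).1 hS x).exact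
  have hmid : Function.Surjective (stalkLin ((tF L).map (ClSub.idealModι J)) x) := fun v =>
    (hex v).1 (Subsingleton.elim (α := ((tF L).obj (ClSub.quotMod J)).presheaf.stalk x) _ _)
  intro v
  obtain ⟨a, rfl⟩ := QCoh.stalkLin_surjective (OX.tensorUnitLeftIso L).hom x v
  obtain ⟨b, rfl⟩ := hmid a
  obtain ⟨c, rfl⟩ := QCoh.stalkLin_surjective
    (((OX.tensorBraiding (X := X)).app L).app (ClSub.idealMod J) ≪≫ e).inv x b
  exact ⟨c, (QCoh.stalkLin_comp _ _ _ _).trans (QCoh.stalkLin_comp _ _ _ _)⟩

variable {k : Type u} [Field k] {X : Scheme.{u}} [X.Over (Spec (CommRingCat.of k))]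
  [IsProper (X ↘ Spec (CommRingCat.of k))]

/-- An inverse of the ideal of a set without generic points has nonnegative degree on subcurves. -/
theorem deg_restrict_inverse_nonneg [AlgebraicGeometry.IsReduced X] [ConnectedSpace X]
    (hdim : topologicalKrullDim X = 1) (I : X.IdealSheafData) {L : X.Modules} (hL : PicF.IsInvertible L)
    (e : CohB1.tensorMod L (ClSub.idealMod I) ≅ Coh.structureModule X)
    (hI : ∀ η ∈ genericPoints (X : Type u), η ∉ (I.support : Set X)) {S : Set X}
    (hS : S ⊆ genericPoints (X : Type u)) : 0 ≤ degS k L S := by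
  haveI := Euler.isNoetherian_of_proper (X := X) k
  refine CurveSerre11.degS_nonneg (k := k) hdim.le hL (fun η hη => ?_) hS
  rw [← deg_eq_degS k hL]
  obtain ⟨hr, hirr, hconn, hd1⟩ := irreducible_JJ k hdim hη
  haveI := hr
  haveI := hirr
  let Y := (JJ ({η} : Set X)).subscheme
  let f := (JJ ({η} : Set X)).subschemeι
  letI : Y.Over (Spec (CommRingCat.of k)) := ⟨f ≫ X ↘ Spec (CommRingCat.of k)⟩
  haveI : IsProper (Y ↘ Spec (CommRingCat.of k)) := inferInstanceAs (IsProper (f ≫ X ↘ Spec (CommRingCat.of k)))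
  haveI : IsIntegral Y := isIntegral_of_irreducibleSpace_of_isReduced Y
  obtain ⟨y, hy⟩ : η ∈ Set.range f := by
    rw [Scheme.IdealSheafData.range_subschemeι, support_JJ]
    exact subset_closure rfl
  haveI : L.IsQuasicoherent := (Euler.isCoh_of_isInvertible hL).1
  let adj := Scheme.Modules.pullbackPushforwardAdjunction f
  let s := inverseSection I e
  let s' := (OX.pullUnitIso f).inv ≫ (Scheme.Modules.pullback f).map s
  have hLY := Ample.isInvertible_pullback f hL
  refine (Euler.deg_of_section k (X := Y) hd1.le hLY (s := s') fun h0 => ?_).1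
  have h1 : (Scheme.Modules.pullback f).map s = 0 := by
    rw [← cancel_epi (OX.pullUnitIso f).inv, comp_zero]; exact h0
  have h2 : s ≫ adj.unit.app L = 0 := by
    refine (adj.unit.naturality s).trans ?_
    show adj.unit.app _ ≫ (Scheme.Modules.pushforward f).map ((Scheme.Modules.pullback f).map s) = 0
    rw [h1, Functor.map_zero, comp_zero]
  haveI := LeffAmp7.epi_unit_closed f L
  let Q := (Scheme.Modules.pullback f).obj L
  haveI : Subsingleton (((Scheme.Modules.pushforward f).obj Q).presheaf.stalk (f y)) := by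
    refine subsingleton_of_forall_eq 0 fun n => ?_
    obtain ⟨n', rfl⟩ := QCoh.stalkLin_surjective (adj.unit.app L) (f y) n
    obtain ⟨c, rfl⟩ := surjective_inverseSection I hL e (x := f y) (by rw [hy]; exact hI η hη) n'
    refine (QCoh.stalkLin_comp s (adj.unit.app L) (f y) c).symm.trans ?_
    rw [h2]
    exact stalkLin_zero _ _
  obtain ⟨v', hv'⟩ := C1.exists_gen hLY y
  obtain ⟨n, hn⟩ := (QCoh.pushStalkHom_bijective f y Q f.isClosedEmbedding.isInducing).2 v'
  have hn0 : v' = 0 := by
    rw [← hn, show n = 0 from @Subsingleton.elim (((Scheme.Modules.pushforward f).obj Q).presheaf.stalk (f y)) _ _ _]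
    exact (QCoh.pushStalkHom f y Q).hom.map_zero
  exact one_ne_zero (hv'.1 (show (1 : Y.presheaf.stalk y) • v' = (0 : Y.presheaf.stalk y) • v' by
    rw [hn0, smul_zero, smul_zero]))

/-- The degree of an inverse of the ideal of finitely many closed points of a curve. -/
theorem deg_inverse_points [IsAlgClosed k] (hdim : topologicalKrullDim X ≤ 1) (T : Closeds X)
    (hfin : (T : Set X).Finite) (hcl : ∀ x ∈ (T : Set X), IsClosed ({x} : Set X))
    {L : X.Modules} (hL : PicF.IsInvertible L)
    (e : CohB1.tensorMod L (ClSub.idealMod (Scheme.IdealSheafData.vanishingIdeal T)) ≅ Coh.structureModule X) :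
    Curv2.deg k X L 1 = (Nat.card (T : Set X) : ℤ) := by
  haveI := Euler.isNoetherian_of_proper (X := X) k
  let I := Scheme.IdealSheafData.vanishingIdeal T
  have hIinv : PicF.IsInvertible (ClSub.idealMod I) := Seesaw26.isInvertible_of_tensor_iso e hL
  haveI := Euler.epi_toSubscheme I
  have hseq : (ShortComplex.mk (ClSub.idealModι I) (ClSub.toSubscheme I) (kernel.condition _)).ShortExact :=
    { exact := ShortComplex.exact_of_f_is_kernel _ (kernelIsKernel _)
      mono_f := inferInstanceAs (Mono (kernel.ι _)) }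
  have hQ : Coh.IsCoh (ClSub.quotMod I) := Snapper.isCoh_quotMod k I
  have hadd := Euler.euler_additive k hseq (Euler.isCoh_of_isInvertible hIinv)
    (Euler.isCoh_of_isInvertible Euler.isInvertible_structure) hQ
  have hsupp : CohB1.support (ClSub.quotMod I) ⊆ (T : Set X) := fun x hx => by
    have h := Snapper.support_quotMod I hx
    rwa [Scheme.IdealSheafData.coe_support_vanishingIdeal] at h
  have hχ : Curv2.euler k X (ClSub.quotMod I) = (Nat.card (T : Set X) : ℤ) := by
    rw [Euler.euler_eq_of_finite_support k _ (hfin.subset hsupp) fun x hx => hcl x (hsupp hx),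
      finrank_quotMod_eq k]
    congr 1
    letI : I.subscheme.Over (Spec (CommRingCat.of k)) := ⟨I.subschemeι ≫ X ↘ Spec (CommRingCat.of k)⟩
    haveI : IsProper (I.subscheme ↘ Spec (CommRingCat.of k)) :=
      inferInstanceAs (IsProper (I.subschemeι ≫ X ↘ Spec (CommRingCat.of k)))
    haveI := RedSub.isReduced_subscheme_vanishingIdeal T
    have hrange : Set.range I.subschemeι = (T : Set X) := by
      rw [Scheme.IdealSheafData.range_subschemeι, Scheme.IdealSheafData.coe_support_vanishingIdeal]
    haveI : Finite I.subscheme := by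
      haveI := hfin.to_subtype
      exact Finite.of_injective (fun y => (⟨I.subschemeι y, hrange.le ⟨y, rfl⟩⟩ : (T : Set X)))
        fun a b hab => I.subschemeι.isClosedEmbedding.injective (congrArg Subtype.val hab)
    haveI : T1Space I.subscheme := ⟨fun y => by
      rw [← I.subschemeι.isClosedEmbedding.injective.preimage_image {y}, Set.image_singleton]
      exact (hcl _ (hrange.le ⟨y, rfl⟩)).preimage I.subschemeι.continuous⟩
    rw [finrank_H0_discrete, ← hrange]
    exact (Nat.card_range_of_injective I.subschemeι.isClosedEmbedding.injective).symm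
  dsimp only at hadd
  have h1 := EulerLin16.deg_tensorMod k hdim hL hIinv
  rw [← deg_eq_ch k hdim (Ample.isInvertible_tensorMod hL hIinv), ← deg_eq_ch k hdim hL,
    ← deg_eq_ch k hdim hIinv, Euler.deg_of_iso k e, show Curv2.deg k X (Coh.structureModule X) 1 = 0 by simp [Curv2.deg]] at h1
  rw [hχ] at hadd
  simp only [Curv2.deg, Nat.cast_one, one_mul] at h1 ⊢
  omega

variable [IsAlgClosed k] [ConnectedSpace X]
  [DCoh.HasRpush (X ↘ Spec (CommRingCat.of k))] (h : DCoh.RpushPreservesQCoh (X ↘ Spec (CommRingCat.of k)))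
  [DCoh.HasShriek (X ↘ Spec (CommRingCat.of k)) h]
  (OY : DCoh.DQCoh (Spec (CommRingCat.of k)))
  (hOY : Nonempty (OY.obj ≅ DCoh.inD (Spec (CommRingCat.of k)) (Coh.structureModule (Spec (CommRingCat.of k)))))
  (hdim : topologicalKrullDim X = 1) (hX : Curv2.AtWorstNodal k X)
  (D : Set X) (hDfin : D.Finite) (hDcl : IsClosed D)
  (LD : X.Modules) (hLD : PicF.IsInvertible LD)
  (hinv : ClSub.IsInverseOf LD (ClSub.idealMod (Scheme.IdealSheafData.vanishingIdeal (⟨D, hDcl⟩ : Closeds X))))
  (hst : CohB1.IsAmple (CohB1.tensorMod (DCoh.dualizingMod (X ↘ (Spec (CommRingCat.of k))) h OY 1) LD))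

omit [IsAlgClosed k] [ConnectedSpace X] [DCoh.HasRpush (X ↘ Spec (CommRingCat.of k))] in
theorem isClosed_singleton_of_mem {D : Set X} (hfin : D.Finite) (hcl : IsClosed D) {x : X} (hx : x ∈ D)
    (π : X ⟶ Spec (CommRingCat.of k) := X ↘ Spec (CommRingCat.of k)) [LocallyOfFiniteType π] :
    IsClosed ({x} : Set X) := by
  haveI := hfin.to_subtype
  haveI : JacobsonSpace X := LocallyOfFiniteType.jacobsonSpace π
  haveI : JacobsonSpace D := JacobsonSpace.of_isClosedEmbedding hcl.isClosedEmbedding_subtypeVal
  have h := (isClosed_discrete ({⟨x, hx⟩} : Set D))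
  rw [← Set.image_singleton (f := (Subtype.val : D → X)) (a := ⟨x, hx⟩)]
  exact hcl.isClosedEmbedding_subtypeVal.isClosedMap _ h

include k in
omit [IsAlgClosed k] [DCoh.HasRpush (X ↘ Spec (CommRingCat.of k))] in
theorem notMem_of_genericPoint (hdim : topologicalKrullDim X = 1) {D : Set X} (hfin : D.Finite) (hcl : IsClosed D)
    {η : X} (hη : η ∈ genericPoints (X : Type u)) : η ∉ D := by
  intro h
  have hcl : IsClosed ({η} : Set X) := isClosed_singleton_of_mem (k := k) hfin hcl h
  have hC : closure ({η} : Set X) ∈ irreducibleComponents (X : Type u) := hη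
  rw [hcl.closure_eq] at hC
  have h1 := equidim_of_connected (k := k) hdim _ hC
  haveI : Subsingleton ({η} : Set X) := ⟨fun a b => Subtype.ext (a.2.trans b.2.symm)⟩
  have h0 : topologicalKrullDim ({η} : Set X) ≤ 0 := topologicalKrullDim_zero_of_discreteTopology _
  rw [h1] at h0
  exact absurd h0 (by decide)

include hOY hdim hX hDfin hLD hinv hst in
/-- Higher powers of the log canonical sheaf have no first cohomology. -/
theorem subsingleton_H1_pointed_pow (m : ℕ) (hm : 2 ≤ m) :
    Subsingleton (Coh.HH X (CohB1.tensorPow (CohB1.tensorMod (DCoh.dualizingMod (X ↘ (Spec (CommRingCat.of k))) h OY 1) LD) m) 1) := by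
  haveI := Euler.isNoetherian_of_proper (X := X) k
  obtain ⟨hred, hω⟩ := nodal_data h OY hdim hOY (equidim_of_connected (k := k) hdim) hX
  haveI := hred
  obtain ⟨e⟩ := hinv
  have hM := Ample.isInvertible_tensorMod hω hLD
  refine subsingleton_H1_of_deg k hdim (Ample.isInvertible_tensorPow hM m) fun J hJr hJc hJ1 => ?_
  haveI := hJr
  haveI := hJc
  rw [deg_restrict_tensorPow k hdim.le hM J m]
  have hp := (ample_restrict k hdim hM hst J hJ1).1
  have hw := (numbers k hdim h OY hOY hω J hJ1).1
  letI : J.subscheme.Over (Spec (CommRingCat.of k)) := ⟨J.subschemeι ≫ X ↘ Spec (CommRingCat.of k)⟩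
  haveI : IsProper (J.subscheme ↘ Spec (CommRingCat.of k)) :=
    inferInstanceAs (IsProper (J.subschemeι ≫ X ↘ Spec (CommRingCat.of k)))
  have hsplit : Curv2.deg k J.subscheme ((Scheme.Modules.pullback J.subschemeι).obj
      (CohB1.tensorMod (DCoh.dualizingMod (X ↘ Spec (CommRingCat.of k)) h OY 1) LD)) 1 =
      Curv2.deg k J.subscheme ((Scheme.Modules.pullback J.subschemeι).obj
        (DCoh.dualizingMod (X ↘ Spec (CommRingCat.of k)) h OY 1)) 1 +
      Curv2.deg k J.subscheme ((Scheme.Modules.pullback J.subschemeι).obj LD) 1 := by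
    have h1 := Ample.isInvertible_pullback J.subschemeι hω
    have h2 := Ample.isInvertible_pullback J.subschemeι hLD
    refine (Euler.deg_of_iso k (OX.pullTensorIso J.subschemeι (DCoh.dualizingMod (X ↘ Spec (CommRingCat.of k)) h OY 1) LD) 1).trans ?_
    show Curv2.deg k J.subscheme (CohB1.tensorMod _ _) 1 = _
    rw [deg_eq_ch k hJ1.le (Ample.isInvertible_tensorMod h1 h2),
      deg_eq_ch k hJ1.le h1, deg_eq_ch k hJ1.le h2, EulerLin16.deg_tensorMod k hJ1.le h1 h2]
  have hD0 : 0 ≤ Curv2.deg k J.subscheme ((Scheme.Modules.pullback J.subschemeι).obj LD) 1 := by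
    obtain ⟨h1, -⟩ := eq_JJ (k := k) hdim.le J hJ1
    revert h1
    generalize hS : genericPoints (X : Type u) ∩ (J.support : Set X) = S
    intro h1
    subst h1
    rw [deg_eq_degS k hLD]
    refine deg_restrict_inverse_nonneg hdim _ hLD e (fun η hη => ?_) (hS ▸ Set.inter_subset_left)
    rw [Scheme.IdealSheafData.coe_support_vanishingIdeal]
    exact notMem_of_genericPoint (k := k) hdim hDfin hDcl hη
  rw [hsplit] at hp ⊢
  have hm' : (2 : ℤ) ≤ (m : ℤ) := by exact_mod_cast hm
  nlinarith

include hOY hdim hX hDfin hLD hinv hst in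
/-- The number of sections of higher powers of the log canonical sheaf. -/
theorem finrank_H0_pointed_pow (l : ℕ) (hl : 2 ≤ l) :
    (Module.finrank k (Coh.HH X (CohB1.tensorPow (CohB1.tensorMod (DCoh.dualizingMod (X ↘ (Spec (CommRingCat.of k))) h OY 1) LD) l) 0) : ℤ) =
      (l : ℤ) * (2 * (Curv2.genus k X : ℤ) - 2 + (Nat.card D : ℤ)) + 1 - (Curv2.genus k X : ℤ) := by
  haveI := Euler.isNoetherian_of_proper (X := X) k
  haveI := subsingleton_H1_pointed_pow h OY hOY hdim hX D hDfin hDcl LD hLD hinv hst l hl
  obtain ⟨hred, hω⟩ := nodal_data h OY hdim hOY (equidim_of_connected (k := k) hdim) hX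
  haveI := hred
  obtain ⟨e⟩ := hinv
  have hM := Ample.isInvertible_tensorMod hω hLD
  have hP := Ample.isInvertible_tensorPow hM l
  haveI := (Euler.isCoh_of_isInvertible hP).1
  have hχ := Euler.euler_eq_sub k hdim.le (F := CohB1.tensorPow (CohB1.tensorMod (DCoh.dualizingMod (X ↘ (Spec (CommRingCat.of k))) h OY 1) LD) l)
  rw [Module.finrank_zero_of_subsingleton (M := Coh.HH X (CohB1.tensorPow (CohB1.tensorMod (DCoh.dualizingMod (X ↘ (Spec (CommRingCat.of k))) h OY 1) LD) l) 1), Nat.cast_zero, sub_zero] at hχ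
  have hdeg : Curv2.deg k X (CohB1.tensorPow (CohB1.tensorMod (DCoh.dualizingMod (X ↘ (Spec (CommRingCat.of k))) h OY 1) LD) l) 1 =
      (l : ℤ) * (2 * (Curv2.genus k X : ℤ) - 2 + (Nat.card D : ℤ)) := by
    have h3 : (Nat.card D : ℤ) = Curv2.deg k X LD 1 :=
      (deg_inverse_points hdim.le ⟨D, hDcl⟩ hDfin
        (fun x hx => isClosed_singleton_of_mem (k := k) hDfin hDcl hx) hLD e).symm
    rw [h3, ← deg_omega_self k hdim h OY hOY hω, deg_eq_ch k hdim.le hP, EulerLin16.deg_tensorPow k hdim.le hM l,
      EulerLin16.deg_tensorMod k hdim.le hω hLD, deg_eq_ch k hdim.le hω, deg_eq_ch k hdim.le hLD]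
  rw [Curv2.deg, Nat.cast_one, one_mul, euler_structure_self k hdim, hχ] at hdeg
  omega

end GrothLib.FMAdj25
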