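import Groth.Agent.Lib.FMAdj25.PointedCanonical
import Groth.Agent.Lib.CurveSerre11.MarkedTwist
import Groth.Agent.Lib.WeilExt.Extend
import Groth.Agent.Lib.ValExt9.Basic
import Groth.Agent.Lib.CMFree.Regular

/-! # Degrees of marked points on the components of a pointed curve -/

set_option autoImplicit false
set_option maxHeartbeats 1000000
set_option linter.all false
set_option backward.isDefEq.respectTransparency false
universe u

open CategoryTheory CategoryTheory.Limits AlgebraicGeometry Opposite TopologicalSpace
attribute [local instance] HasDerivedCategory.standard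

noncomputable section

namespace GrothLib.FMAdj25

open GrothLib.QCoh GrothLib.Euler GrothLib.CurveSerre11 GrothLib.SubCurve16

variable {k : Type u} [Field k] {X : Scheme.{u}} [X.Over (Spec (CommRingCat.of k))]
  [IsProper (X ↘ Spec (CommRingCat.of k))]

variable [IsAlgClosed k] [AlgebraicGeometry.IsReduced X] [ConnectedSpace X]

/-- The points of the subscheme on a union of components count in the degree there. -/
theorem ncard_le_degS (hdim : topologicalKrullDim X = 1) (I : X.IdealSheafData) {L : X.Modules}
    (e : CohB1.tensorMod L (ClSub.idealMod I) ≅ Coh.structureModule X)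
    (hI : ∀ η ∈ genericPoints (X : Type u), η ∉ (I.support : Set X)) (hfinI : (I.support : Set X).Finite)
    (hclI : ∀ x ∈ (I.support : Set X), IsClosed ({x} : Set X))
    {S : Set X} (hS : S ⊆ genericPoints (X : Type u)) :
    (((I.support : Set X) ∩ closure S).ncard : ℤ) ≤ degS k L S := by
  haveI := Euler.isNoetherian_of_proper (X := X) k
  have hsup : ((I ⊔ JJ S).support : Set X) = (I.support : Set X) ∩ closure S := by
    rw [Scheme.IdealSheafData.support_sup, ← support_JJ S]; rfl
  rw [degS_inverse (k := k) hdim.le ⟨e⟩ hI hS, ← hsup]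
  exact_mod_cast ncard_support_le (k := k) (I ⊔ JJ S) (hsup ▸ hfinI.inter_of_left _)
    fun x hx => hclI x (hsup.le hx).1

/-- The degree of the marked points on a component is their number there. -/
theorem degS_singleton_eq_ncard (hdim : topologicalKrullDim X = 1) (T : Closeds X) (hfinT : (T : Set X).Finite)
    (hcl : ∀ x ∈ (T : Set X), IsClosed ({x} : Set X)) (hng : ∀ η ∈ genericPoints (X : Type u), η ∉ (T : Set X))
    {L : X.Modules} (hL : PicF.IsInvertible L)
    (e : CohB1.tensorMod L (ClSub.idealMod (Scheme.IdealSheafData.vanishingIdeal T)) ≅ Coh.structureModule X)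
    {η : X} (hη : η ∈ genericPoints (X : Type u)) :
    degS k L {η} = (((T : Set X) ∩ closure {η}).ncard : ℤ) := by
  haveI := Euler.isNoetherian_of_proper (X := X) k
  let I := Scheme.IdealSheafData.vanishingIdeal T
  have hsupp : (I.support : Set X) = (T : Set X) := Scheme.IdealSheafData.coe_support_vanishingIdeal _
  have hI : ∀ η ∈ genericPoints (X : Type u), η ∉ (I.support : Set X) := fun η hη => hsupp ▸ hng η hη
  have hfinI : (I.support : Set X).Finite := hsupp ▸ hfinT
  have hclI : ∀ x ∈ (I.support : Set X), IsClosed ({x} : Set X) := fun x hx => hcl x (hsupp.le hx)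
  have h1 := ncard_le_degS (k := k) hdim I e hI hfinI hclI (Set.singleton_subset_iff.2 hη)
  have h2 := ncard_le_degS (k := k) hdim I e hI hfinI hclI (S := genericPoints (X : Type u) \ {η}) Set.sdiff_subset
  have h3 := degS_union k hdim.le hL (S := genericPoints (X : Type u)) subset_rfl (T := {η})
    (Set.singleton_subset_iff.2 hη)
  rw [degS_univ, deg_inverse_points hdim.le T hfinT hcl hL e, Nat.card_coe_set_eq] at h3
  rw [hsupp] at h1 h2
  have h4 : (T : Set X).ncard ≤ ((T : Set X) ∩ closure {η}).ncard +
      ((T : Set X) ∩ closure (genericPoints (X : Type u) \ {η})).ncard := by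
    refine le_trans (le_of_eq ?_) (Set.ncard_union_le _ _)
    rw [← Set.inter_union_distrib_left, ← closure_union, Set.union_sdiff_cancel (Set.singleton_subset_iff.2 hη),
      genericPoints.closure, Set.inter_univ]
  have h4' : ((T : Set X).ncard : ℤ) ≤ (((T : Set X) ∩ closure {η}).ncard : ℤ) +
      (((T : Set X) ∩ closure (genericPoints (X : Type u) \ {η})).ncard : ℤ) := by exact_mod_cast h4
  omega

omit [IsAlgClosed k] [AlgebraicGeometry.IsReduced X] [ConnectedSpace X] [IsProper (X ↘ Spec (CommRingCat.of k))] in
/-- A smooth point lies on a single component. -/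
theorem eq_of_mem_of_formallySmooth [LocallyOfFinitePresentation (X ↘ Spec (CommRingCat.of k))] {x : X}
    (hx : ((X ↘ Spec (CommRingCat.of k)).stalkMap x).hom.FormallySmooth)
    {Z Z' : Set X} (hZ : Z ∈ irreducibleComponents (X : Type u)) (hxZ : x ∈ Z)
    (hZ' : Z' ∈ irreducibleComponents (X : Type u)) (hxZ' : x ∈ Z') : Z = Z' := by
  haveI : IsRegularLocalRing (X.presheaf.stalk x) :=
    (GrothLib.LocProp.isRegularLocalRing_stalk_iff_of_mem_smoothLocus _ x hx).mpr
      (WeilExt.isRegularLocalRing_stalk_spec k _)
  haveI : IsDomain (X.presheaf.stalk x) := CMFree.isDomain_of_isRegularLocalRing _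
  exact (ValExt9.eq_of_mem_components x hZ hxZ).trans (ValExt9.eq_of_mem_components x hZ' hxZ').symm

end GrothLib.FMAdj25
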