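import Groth.Agent.Lib.FMAdj25.PointedCanonical
import Groth.Agent.Lib.FMAdj25.CurveVA

/-! # The log canonical embedding of a pointed stable curve -/

set_option autoImplicit false
set_option maxHeartbeats 1000000
set_option linter.all false
set_option backward.isDefEq.respectTransparency false
universe u

open CategoryTheory CategoryTheory.Limits AlgebraicGeometry Opposite TopologicalSpace
attribute [local instance] HasDerivedCategory.standard

noncomputable section

namespace GrothLib.FMAdj25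

open GrothLib.QCoh GrothLib.Euler GrothLib.CurveSerre11 GrothLib.SubCurve16

variable {k : Type u} [Field k] {X : Scheme.{u}} [X.Over (Spec (CommRingCat.of k))]
  [IsProper (X ↘ Spec (CommRingCat.of k))]

variable [IsAlgClosed k] [ConnectedSpace X]
  [DCoh.HasRpush (X ↘ Spec (CommRingCat.of k))] (h : DCoh.RpushPreservesQCoh (X ↘ Spec (CommRingCat.of k)))
  [DCoh.HasShriek (X ↘ Spec (CommRingCat.of k)) h]
  (OY : DCoh.DQCoh (Spec (CommRingCat.of k)))
  (hOY : Nonempty (OY.obj ≅ DCoh.inD (Spec (CommRingCat.of k)) (Coh.structureModule (Spec (CommRingCat.of k)))))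
  (hdim : topologicalKrullDim X = 1) (hX : Curv2.AtWorstNodal k X)
  (D : Set X) (hDfin : D.Finite) (hDcl : IsClosed D)
  (LD : X.Modules) (hLD : PicF.IsInvertible LD)
  (hinv : ClSub.IsInverseOf LD (ClSub.idealMod (Scheme.IdealSheafData.vanishingIdeal (⟨D, hDcl⟩ : Closeds X))))
  (hst : CohB1.IsAmple (CohB1.tensorMod (DCoh.dualizingMod (X ↘ (Spec (CommRingCat.of k))) h OY 1) LD))

include hOY hdim hX hDfin hLD hinv hst in
/-- Degrees of the log canonical sheaf on subcurves. -/
theorem pointed_deg_restrict (J : X.IdealSheafData) (hJr : IsReduced J.subscheme) (hJc : ConnectedSpace J.subscheme)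
    (hJ1 : topologicalKrullDim J.subscheme = 1) :
    0 < @Curv2.deg k _ J.subscheme ⟨J.subschemeι ≫ (X ↘ (Spec (CommRingCat.of k)))⟩
        ((Scheme.Modules.pullback J.subschemeι).obj (CohB1.tensorMod (DCoh.dualizingMod (X ↘ (Spec (CommRingCat.of k))) h OY 1) LD)) 1 ∧
      2 * (@Curv2.genus k _ J.subscheme ⟨J.subschemeι ≫ (X ↘ (Spec (CommRingCat.of k)))⟩ : ℤ) - 2 ≤
      @Curv2.deg k _ J.subscheme ⟨J.subschemeι ≫ (X ↘ (Spec (CommRingCat.of k)))⟩
        ((Scheme.Modules.pullback J.subschemeι).obj (CohB1.tensorMod (DCoh.dualizingMod (X ↘ (Spec (CommRingCat.of k))) h OY 1) LD)) 1 := by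
  haveI := Euler.isNoetherian_of_proper (X := X) k
  obtain ⟨hred, hω⟩ := nodal_data h OY hdim hOY (equidim_of_connected (k := k) hdim) hX
  haveI := hred
  obtain ⟨e⟩ := hinv
  have hM := Ample.isInvertible_tensorMod hω hLD
  haveI := hJr
  haveI := hJc
  have hp := (ample_restrict k hdim hM hst J hJ1).1
  have hw := (numbers k hdim h OY hOY hω J hJ1).1
  letI : J.subscheme.Over (Spec (CommRingCat.of k)) := ⟨J.subschemeι ≫ X ↘ Spec (CommRingCat.of k)⟩
  haveI : IsProper (J.subscheme ↘ Spec (CommRingCat.of k)) :=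
    inferInstanceAs (IsProper (J.subschemeι ≫ X ↘ Spec (CommRingCat.of k)))
  have hsplit : Curv2.deg k J.subscheme ((Scheme.Modules.pullback J.subschemeι).obj
      (CohB1.tensorMod (DCoh.dualizingMod (X ↘ Spec (CommRingCat.of k)) h OY 1) LD)) 1 =
      Curv2.deg k J.subscheme ((Scheme.Modules.pullback J.subschemeι).obj
        (DCoh.dualizingMod (X ↘ Spec (CommRingCat.of k)) h OY 1)) 1 +
      Curv2.deg k J.subscheme ((Scheme.Modules.pullback J.subschemeι).obj LD) 1 := by
    have h1 := Ample.isInvertible_pullback J.subschemeι hω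
    have h2 := Ample.isInvertible_pullback J.subschemeι hLD
    refine (Euler.deg_of_iso k (OX.pullTensorIso J.subschemeι (DCoh.dualizingMod (X ↘ Spec (CommRingCat.of k)) h OY 1) LD) 1).trans ?_
    show Curv2.deg k J.subscheme (CohB1.tensorMod _ _) 1 = _
    rw [deg_eq_ch k hJ1.le (Ample.isInvertible_tensorMod h1 h2),
      deg_eq_ch k hJ1.le h1, deg_eq_ch k hJ1.le h2, EulerLin16.deg_tensorMod k hJ1.le h1 h2]
  have hD0 : 0 ≤ Curv2.deg k J.subscheme ((Scheme.Modules.pullback J.subschemeι).obj LD) 1 := by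
    obtain ⟨h1, -⟩ := eq_JJ (k := k) hdim.le J hJ1
    revert h1
    generalize hS : genericPoints (X : Type u) ∩ (J.support : Set X) = S
    intro h1
    subst h1
    rw [deg_eq_degS k hLD]
    refine deg_restrict_inverse_nonneg hdim _ hLD e (fun η hη => ?_) (hS ▸ Set.inter_subset_left)
    rw [Scheme.IdealSheafData.coe_support_vanishingIdeal]
    exact notMem_of_genericPoint (k := k) hdim hDfin hDcl hη
  refine ⟨hp, ?_⟩
  rw [hsplit]
  omega

include hOY hdim hX hDfin hLD hinv hst in
/-- The third and higher powers of the log canonical sheaf are very ample. -/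
theorem exists_closedImmersion_pointed_pow (m : ℕ) (hm : 3 ≤ m) :
    ∃ (N : ℕ) (i : X ⟶ CohB1.ProjSpace N k), IsClosedImmersion i ∧ i ≫ CohB1.ProjSpace.toSpec N k = (X ↘ (Spec (CommRingCat.of k))) ∧
      Nonempty ((Scheme.Modules.pullback i).obj (Twist.twistProjSpace N k 1) ≅ CohB1.tensorPow (CohB1.tensorMod (DCoh.dualizingMod (X ↘ (Spec (CommRingCat.of k))) h OY 1) LD) m) := by
  obtain ⟨hred, hω⟩ := nodal_data h OY hdim hOY (equidim_of_connected (k := k) hdim) hX
  haveI := hred
  have hM := Ample.isInvertible_tensorMod hω hLD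
  refine exists_closedImmersion_of_deg_subcurves hdim (Ample.isInvertible_tensorPow hM m) fun J hJr hJc hJ1 => ?_
  obtain ⟨h1, h2⟩ := pointed_deg_restrict h OY hOY hdim hX D hDfin hDcl LD hLD hinv hst J hJr hJc hJ1
  rw [deg_restrict_tensorPow k hdim.le hM J m]
  have hm' : (3 : ℤ) ≤ (m : ℤ) := by exact_mod_cast hm
  have h3 := mul_le_mul_of_nonneg_right hm' h1.le
  omega

end GrothLib.FMAdj25
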