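import Groth.Agent.Lib.FMAdj25.CurveVA
import Groth.Agent.Lib.FMAdj25.PointedDegree
import Groth.Agent.Lib.SepPts.SmoothDense
import Groth.Agent.Lib.UnitProd.Split
import Groth.Agent.Lib.BlowUp.UFD
import Groth.Agent.Lib.IdealModSec.Basic
import Groth.Agent.Lib.RegUFD.Basic
import Groth.Agent.Lib.Kodaira.Cones

/-!
# A very ample module of bounded degree on a reduced curve
-/

set_option autoImplicit false
set_option linter.all false
set_option backward.isDefEq.respectTransparency false
set_option maxHeartbeats 1000000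

universe u

open CategoryTheory CategoryTheory.Limits AlgebraicGeometry TopologicalSpace Opposite
attribute [local instance] HasDerivedCategory.standard

noncomputable section

namespace GrothLib.FMAdj25

open GrothLib.QCoh GrothLib.Euler GrothLib.CurveSerre11 GrothLib.SubCurve16

variable {k : Type u} [Field k] {X : Scheme.{u}} [X.Over (Spec (CommRingCat.of k))]
  [IsProper (X ↘ Spec (CommRingCat.of k))]

include k in
theorem ringKrullDim_stalk_le (hdim : topologicalKrullDim X ≤ 1) (x : X) :
    ringKrullDim (X.presheaf.stalk x) ≤ 1 := by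
  obtain ⟨U, hU, hxU, -⟩ := exists_isAffineOpen_mem_and_subset (x := x) (U := ⊤) trivial
  let _ := TopCat.Presheaf.algebra_section_stalk X.presheaf (⟨x, hxU⟩ : U)
  haveI := hU.isLocalization_stalk ⟨x, hxU⟩
  rw [IsLocalization.AtPrime.ringKrullDim_eq_height (hU.primeIdealOf ⟨x, hxU⟩).asIdeal (X.presheaf.stalk x)]
  exact (Ideal.height_le_ringKrullDim_of_ne_top Ideal.IsPrime.ne_top').trans
    ((GrothLib.Dim.topologicalKrullDim_affineOpen hU).symm.le.trans ((topologicalKrullDim_subspace_le X U).trans hdim))

omit [X.Over (Spec (CommRingCat.of k))] [IsProper (X ↘ Spec (CommRingCat.of k))] in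
/-- A point with a field as local ring is a generic point. -/
theorem mem_genericPoints_of_isField_stalk {x : X} (h : IsField (X.presheaf.stalk x)) :
    x ∈ genericPoints (X : Type u) := by
  refine FinAff13.mem_genericPoints_iff.2 fun y hy => ?_
  obtain ⟨p, rfl⟩ := (Scheme.range_fromSpecStalk (X := X) (x := x)).ge hy
  letI := h.toField
  haveI : Subsingleton (Spec (X.presheaf.stalk x)) := inferInstanceAs (Subsingleton (PrimeSpectrum (X.presheaf.stalk x)))
  rw [Subsingleton.elim p (IsLocalRing.closedPoint _)]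
  exact Scheme.fromSpecStalk_closedPoint

variable [AlgebraicGeometry.IsReduced X]

include k in
/-- Finitely many smooth closed points on a curve form an effective Cartier divisor. -/
theorem isInvertible_idealMod_points [ConnectedSpace X] (hdim : topologicalKrullDim X = 1) (T : Closeds X)
    (hcl : ∀ x ∈ (T : Set X), IsClosed ({x} : Set X))
    (hsm : ∀ x ∈ (T : Set X), x ∈ (X ↘ Spec (CommRingCat.of k)).smoothLocus) :
    PicF.IsInvertible (ClSub.idealMod (Scheme.IdealSheafData.vanishingIdeal T)) := by
  haveI := Euler.isNoetherian_of_proper (X := X) k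
  have hreg : ∀ x ∈ (T : Set X), IsRegularLocalRing (X.presheaf.stalk x) := fun x hx =>
    (GrothLib.LocProp.isRegularLocalRing_stalk_iff_of_mem_smoothLocus _ x (hsm x hx)).mpr
      (WeilExt.isRegularLocalRing_stalk_spec k _)
  refine IdealModSec.isInvertible_of_isEffCartier fun x => ?_
  by_cases hxT : x ∈ (T : Set X)
  · haveI := hreg x hxT
    haveI : IsDomain (X.presheaf.stalk x) := CMFree.isDomain_of_isRegularLocalRing _
    haveI : UniqueFactorizationMonoid (X.presheaf.stalk x) := RegUFD.ufd_of_isRegularLocalRing _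
    have hcod : ∀ z : (Scheme.IdealSheafData.vanishingIdeal T).subscheme,
        Curv2.IsWeakAssPoint (Coh.structureModule (Scheme.IdealSheafData.vanishingIdeal T).subscheme) z →
        ringKrullDim (X.presheaf.stalk ((Scheme.IdealSheafData.vanishingIdeal T).subschemeι z)) = 1 := fun z _ => by
      have hy : (Scheme.IdealSheafData.vanishingIdeal T).subschemeι z ∈ (T : Set X) :=
        ((Scheme.IdealSheafData.range_subschemeι _).trans (Scheme.IdealSheafData.coe_support_vanishingIdeal _)).le
          ⟨z, rfl⟩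
      generalize (Scheme.IdealSheafData.vanishingIdeal T).subschemeι z = y at hy ⊢
      haveI := hreg y hy
      haveI : IsDomain (X.presheaf.stalk y) := CMFree.isDomain_of_isRegularLocalRing _
      refine le_antisymm (ringKrullDim_stalk_le (k := k) hdim.le y) ?_
      have h0 : ¬ ringKrullDim (X.presheaf.stalk y) = 0 := fun h0 => by
        haveI : Ring.KrullDimLE 0 (X.presheaf.stalk y) := by
          rw [Ring.krullDimLE_iff]; exact h0.le
        exact not_isClosed_generic hdim
          (mem_genericPoints_of_isField_stalk Ring.KrullDimLE.isField_of_isDomain) (hcl y hy)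
      have h1 := ringKrullDim_nonneg_of_nontrivial (R := X.presheaf.stalk y)
      revert h0 h1
      generalize ringKrullDim (X.presheaf.stalk y) = d
      intro h0 h1
      induction d with
      | bot => exact absurd h1 (by simp)
      | coe e =>
        have he : e ≠ 0 := fun h => h0 (by rw [h]; rfl)
        exact WithBot.coe_le_coe.2 (Order.one_le_iff_pos.2 (pos_iff_ne_zero.2 he))
    obtain ⟨U, hxU, hU⟩ := BlowUp.exists_cartierOn_of_ufd _ hcod x
    exact ⟨U, hxU, hU⟩
  · obtain ⟨V, hV, hxV, hVT⟩ := exists_isAffineOpen_mem_and_subset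
      (show x ∈ (⟨(T : Set X)ᶜ, T.isClosed.isOpen_compl⟩ : X.Opens) from hxT)
    refine ⟨⟨V, hV⟩, hxV, 1, one_mem _, ?_⟩
    rw [Ideal.span_singleton_one, Ideal.eq_top_iff_one]
    exact (QCoh.mem_vanishingIdeal_iff _ _ 1).2 fun y hy hyT => absurd hyT (hVT hy)

variable [IsAlgClosed k] [ConnectedSpace X]

include k in
/-- Every component carries any number of smooth closed points. -/
theorem exists_smooth_points (hdim : topologicalKrullDim X = 1) {η : X} (hη : η ∈ genericPoints (X : Type u)) (d : ℕ) :
    ∃ F : Finset X, F.card = d ∧ ∀ x ∈ F, x ∈ closure ({η} : Set X) ∧ IsClosed ({x} : Set X) ∧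
      x ∈ (X ↘ Spec (CommRingCat.of k)).smoothLocus := by
  haveI := Euler.isNoetherian_of_proper (X := X) k
  haveI : GeometricallyReduced (X ↘ Spec (CommRingCat.of k)) := UnitProd.geometricallyReduced_of_isReduced _
  haveI : JacobsonSpace X := LocallyOfFiniteType.jacobsonSpace (X ↘ Spec (CommRingCat.of k))
  let W : Set X := closure ({η} : Set X) ∩ ((X ↘ Spec (CommRingCat.of k)).smoothLocus : Set X)
  have hηW : η ∈ W := by
    refine ⟨subset_closure rfl, ?_⟩
    have hcl : IsClosed (⋃ Z ∈ irreducibleComponents (X : Type u) \ {closure ({η} : Set X)}, Z) :=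
      (NoetherianSpace.finite_irreducibleComponents.subset Set.sdiff_subset).isClosed_biUnion
        fun Z hZ => isClosed_of_mem_irreducibleComponents Z hZ.1
    have hne : η ∈ (⋃ Z ∈ irreducibleComponents (X : Type u) \ {closure ({η} : Set X)}, Z)ᶜ := by
      intro hmem
      obtain ⟨Z, hZ, hηZ⟩ := Set.mem_iUnion₂.1 hmem
      have hle : closure ({η} : Set X) ⊆ Z :=
        closure_minimal (Set.singleton_subset_iff.2 hηZ) (isClosed_of_mem_irreducibleComponents Z hZ.1)
      exact hZ.2 (subset_antisymm ((show closure ({η} : Set X) ∈ irreducibleComponents (X : Type u) from hη).2 hZ.1.1 hle) hle)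
    obtain ⟨z, hz, hzU⟩ := (SepPts.dense_smoothLocus (X ↘ Spec (CommRingCat.of k))).inter_open_nonempty _
      hcl.isOpen_compl ⟨η, hne⟩
    have hzC : z ∈ closure ({η} : Set X) := by
      obtain ⟨Z, hZ, hzZ⟩ : ∃ Z ∈ irreducibleComponents (X : Type u), z ∈ Z :=
        ⟨_, irreducibleComponent_mem_irreducibleComponents z, mem_irreducibleComponent⟩
      by_cases hZe : Z = closure ({η} : Set X)
      · exact hZe ▸ hzZ
      · exact absurd (Set.mem_iUnion₂.2 ⟨Z, ⟨hZ, hZe⟩, hzZ⟩) hz
    exact (specializes_iff_mem_closure.2 hzC).mem_open (X ↘ Spec (CommRingCat.of k)).smoothLocus.2 hzU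
  have hW : IsLocallyClosed W := isClosed_closure.isLocallyClosed.inter
    (X ↘ Spec (CommRingCat.of k)).smoothLocus.2.isLocallyClosed
  have hinf : (W ∩ closedPoints X).Infinite := fun hfin => by
    have hc : IsClosed (W ∩ closedPoints X) := by
      rw [← Set.biUnion_of_singleton (W ∩ closedPoints X)]
      exact hfin.isClosed_biUnion fun x hx => hx.2
    have hmem : η ∈ W ∩ closedPoints X := by
      rw [← hc.closure_eq, JacobsonSpace.closure_inter_closedPoints_eq_closure hW]
      exact subset_closure hηW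
    exact not_isClosed_generic hdim hη hmem.2
  obtain ⟨F, hF, hcard⟩ := hinf.exists_subset_card_eq d
  exact ⟨F, hcard, fun x hx => ⟨(hF hx).1.1, (hF hx).2, (hF hx).1.2⟩⟩

include k in
/-- A very ample module of degree at most `e (2 g + 1)`. -/
theorem exists_veryAmple_bounded (hdim : topologicalKrullDim X = 1) (g e : ℕ)
    (hfin : (irreducibleComponents (X : Type u)).Finite) (hcard : (irreducibleComponents (X : Type u)).ncard ≤ e)
    (hg : Curv2.genus k X = g) :
    ∃ L : X.Modules, PicF.IsInvertible L ∧ Curv2.deg k X L 1 ≤ ((e * (2 * g + 1) : ℕ) : ℤ) ∧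
      Subsingleton (Coh.HH X L 1) ∧
      ∃ (m : ℕ) (i : X ⟶ CohB1.ProjSpace m k), IsClosedImmersion i ∧
        i ≫ CohB1.ProjSpace.toSpec m k = X ↘ Spec (CommRingCat.of k) ∧
        Nonempty ((Scheme.Modules.pullback i).obj (Twist.twistProjSpace m k 1) ≅ L) := by
  classical
  haveI := Euler.isNoetherian_of_proper (X := X) k
  choose! F hFcard hF using fun η (hη : η ∈ genericPoints (X : Type u)) =>
    exists_smooth_points (k := k) hdim hη (2 * g + 1)
  have hGfin : (genericPoints (X : Type u)).Finite := genericPoints.finite NoetherianSpace.finite_irreducibleComponents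
  let G := hGfin.toFinset
  let T0 : Finset X := G.biUnion F
  have hT : ∀ x ∈ T0, IsClosed ({x} : Set X) ∧ x ∈ (X ↘ Spec (CommRingCat.of k)).smoothLocus := fun x hx => by
    obtain ⟨η, hη, hxη⟩ := Finset.mem_biUnion.1 hx
    exact (hF η (hGfin.mem_toFinset.1 hη) x hxη).2
  let T : Closeds X := ⟨(T0 : Set X), by
    rw [← Set.biUnion_of_singleton (T0 : Set X)]
    exact T0.finite_toSet.isClosed_biUnion fun x hx => (hT x hx).1⟩
  have hTfin : (T : Set X).Finite := T0.finite_toSet
  have hTcl : ∀ x ∈ (T : Set X), IsClosed ({x} : Set X) := fun x hx => (hT x hx).1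
  have hTcard : (T : Set X).ncard ≤ e * (2 * g + 1) := by
    show (T0 : Set X).ncard ≤ _
    rw [Set.ncard_coe_finset]
    refine (Finset.card_biUnion_le).trans ?_
    rw [Finset.sum_congr rfl fun η hη => hFcard η (hGfin.mem_toFinset.1 hη), Finset.sum_const, smul_eq_mul]
    refine Nat.mul_le_mul_right _ (le_trans ?_ hcard)
    rw [← Set.ncard_eq_toFinset_card (genericPoints (X : Type u)) hGfin]
    refine Set.ncard_le_ncard_of_injOn (fun η => closure ({η} : Set X)) (fun η hη => hη) ?_ hfin
    exact fun a _ b _ hab => (inseparable_iff_closure_eq.2 hab).eq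
  have hI := isInvertible_idealMod_points (k := k) hdim T hTcl fun x hx => (hT x hx).2
  obtain ⟨L, hL, ⟨eL⟩⟩ := Kodaira.exists_inverse hI
  let I := Scheme.IdealSheafData.vanishingIdeal T
  have hsupp : (I.support : Set X) = (T : Set X) := Scheme.IdealSheafData.coe_support_vanishingIdeal _
  have hIg : ∀ η ∈ genericPoints (X : Type u), η ∉ (I.support : Set X) := fun η hη h =>
    not_isClosed_generic hdim hη (hTcl η (hsupp.le h))
  have hdeg : ∀ J : X.IdealSheafData, AlgebraicGeometry.IsReduced J.subscheme → ConnectedSpace J.subscheme →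
      topologicalKrullDim J.subscheme = 1 →
      2 * (@Curv2.genus k _ J.subscheme ⟨J.subschemeι ≫ (X ↘ (Spec (CommRingCat.of k)))⟩ : ℤ) + 1 ≤
        @Curv2.deg k _ J.subscheme ⟨J.subschemeι ≫ (X ↘ (Spec (CommRingCat.of k)))⟩
          ((Scheme.Modules.pullback J.subschemeι).obj L) 1 := by
    intro J hJr hJc hJ1
    haveI := hJr
    haveI := hJc
    have hle : Module.finrank k (Coh.HH X (ClSub.quotMod J) 1) ≤ g := by
      haveI := Euler.epi_toSubscheme J
      have hs := SubCurve16.surjective_H1_of_epi k hdim.le (ClSub.toSubscheme J)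
        (Euler.isCoh_of_isInvertible Euler.isInvertible_structure) (Snapper.isCoh_quotMod k J)
      haveI := Euler.finiteDimensional_HH k (Euler.isCoh_of_isInvertible (Euler.isInvertible_structure (X := X))) 1
      rw [← hg]
      exact (LinearMap.range_eq_top.2 hs ▸ finrank_top k (Coh.HH X (ClSub.quotMod J) 1)).symm.le.trans
        (LinearMap.finrank_range_le _)
    rw [finrank_quotMod_eq k J 1] at hle
    obtain ⟨hJ, -⟩ := eq_JJ (k := k) hdim.le J hJ1
    have hS : genericPoints (X : Type u) ∩ J.support ⊆ genericPoints (X : Type u) := Set.inter_subset_left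
    generalize genericPoints (X : Type u) ∩ J.support = S at hJ hS
    subst hJ
    obtain ⟨η, hη⟩ : S.Nonempty := by
      obtain ⟨y⟩ : Nonempty (JJ S).subscheme := ConnectedSpace.toNonempty
      exact closure_nonempty_iff.1 ⟨_, (JJ S).range_subschemeι.le ⟨y, rfl⟩⟩
    rw [deg_eq_degS k hL]
    refine le_trans ?_ (ncard_le_degS (k := k) hdim I eL hIg (hsupp ▸ hTfin)
      (fun x hx => hTcl x (hsupp.le hx)) hS)
    have h1 : F η ⊆ T0 := Finset.subset_biUnion_of_mem F (hGfin.mem_toFinset.2 (hS hη))
    have h2 : 2 * g + 1 ≤ ((I.support : Set X) ∩ closure S).ncard := by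
      rw [← hFcard η (hS hη), ← Set.ncard_coe_finset, hsupp]
      refine Set.ncard_le_ncard (fun x hx => ⟨h1 hx, ?_⟩) (hTfin.inter_of_left _)
      exact closure_mono (Set.singleton_subset_iff.2 hη) (hF η (hS hη) x hx).1
    have h2' : 2 * (g : ℤ) + 1 ≤ (((I.support : Set X) ∩ closure S).ncard : ℤ) := by exact_mod_cast h2
    refine le_trans ?_ h2'
    have h3 : ((@Curv2.genus k _ (JJ S).subscheme ⟨(JJ S).subschemeι ≫ (X ↘ (Spec (CommRingCat.of k)))⟩ : ℕ) : ℤ) ≤ g := by
      exact_mod_cast hle
    omega
  refine ⟨L, hL, ?_, ?_, exists_closedImmersion_of_deg_subcurves hdim hL hdeg⟩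
  · rw [deg_inverse_points hdim.le T hTfin hTcl hL eL, Nat.card_coe_set_eq]
    exact_mod_cast hTcard
  · exact subsingleton_H1_of_deg k hdim hL fun J h1 h2 h3 => by have := hdeg J h1 h2 h3; omega

end GrothLib.FMAdj25
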