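import Groth.Agent.Lib.FMAdj25.RankOneNode
import Groth.Agent.Lib.FMAdj25.UniformVA
import Groth.Agent.Lib.TFCurv11.NodeLattice
import Groth.Agent.Lib.Multicross2.Node
import Groth.Agent.Lib.CBExt28.Vanish
import Groth.Agent.Lib.DualFree20.QGorDescent
import Groth.Agent.Lib.NodeSpread11.Basic
import Groth.Agent.Lib.NormFlat11.Nodal
import Groth.Agent.Lib.CurveLocus.Basic
import Groth.Agent.Lib.InvExt.Gen

/-!
# Torsion-free rank one modules on a nodal curve
-/

universe u

set_option autoImplicit false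
set_option linter.all false
set_option backward.isDefEq.respectTransparency false
set_option maxHeartbeats 1000000

open CategoryTheory CategoryTheory.Limits AlgebraicGeometry TopologicalSpace

noncomputable section

namespace GrothLib.FMAdj25

open GrothLib.QCoh (stalkLin)
open GrothLib.WeakAss (primeAt)

variable {X : Scheme.{u}}

/-- The stalk of a module at a point where it is locally trivial. -/
theorem nonempty_stalk_of_invertibleAt {L : X.Modules} {x : X} (h : RelCanon.InvertibleAt L x) :
    Nonempty (L.presheaf.stalk x ≃ₗ[X.presheaf.stalk x] X.presheaf.stalk x) := by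
  obtain ⟨U, hx, ⟨φ⟩⟩ := h
  have hinv : PicF.IsInvertible (L.restrict U.ι) :=
    ParaPair.isInvertible_of_iso φ (ParaPair.isInvertible_structure _)
  obtain ⟨V, e, hxV, hVU, he⟩ := InvExt.exists_gen_nhd_pushforward (L.restrict U.ι) hinv hx
  let b := (Scheme.Modules.restrictAdjunction U.ι).unit.app L
  have hb : Function.Bijective (stalkLin b x) :=
    Euler.stalkLin_bijective_of_app_bijective b hx fun T hT => Euler.unit_app_bijective L U hT
  exact ⟨(LinearEquiv.ofBijective (stalkLin b x) hb).trans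
    (LinearEquiv.ofBijective (LinearMap.toSpanSingleton _ _ _) (Ref1.gen_of_isGen he hxV)).symm⟩

/-- The rank one condition at the minimal primes of a local ring. -/
theorem rank_one_data [IsLocallyNoetherian X] [AlgebraicGeometry.IsReduced X] {L : X.Modules} (hLc : Coh.IsCoh L)
    (hrk : ∀ η : X, closure ({η} : Set X) ∈ irreducibleComponents (X : Type u) →
      Module.finrank (X.presheaf.stalk η) (L.presheaf.stalk η) = 1)
    (x : X) (p : Ideal (X.presheaf.stalk x)) (hp : p ∈ minimalPrimes (X.presheaf.stalk x)) :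
    ∃ m : L.presheaf.stalk x, (∀ a, a ∉ p → a • m ≠ 0) ∧
      ∀ m' : L.presheaf.stalk x, (∀ a, a ∉ p → a • m' ≠ 0) → ∀ m'' : L.presheaf.stalk x,
        ∃ a : X.presheaf.stalk x, a ∉ p ∧ ∃ b : X.presheaf.stalk x, a • m'' = b • m' := by
  haveI := hLc.1
  obtain ⟨V, hV, hxV, -⟩ := exists_isAffineOpen_mem_and_subset (show x ∈ (⊤ : X.Opens) from trivial)
  letI := TopCat.Presheaf.algebra_section_stalk X.presheaf (⟨x, hxV⟩ : V)
  haveI := hV.isLocalization_stalk ⟨x, hxV⟩
  haveI : p.IsPrime := hp.1.1
  let g := (X.presheaf.germ V x hxV).hom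
  let P : PrimeSpectrum Γ(X, V) := ⟨p.comap g, Ideal.IsPrime.comap g⟩
  let η := hV.fromSpec P
  have hηV : η ∈ V := WeakAss.fromSpec_mem hV P
  have hPη : primeAt η hηV = P.asIdeal := WeakAss.primeAt_fromSpec hV P hηV
  have hPmin : ∀ Q : Ideal Γ(X, V), Q.IsPrime → Q ≤ P.asIdeal → Q = P.asIdeal := by
    intro Q hQ hle
    have h := (IsLocalization.isPrime_iff_isPrime_disjoint (hV.primeIdealOf ⟨x, hxV⟩).asIdeal.primeCompl
      (X.presheaf.stalk x) p).1 inferInstance
    have hdQ : Disjoint ((hV.primeIdealOf ⟨x, hxV⟩).asIdeal.primeCompl : Set Γ(X, V)) Q :=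
      Set.disjoint_of_subset_right hle h.2
    have hQ' := IsLocalization.isPrime_of_isPrime_disjoint _ (X.presheaf.stalk x) Q hQ hdQ
    have hle' : Q.map (algebraMap Γ(X, V) (X.presheaf.stalk x)) ≤ p := Ideal.map_le_iff_le_comap.2 hle
    have := le_antisymm hle' (hp.2 ⟨hQ', bot_le⟩ hle')
    show Q = p.comap g
    rw [← this]
    exact (IsLocalization.comap_map_of_isPrime_disjoint _ (X.presheaf.stalk x) hQ hdQ).symm
  have hηmax : ∀ z, z ⤳ η → z = η := fun z hz => by
    have hzV : z ∈ V := hz.mem_open V.2 hηV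
    obtain ⟨Q, hQ⟩ : z ∈ Set.range hV.fromSpec := hV.range_fromSpec.ge hzV
    subst hQ
    have : Q ⤳ P := hV.fromSpec.isOpenEmbedding.isInducing.specializes_iff.1 hz
    exact congrArg _ (PrimeSpectrum.ext (hPmin Q.asIdeal Q.2 ((PrimeSpectrum.le_iff_specializes Q P).2 this)))
  have hηc : closure ({η} : Set X) ∈ irreducibleComponents (X : Type u) := by
    refine ⟨isIrreducible_singleton.closure, fun Z hZ hle => ?_⟩
    obtain ⟨z, hz⟩ := QuasiSober.sober hZ.closure isClosed_closure
    have hzη : z ⤳ η := hz.specializes (subset_closure (hle (subset_closure rfl)))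
    exact (subset_closure.trans (hz.def.symm.le.trans (by rw [hηmax z hzη])))
  have hF : IsField (X.presheaf.stalk η) := TFCurve11.isField_stalk_of_maximal η hηmax
  letI := hF.toField
  -- germs at `x` and at `η`
  have hgη : ∀ z : Γ(L, V), L.presheaf.germ V η hηV z = 0 ↔ ∃ s, s ∉ P.asIdeal ∧ s • z = 0 := fun z => by
    rw [WeakAss.germ_eq_zero_iff hV hηV z, hPη]
  have hnotp : ∀ s, s ∉ P.asIdeal → g s ∉ p := fun s hs => hs
  have hunit : ∀ c, c ∉ primeAt x hxV → g c ∉ p := fun c hc hcp => by
    have hu : IsUnit (g c) := (Scheme.mem_basicOpen _ c x hxV).mp (WeakAss.notMem_primeAt_iff.mp hc)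
    exact (hp.1.1.ne_top) (Ideal.eq_top_of_isUnit_mem _ hcp hu)
  -- nonzero at `η` means not killed outside `p`
  have hnz : ∀ (m : L.presheaf.stalk x) (c : Γ(X, V)) (z : Γ(L, V)), c ∉ primeAt x hxV →
      g c • m = L.presheaf.germ V x hxV z →
      ((∀ a, a ∉ p → a • m ≠ 0) ↔ L.presheaf.germ V η hηV z ≠ 0) := by
    intro m c z hc hz
    constructor
    · intro hall h0
      obtain ⟨s, hs, hsz⟩ := (hgη z).1 h0
      refine hall (g s * g c) (fun h => (hp.1.1.mem_or_mem h).elim (hnotp s hs) (hunit c hc)) ?_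
      rw [mul_smul, hz, ← WeakAss.germ_smul, hsz, map_zero]
    · intro hne a ha h0
      obtain ⟨⟨s, t⟩, hst⟩ := IsLocalization.surj (hV.primeIdealOf ⟨x, hxV⟩).asIdeal.primeCompl a
      have hsP : s ∉ P.asIdeal := fun hs => by
        have hs' : g s ∈ p := hs
        rw [show g s = a * g t.1 from hst.symm] at hs'
        rcases hp.1.1.mem_or_mem hs' with h' | h'
        · exact ha h'
        · exact hp.1.1.ne_top (Ideal.eq_top_of_isUnit_mem _ h' (IsLocalization.map_units _ t))
      have hsz : L.presheaf.germ V x hxV (s • z) = 0 := by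
        rw [WeakAss.germ_smul, ← hz, show X.presheaf.germ V x hxV s = a * g t.1 from hst.symm,
          show (a * g t.1) • g c • m = (g t.1 * g c) • a • m by rw [smul_smul, smul_smul]; ring_nf,
          h0, smul_zero]
      obtain ⟨w, hw, hwz⟩ := (WeakAss.germ_eq_zero_iff hV hxV _).1 hsz
      refine hne ((hgη z).2 ⟨w * s, fun h => (P.2.mem_or_mem h).elim (fun h' => hunit w hw h') hsP, ?_⟩)
      rw [mul_smul, hwz]
  have hfr := hrk η hηc
  haveI : Nontrivial (L.presheaf.stalk η) := Module.nontrivial_of_finrank_eq_succ hfr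
  obtain ⟨e, he⟩ := exists_ne (0 : L.presheaf.stalk η)
  obtain ⟨c₀, z, hc₀, hz⟩ := WeakAss.exists_smul_eq_germ hV hηV e
  have hu : IsUnit (X.presheaf.germ V η hηV c₀) :=
    (Scheme.mem_basicOpen _ c₀ η hηV).mp (WeakAss.notMem_primeAt_iff.mp hc₀)
  refine ⟨L.presheaf.germ V x hxV z, (hnz _ 1 z ?_ ?_).2 ?_, ?_⟩
  · exact fun h => (primeAt x hxV).ne_top_iff_one.1 Ideal.IsPrime.ne_top' h
  · rw [map_one, one_smul]
  · rw [← hz]
    exact fun h0 => he (hu.smul_eq_zero.1 h0)
  intro m' hm' m''
  obtain ⟨c', z', hc', hz'⟩ := WeakAss.exists_smul_eq_germ hV hxV m'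
  obtain ⟨c'', z'', hc'', hz''⟩ := WeakAss.exists_smul_eq_germ hV hxV m''
  have hne := (hnz m' c' z' hc' hz').1 hm'
  obtain ⟨lam, hlam⟩ := (finrank_eq_one_iff_of_nonzero' (L.presheaf.germ V η hηV z') hne).1 hfr
    (L.presheaf.germ V η hηV z'')
  letI := TopCat.Presheaf.algebra_section_stalk X.presheaf (⟨η, hηV⟩ : V)
  haveI := hV.isLocalization_stalk ⟨η, hηV⟩
  obtain ⟨⟨r, s⟩, hrs⟩ := IsLocalization.surj (hV.primeIdealOf ⟨η, hηV⟩).asIdeal.primeCompl lam
  have hsP : s.1 ∉ P.asIdeal := fun h => by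
    rw [← hPη] at h
    exact (IsLocalRing.mem_maximalIdeal _).1 h (IsLocalization.map_units (X.presheaf.stalk η) s)
  have h0 : L.presheaf.germ V η hηV (s.1 • z'' - r • z') = 0 := by
    rw [map_sub, WeakAss.germ_smul, WeakAss.germ_smul, ← hlam, smul_smul, mul_comm,
      show lam * X.presheaf.germ V η hηV s.1 = X.presheaf.germ V η hηV r from hrs, sub_self]
  obtain ⟨t, ht, htz⟩ := (hgη _).1 h0
  rw [smul_sub, sub_eq_zero, smul_smul, smul_smul] at htz
  refine ⟨g (t * s.1) * g c'', fun h => (hp.1.1.mem_or_mem h).elim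
    (fun h' => (P.2.mem_or_mem h').elim ht hsP) (hunit c'' hc''), g (t * r) * g c', ?_⟩
  rw [mul_smul, hz'', mul_smul, hz', ← WeakAss.germ_smul, ← WeakAss.germ_smul, htz]

variable (k : Type u) [Field k] [IsAlgClosed k] [X.Over (Spec (CommRingCat.of k))]
  [IsProper (X ↘ Spec (CommRingCat.of k))] [ConnectedSpace X] [AlgebraicGeometry.IsReduced X]

include k in
theorem infinite_residue (x : X) : Infinite (IsLocalRing.ResidueField (X.presheaf.stalk x)) := by
  let φ : k →+* IsLocalRing.ResidueField (X.presheaf.stalk x) :=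
    (IsLocalRing.residue _).comp ((X.presheaf.germ ⊤ x trivial).hom.comp
      ((X ↘ Spec (CommRingCat.of k)).appTop.hom.comp (Scheme.ΓSpecIso (CommRingCat.of k)).inv.hom))
  exact Infinite.of_injective φ φ.injective

/-- The stalks of a torsion-free rank one module on a nodal curve. -/
theorem stalk_type (hequi : ∀ Z ∈ irreducibleComponents (X : Type u), topologicalKrullDim Z = 1)
    (hd : topologicalKrullDim X ≤ 1) (hX : Curv2.AtWorstNodal k X) {L : X.Modules} (hLc : Coh.IsCoh L)
    (hLt : TorSh.IsTorsionFree L)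
    (hrk : ∀ η : X, closure ({η} : Set X) ∈ irreducibleComponents (X : Type u) →
      Module.finrank (X.presheaf.stalk η) (L.presheaf.stalk η) = 1) (x : X) :
    Nonempty (L.presheaf.stalk x ≃ₗ[X.presheaf.stalk x] X.presheaf.stalk x) ∨
      (Nonempty (L.presheaf.stalk x ≃ₗ[X.presheaf.stalk x] IsLocalRing.maximalIdeal (X.presheaf.stalk x)) ∧
        Curv2.IsNode k X x) := by
  haveI := Euler.isNoetherian_of_proper (X := X) k
  haveI := infinite_residue (X := X) k x
  haveI : Ring.KrullDimLE 1 (X.presheaf.stalk x) :=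
    Ring.krullDimLE_iff.2 (by exact_mod_cast ringKrullDim_stalk_le (k := k) hd x)
  haveI := Euler.stalk_finite hLc x
  have htf : ∀ a : X.presheaf.stalk x, a ∈ nonZeroDivisors (X.presheaf.stalk x) →
      Function.Injective fun m : L.presheaf.stalk x => a • m :=
    fun a ha => ((hLt x).isSMulRegular (isRegular_iff_mem_nonZeroDivisors.2 ha))
  have hδ : Curv2.deltaInv (X.presheaf.stalk x) ≤ 1 ∧ (¬ Curv2.IsNode k X x → Curv2.deltaInv (X.presheaf.stalk x) = 0) := by
    by_cases hn : Curv2.IsNode k X x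
    · exact ⟨(Multicross2.deltaInv_node hequi hn).le, fun h => absurd hn h⟩
    have h0 : Curv2.deltaInv (X.presheaf.stalk x) = 0 := by
      by_cases hx : IsClosed ({x} : Set X)
      · obtain ⟨U, hxU, hU⟩ := (hX x hx).resolve_right hn
        exact Multicross2.deltaInv_eq_zero_of_smooth hx hxU hU
      · obtain ⟨c, hc, hne⟩ : ∃ c, x ⤳ c ∧ c ≠ x := by
          by_contra hcon
          push Not at hcon
          apply hx
          rw [← closure_eq_iff_isClosed]
          exact Set.Subset.antisymm (fun c hc => hcon c (specializes_iff_mem_closure.2 hc)) subset_closure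
        have hF := NodeLattice11.isField_of_generalizes hd hc (Ne.symm hne)
        letI := hF.toField
        exact Multicross2.deltaInv_eq_zero_of_isIntegrallyClosed _
    exact ⟨h0 ▸ bot_le, fun _ => h0⟩
  rcases iso_of_rankOne hδ.1 (L.presheaf.stalk x) htf (fun p hp => rank_one_data hLc hrk x p hp) with h | ⟨h, hne⟩
  · exact Or.inl h
  · exact Or.inr ⟨h, by_contra fun hn => hne (hδ.2 hn)⟩

/-- **A torsion-free rank one module is an invertible module twisted by the ideal of its singular points.** -/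
theorem exists_invertible_iso_tensor_idealMod
    (hequi : ∀ Z ∈ irreducibleComponents (X : Type u), topologicalKrullDim Z = 1) (hX : Curv2.AtWorstNodal k X)
    (L : X.Modules) (hLc : Coh.IsCoh L) (hLt : TorSh.IsTorsionFree L)
    (hrk : ∀ η : X, closure ({η} : Set X) ∈ irreducibleComponents (X : Type u) →
      Module.finrank (X.presheaf.stalk η) (L.presheaf.stalk η) = 1) :
    ∃ M : X.Modules, PicF.IsInvertible M ∧
      Nonempty (L ≅ CohB1.tensorMod (ClSub.idealMod (Scheme.IdealSheafData.vanishingIdeal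
        ⟨closure {P : X | ¬ RelCanon.InvertibleAt L P}, isClosed_closure⟩)) M) := by
  classical
  haveI := Euler.isNoetherian_of_proper (X := X) k
  have hd : topologicalKrullDim X ≤ 1 :=
    CurveLocus.topologicalKrullDim_le_of_components 1 fun Z hZ => (hequi Z hZ).le
  let S : Set X := {P : X | ¬ RelCanon.InvertibleAt L P}
  have hfree : ∀ x, x ∉ S → Nonempty (L.presheaf.stalk x ≃ₗ[X.presheaf.stalk x] X.presheaf.stalk x) :=
    fun x hx => nonempty_stalk_of_invertibleAt (not_not.1 hx)
  have hsing : ∀ x ∈ S, Nonempty (L.presheaf.stalk x ≃ₗ[X.presheaf.stalk x]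
      IsLocalRing.maximalIdeal (X.presheaf.stalk x)) ∧ Curv2.IsNode k X x := fun x hx =>
    (stalk_type k hequi hd hX hLc hLt hrk x).resolve_left fun ⟨e⟩ => hx (DualFree20.invertibleAt_of_stalk hLc x e)
  have hSfin : S.Finite :=
    (NodeSpread11.finite_setOf_isNode k hd hX).subset fun x hx => (hsing x hx).2
  have hScl : IsClosed S := by
    rw [← Set.biUnion_of_singleton S]
    exact hSfin.isClosed_biUnion fun x hx => (hsing x hx).2.1
  let a : X → ℕ := fun x => if x ∈ S then 0 else 1
  let U : X.Opens := ⟨{x | ¬ Curv2.IsNode k X x}, by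
    rw [show {x : X | ¬ Curv2.IsNode k X x} = (⋃ y ∈ {x : X | Curv2.IsNode k X x}, ({y} : Set X))ᶜ by
      rw [Set.biUnion_of_singleton]; rfl]
    exact ((NodeSpread11.finite_setOf_isNode k hd hX).isClosed_biUnion fun y hy => hy.1).isOpen_compl⟩
  let R := fun x : X => X.presheaf.stalk x
  obtain ⟨G, j, hG, hj, hoff, hon⟩ := NodeLattice11.exists_mono_locFree (r := 1) k a hd hLc U (fun x => Iff.rfl)
    (fun x hx => ⟨(hfree x fun hxS => hx (hsing x hxS).2).some.trans (LinearEquiv.funUnique (Fin 1) (R x) (R x)).symm⟩)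
    (fun x hx => by
      by_cases hxS : x ∈ S
      · rw [show a x = 0 from if_pos hxS, Nat.sub_zero]
        exact ⟨Nat.zero_le _, ⟨(hsing x hxS).1.some.trans
          ((LinearEquiv.uniqueProd (R := R x) (M := IsLocalRing.maximalIdeal (X.presheaf.stalk x)) (M₂ := Fin 0 → R x)).symm.trans
            (LinearEquiv.prodCongr (LinearEquiv.refl _ _) (LinearEquiv.funUnique (Fin 1) (R x) _).symm))⟩⟩
      · rw [show a x = 1 from if_neg hxS, Nat.sub_self]
        exact ⟨le_rfl, ⟨(hfree x hxS).some.trans
          ((LinearEquiv.prodUnique (R := R x) (M := R x) (M₂ := Fin 0 → IsLocalRing.maximalIdeal (X.presheaf.stalk x))).symm.trans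
            (LinearEquiv.prodCongr (LinearEquiv.funUnique (Fin 1) (R x) _).symm (LinearEquiv.refl _ _)))⟩⟩)
  haveI := hj
  have hGinv : PicF.IsInvertible G := fun x => by
    obtain ⟨U, hx, ⟨φ⟩⟩ := hG x
    exact ⟨U, hx, ⟨φ ≪≫ coproductUniqueIso fun _ : Fin 1 => Coh.structureModule (↑U)⟩⟩
  let I := Scheme.IdealSheafData.vanishingIdeal (⟨closure S, isClosed_closure⟩ : Closeds X)
  have hI : ∀ x : X, Goodman.st I x = if x ∈ S then IsLocalRing.maximalIdeal (X.presheaf.stalk x) else ⊤ := fun x => by
    split_ifs with hx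
    · have hcl : IsClosed (hSfin.toFinset : Set X) := by rw [hSfin.coe_toFinset]; exact hScl
      rw [← CBExt28.st_vanishingIdeal_finite hcl (fun z hz => (hsing z (hSfin.mem_toFinset.1 hz)).2.1)
        (hSfin.mem_toFinset.2 hx)]
      have hJ : (⟨closure S, isClosed_closure⟩ : Closeds X) = ⟨(hSfin.toFinset : Set X), hcl⟩ := Closeds.ext (by
        show closure S = (hSfin.toFinset : Set X)
        rw [hSfin.coe_toFinset, hScl.closure_eq])
      show Goodman.st (Scheme.IdealSheafData.vanishingIdeal _) x = _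
      rw [hJ]
    · refine Goodman.st_of_notMem I ?_
      rw [Scheme.IdealSheafData.coe_support_vanishingIdeal]
      show x ∉ closure S
      rwa [hScl.closure_eq]
  -- the twisted ideal inside `G`
  let θ : CohB1.tensorMod G (ClSub.idealMod I) ⟶ G :=
    (CBExt28.Tw G).map (ClSub.idealModι I) ≫ (SecTwist.unitorR G).hom
  haveI : Mono ((CBExt28.Tw G).map (ClSub.idealModι I)) :=
    (CBExt28.tw_shortExact hGinv (ArSurf29.shortExact_ideal I)).mono_f
  haveI hθ : Mono θ := mono_comp _ _
  have hinj : ∀ {A B : X.Modules} (f : A ⟶ B) [Mono f] (x : X), Function.Injective (stalkLin f x) :=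
    fun f _ x => (ModuleCat.mono_iff_injective _).1 (((OX.mono_iff f).1 inferInstance) x)
  have hrange : ∀ x : X, LinearMap.range (stalkLin θ x) = LinearMap.range (stalkLin j x) := by
    intro x
    obtain ⟨t, ht⟩ := Ref1.exists_gen_of_isInvertible hGinv x
    let u := HomSh.unitStalk (X := X) x 1
    let g := stalkLin (SecTwist.unitorR G).hom x (Ref1.tmulStalk G (Coh.structureModule X) x t u)
    have hgen : Ref1.Gen G x g := by
      have h1 := Ref1.Gen.tmulStalk G (Coh.structureModule X) ht (Ref1.gen_unitStalk x)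
      have hb : Function.Bijective (stalkLin (SecTwist.unitorR G).hom x) :=
        (ConcreteCategory.isIso_iff_bijective ((OX.stalk x).map (SecTwist.unitorR G).hom)).1 inferInstance
      have := hb.comp h1
      refine (show Function.Bijective fun c : X.presheaf.stalk x => c • g from ?_)
      convert this using 1
      exact funext fun c => (map_smul (stalkLin (SecTwist.unitorR G).hom x) c _).symm
    have hθv : ∀ w, stalkLin θ x (Ref1.tmulStalk G (ClSub.idealMod I) x t w) = OmegaBC.sval I x w • g := fun w => by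
      have h1 : stalkLin θ x (Ref1.tmulStalk G (ClSub.idealMod I) x t w) =
          stalkLin (SecTwist.unitorR G).hom x
            (Ref1.tmulStalk G (Coh.structureModule X) x t (stalkLin (ClSub.idealModι I) x w)) :=
        (QCoh.stalkLin_comp ((CBExt28.Tw G).map (ClSub.idealModι I)) (SecTwist.unitorR G).hom x _).trans
          (congrArg (stalkLin (SecTwist.unitorR G).hom x) (Goodman.stalkLin_tensor_tmul G (ClSub.idealModι I) x t w))
      have h2 : stalkLin (ClSub.idealModι I) x w = OmegaBC.sval I x w • u :=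
        (Goodman.stalkLin_idealModι I x w).trans (by rw [← map_smul, smul_eq_mul, mul_one])
      refine h1.trans ?_
      rw [h2, map_smul]
      exact map_smul (stalkLin (SecTwist.unitorR G).hom x) _ _
    have hts : Function.Surjective (Ref1.tmulStalk G (ClSub.idealMod I) x t) := fun v => by
      obtain ⟨z, rfl⟩ := (Ref1.tensorStalk G (ClSub.idealMod I) x).symm.surjective v
      induction z using TensorProduct.induction_on with
      | zero => exact ⟨0, by rw [map_zero, map_zero]⟩
      | add v w hv hw =>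
        obtain ⟨v', hv'⟩ := hv
        obtain ⟨w', hw'⟩ := hw
        exact ⟨v' + w', by rw [map_add, map_add, hv', hw']⟩
      | tmul a b =>
        obtain ⟨c, rfl⟩ := ht.2 a
        refine ⟨c • b, ?_⟩
        show (Ref1.tensorStalk G (ClSub.idealMod I) x).symm (t ⊗ₜ (c • b)) = _
        rw [TensorProduct.tmul_smul, ← TensorProduct.smul_tmul']
    have hrθ : LinearMap.range (stalkLin θ x) = Submodule.map (LinearMap.toSpanSingleton (X.presheaf.stalk x) (G.presheaf.stalk x) g) (Goodman.st I x) := by
      ext v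
      constructor
      · rintro ⟨w, rfl⟩
        obtain ⟨w', rfl⟩ := hts w
        exact ⟨OmegaBC.sval I x w', ⟨w', rfl⟩, (hθv w').symm⟩
      · rintro ⟨c, ⟨w', rfl⟩, rfl⟩
        exact ⟨_, hθv w'⟩
    rw [hrθ, hI x]
    let π := stalkLin (cokernel.π j) x
    have hex : ∀ v, π v = 0 ↔ v ∈ LinearMap.range (stalkLin j x) := fun v =>
      ((ShortComplex.ShortExact.moduleCat_exact_iff_function_exact _).1
        ((OX.exact_iff _).1 (ShortComplex.exact_cokernel j) x)) v
    by_cases hxS : x ∈ S
    · rw [if_pos hxS]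
      obtain ⟨hkill, hlen⟩ := hon x (hsing x hxS).2
      simp only [a, if_pos hxS] at hlen
      let J : Ideal (X.presheaf.stalk x) := (LinearMap.range (stalkLin j x)).comap (LinearMap.toSpanSingleton _ _ g)
      have hJm : J = IsLocalRing.maximalIdeal _ := by
        refine le_antisymm (IsLocalRing.le_maximalIdeal fun htop => ?_) fun μ hμ => ?_
        · haveI : Subsingleton ((cokernel j).presheaf.stalk x) := subsingleton_of_forall_eq 0 fun q => by
            obtain ⟨v, rfl⟩ := (ModuleCat.epi_iff_surjective _).1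
              (((OX.epi_iff (cokernel.π j)).1 inferInstance) x) q
            obtain ⟨c, rfl⟩ := hgen.2 v
            exact (hex _).2 (show c ∈ J from htop ▸ Submodule.mem_top)
          rw [Module.length_eq_zero] at hlen
          exact absurd hlen (by norm_num)
        · refine (hex _).1 ?_
          show π (μ • g) = 0
          rw [map_smul]
          exact (Submodule.eq_bot_iff _).1 hkill _ (Submodule.smul_mem_smul hμ Submodule.mem_top)
      rw [← hJm]
      refine le_antisymm (Submodule.map_comap_le _ _) fun v hv => ?_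
      obtain ⟨c, rfl⟩ := hgen.2 v
      exact ⟨c, hv, rfl⟩
    · rw [if_neg hxS]
      have hsub : Subsingleton ((cokernel j).presheaf.stalk x) := by
        by_cases hn : Curv2.IsNode k X x
        · obtain ⟨-, hlen⟩ := hon x hn
          simp only [a, if_neg hxS, Nat.sub_self, Nat.cast_zero] at hlen
          exact Module.length_eq_zero_iff.1 hlen
        · exact hoff x hn
      refine le_antisymm (fun v _ => (hex v).1 (@Subsingleton.elim _ hsub _ _)) fun v _ => ?_
      obtain ⟨c, rfl⟩ := hgen.2 v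
      exact ⟨c, Submodule.mem_top, rfl⟩
  have hw : θ ≫ cokernel.π j = 0 := FormalFun.hom_ext_stalkLin fun x v => by
    rw [QCoh.stalkLin_comp]
    obtain ⟨w, hw⟩ : stalkLin θ x v ∈ LinearMap.range (stalkLin j x) := hrange x ▸ ⟨v, rfl⟩
    have h0 : ∀ {A B : X.Modules} (u : A.presheaf.stalk x), stalkLin (0 : A ⟶ B) x u = 0 := fun {A B} u =>
      LinearMap.congr_fun (congrArg ModuleCat.Hom.hom ((OX.stalk x).map_zero A B)) u
    rw [← hw, ← QCoh.stalkLin_comp, cokernel.condition, h0]
    exact (h0 v).symm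
  let ψ := (ShortComplex.exact_cokernel j).lift θ hw
  have hψ : ψ ≫ j = θ := (ShortComplex.exact_cokernel j).lift_f θ hw
  haveI : Mono ψ := mono_of_mono_fac hψ
  haveI : Epi ψ := (OX.epi_iff ψ).2 fun x => (ModuleCat.epi_iff_surjective _).2 fun v => by
    obtain ⟨w, hw⟩ : stalkLin j x v ∈ LinearMap.range (stalkLin θ x) := (hrange x).symm ▸ ⟨v, rfl⟩
    refine ⟨w, hinj j x ?_⟩
    rw [← hw, ← hψ, QCoh.stalkLin_comp]
    rfl
  haveI : IsIso ψ := isIso_of_mono_of_epi ψ
  exact ⟨G, hGinv, ⟨(asIso ψ).symm ≪≫ ((OX.tensorBraiding (X := X)).app G).symm.app (ClSub.idealMod I)⟩⟩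

end GrothLib.FMAdj25

end
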