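import Groth.Agent.Lib.TFCurv11.Position
import Groth.Prelude.Def_Curv2
import Mathlib

/-!
# Rank one torsion-free modules over a local ring with normalisation of colength at most one
-/

universe u

set_option autoImplicit false
set_option linter.all false
set_option backward.isDefEq.respectTransparency false
set_option maxHeartbeats 1000000
set_option synthInstance.maxHeartbeats 400000

open IsLocalRing

noncomputable section

namespace GrothLib.FMAdj25

variable {A : Type u} [CommRing A] [IsLocalRing A] [IsNoetherianRing A] [Ring.KrullDimLE 1 A]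

local notation "K" => FractionRing A

theorem finite_integralClosure_of_deltaInv (hδ : Curv2.deltaInv A ≤ 1) :
    Module.Finite A ↥(integralClosure A K) := by
  let N := LinearMap.range (Algebra.linearMap A ↥(integralClosure A K))
  haveI : Module.Finite A N := Module.Finite.range _
  have hfl : IsFiniteLength A (↥(integralClosure A K) ⧸ N) :=
    Module.length_ne_top_iff.1 (ne_top_of_le_ne_top (by simp) hδ)
  haveI := (isFiniteLength_iff_isNoetherian_isArtinian.1 hfl).1
  exact Module.Finite.of_submodule_quotient N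

/-- A lattice becomes principal over the normalisation, with a generator in the lattice. -/
theorem exists_scaling [Infinite (ResidueField A)] (hδ : Curv2.deltaInv A ≤ 1) (M : Submodule A K) (hM : M.FG)
    (hu : ∃ u ∈ M, IsUnit u) :
    ∃ x ∈ M, ∃ y : K, x * y = 1 ∧ ∀ z ∈ M, IsIntegral A (z * y) := by
  classical
  haveI := finite_integralClosure_of_deltaInv hδ
  let B := integralClosure A K
  haveI : IsNoetherianRing B := IsNoetherianRing.of_finite A B
  obtain ⟨u, huM, hu⟩ := hu
  let J : Submodule A K :=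
    { carrier := {y | ∀ x ∈ M, x * y ∈ B}
      add_mem' := fun ha hb x hx => by rw [mul_add]; exact add_mem (ha x hx) (hb x hx)
      zero_mem' := fun x hx => by rw [mul_zero]; exact zero_mem _
      smul_mem' := fun c y hy x hx => by rw [mul_smul_comm]; exact B.smul_mem (hy x hx) c }
  let S : Set B := {b | ∃ x ∈ M, ∃ y ∈ J, (b : K) = x * y}
  have hBJ : ∀ (b : B) (y : K), y ∈ J → (b : K) * y ∈ J := fun b y hy x hx => by
    rw [mul_left_comm]; exact mul_mem b.2 (hy x hx)
  -- a common denominator
  obtain ⟨s, hs⟩ := hM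
  obtain ⟨d, hd⟩ := IsLocalization.exist_integer_multiples_of_finset (nonZeroDivisors A) s
  have hdJ : algebraMap A K d ∈ J := fun x hx => by
    rw [← hs] at hx
    induction hx using Submodule.span_induction with
    | mem x hx =>
      obtain ⟨a, ha⟩ := hd x hx
      rw [mul_comm, ← Algebra.smul_def, show ((d : A) • x) = algebraMap A K a from ha.symm]
      exact B.algebraMap_mem a
    | zero => rw [zero_mul]; exact zero_mem _
    | add a b _ _ ha hb => rw [add_mul]; exact add_mem ha hb
    | smul c a _ ha => rw [smul_mul_assoc]; exact B.smul_mem ha c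
  have hdu : IsUnit (algebraMap A K d) := IsLocalization.map_units K d
  have hP : Ideal.span S = ⊤ := by
    by_contra hne
    obtain ⟨n, hn, hle⟩ := Ideal.exists_le_maximal _ hne
    let w : B := ⟨u * algebraMap A K d, hdJ u huM⟩
    have hwn : w ∈ n := hle (Ideal.subset_span ⟨u, huM, _, hdJ, rfl⟩)
    obtain ⟨w', hw'⟩ := (hu.mul hdu).exists_right_inv
    -- a non-zero-divisor of `A` in `n`
    obtain ⟨⟨g, f⟩, hgf⟩ := IsLocalization.surj (nonZeroDivisors A) w'
    have hfn : algebraMap A B f ∈ n := by
      have : algebraMap A B f = w * algebraMap A B g := Subtype.ext (by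
        show algebraMap A K f = (u * algebraMap A K d) * algebraMap A K g
        rw [← hgf, ← mul_assoc, hw', one_mul])
      rw [this]
      exact n.mul_mem_right _ hwn
    let I : Ideal B := Ideal.span {algebraMap A B f}
    have hIn : I ≤ n := (Ideal.span_singleton_le_iff_mem _).2 hfn
    have hnm : n ∈ I.minimalPrimes := by
      refine ⟨⟨hn.isPrime, hIn⟩, fun q hq hqn => ?_⟩
      haveI := hq.1
      have hfq : (f : A) ∈ q.comap (algebraMap A B) := hq.2 (Ideal.mem_span_singleton_self _)
      have hmax : (q.comap (algebraMap A B)).IsMaximal := by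
        refine ((Ring.krullDimLE_one_iff.1 inferInstance) (q.comap (algebraMap A B)) inferInstance).resolve_left fun hmin => ?_
        exact Set.disjoint_left.1 (Ideal.disjoint_nonZeroDivisors_of_mem_minimalPrimes hmin) hfq f.2
      haveI := Ideal.isMaximal_of_isIntegral_of_isMaximal_comap (R := A) q hmax
      exact (Ideal.IsMaximal.eq_of_le ‹q.IsMaximal› hn.ne_top hqn).ge
    have hann : (⊤ : Submodule B (B ⧸ I)).annihilator = I := by rw [Submodule.annihilator_top, Ideal.annihilator_quotient]
    obtain ⟨hp, c, hc⟩ := isAssociatedPrime_iff.1 (Module.associatedPrimes.minimalPrimes_annihilator_subset_associatedPrimes B (B ⧸ I)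
      (show n ∈ (Module.annihilator B (B ⧸ I)).minimalPrimes by rw [Ideal.annihilator_quotient]; exact hnm))
    obtain ⟨c', hc'⟩ := Ideal.Quotient.mk_surjective c
    subst hc'
    rename' c' => c
    have hcn : ∀ b ∈ n, b * c ∈ I := fun b hb => by
      rw [hc, Submodule.mem_colon_singleton, Submodule.mem_bot, ← Ideal.Quotient.eq_zero_iff_mem] at *
      exact hb
    obtain ⟨fi, hfi⟩ := (IsLocalization.map_units K f).exists_left_inv
    let y₀ : K := fi * (c : K)
    have hy₀ : ∀ b ∈ n, y₀ * (b : K) ∈ B := fun b hb => by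
      obtain ⟨e, he⟩ := Ideal.mem_span_singleton'.1 (hcn b hb)
      have he' : (e : K) * algebraMap A K f = (b : K) * c := congrArg Subtype.val he
      have : y₀ * (b : K) = (e : K) := by
        calc y₀ * (b : K) = fi * ((b : K) * c) := by ring
          _ = (e : K) * (fi * algebraMap A K f) := by rw [← he']; ring
          _ = e := by rw [hfi, mul_one]
      rw [this]
      exact e.2
    have hy₀J : ∀ y ∈ J, y₀ * y ∈ J := fun y hy x hx => by
      rw [mul_left_comm]
      exact hy₀ ⟨x * y, hy x hx⟩ (hle (Ideal.subset_span ⟨x, hx, y, hy, rfl⟩))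
    have hJfg : J.FG := by
      obtain ⟨v, hv⟩ := hu.exists_left_inv
      refine Submodule.FG.of_le ((Module.Finite.iff_fg.1 (inferInstance : Module.Finite A B.toSubmodule)).map
        (LinearMap.mulLeft A v)) fun y hy => ?_
      exact ⟨u * y, hy u huM, by simp [← mul_assoc, hv]⟩
    haveI : Module.Finite A J := Module.Finite.iff_fg.2 hJfg
    let φ : Module.End A J := (LinearMap.mulLeft A y₀).restrict hy₀J
    obtain ⟨p, hp', hpφ⟩ := LinearMap.exists_monic_and_aeval_eq_zero A φ
    have hpow : ∀ (q : Polynomial A) (j : J), ((Polynomial.aeval φ q j : J) : K) = Polynomial.aeval y₀ q * j := by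
      intro q j
      induction q using Polynomial.induction_on' with
      | add a b ha hb => simp [ha, hb, add_mul]
      | monomial m a =>
        simp only [Polynomial.aeval_monomial, Module.End.mul_apply, Module.algebraMap_end_apply, Submodule.coe_smul]
        rw [Algebra.smul_def, mul_assoc]
        congr 1
        induction m with
        | zero => simp
        | succ m ih =>
          rw [pow_succ', Module.End.mul_apply, pow_succ', mul_assoc, ← ih]
          rfl
    have hint : IsIntegral A y₀ := ⟨p, hp', by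
      have h0 := hpow p ⟨_, hdJ⟩
      rw [hpφ] at h0
      have : Polynomial.aeval y₀ p = 0 := (hdu.mul_left_eq_zero).1 h0.symm
      exact this⟩
    apply hp.ne_top
    rw [Ideal.eq_top_iff_one, hc, Submodule.mem_colon_singleton, one_smul, Submodule.mem_bot,
      Ideal.Quotient.eq_zero_iff_mem]
    refine Ideal.mem_span_singleton'.2 ⟨⟨y₀, hint⟩, Subtype.ext ?_⟩
    show y₀ * algebraMap A K f = (c : K)
    calc y₀ * algebraMap A K f = (fi * algebraMap A K f) * c := by ring
      _ = c := by rw [hfi, one_mul]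
  -- avoid the finitely many maximal ideals
  haveI : Finite (MaximalSpectrum B) := GrothLib.AzMod.finite_maximalSpectrum (R := A) B
  haveI := Fintype.ofFinite (MaximalSpectrum B)
  let N : MaximalSpectrum B → Submodule A M := fun n =>
    { carrier := {x | ∀ (y : K) (hy : y ∈ J), (⟨(x : K) * y, hy x x.2⟩ : B) ∈ n.asIdeal}
      add_mem' := fun {a b} ha hb y hy => by
        have := n.asIdeal.add_mem (ha y hy) (hb y hy)
        convert this using 1
        exact Subtype.ext (add_mul _ _ _)
      zero_mem' := fun y hy => by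
        convert n.asIdeal.zero_mem using 1
        exact Subtype.ext (zero_mul _)
      smul_mem' := fun c a ha y hy => by
        have := n.asIdeal.mul_mem_left (algebraMap A B c) (ha y hy)
        convert this using 1
        refine Subtype.ext ?_
        show ((c • a : M) : K) * y = algebraMap A K c * ((a : K) * y)
        rw [Submodule.coe_smul, Algebra.smul_def, mul_assoc] }
  obtain ⟨x, hx⟩ := GrothLib.TFCurv11.exists_notMem_forall Finset.univ N fun n _ htop => by
    refine n.isMaximal.ne_top (eq_top_iff.2 (hP.symm.le.trans (Ideal.span_le.2 ?_)))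
    rintro b ⟨x, hx, y, hy, hb⟩
    have hm : (⟨x, hx⟩ : M) ∈ N n := htop ▸ Submodule.mem_top
    have h' := hm y hy
    rwa [show b = ⟨x * y, hy x hx⟩ from Subtype.ext hb]
  let Q : Ideal B :=
    { carrier := {b | ∃ y ∈ J, (b : K) = x * y}
      add_mem' := by
        rintro a b ⟨y, hy, ha⟩ ⟨y', hy', hb⟩
        exact ⟨y + y', add_mem hy hy', by push_cast; rw [ha, hb, mul_add]⟩
      zero_mem' := ⟨0, zero_mem _, by simp⟩
      smul_mem' := by
        rintro c b ⟨y, hy, hb⟩
        exact ⟨c * y, hBJ c y hy, by rw [smul_eq_mul]; push_cast; rw [hb]; ring⟩ }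
  have hQ : Q = ⊤ := by
    by_contra hne
    obtain ⟨n, hn, hle⟩ := Ideal.exists_le_maximal _ hne
    exact hx ⟨n, hn⟩ (Finset.mem_univ _) fun y hy => hle ⟨y, hy, rfl⟩
  obtain ⟨y, hy, h1⟩ : (1 : B) ∈ Q := hQ ▸ Submodule.mem_top
  exact ⟨x, x.2, y, by simpa using h1.symm, fun z hz => hy z hz⟩

/-- A lattice is isomorphic to the ring or to its normalisation. -/
theorem iso_lattice [Infinite (ResidueField A)] (hδ : Curv2.deltaInv A ≤ 1) (M : Submodule A K) (hM : M.FG)
    (hu : ∃ u ∈ M, IsUnit u) :
    Nonempty (M ≃ₗ[A] A) ∨ (Nonempty (M ≃ₗ[A] ↥(integralClosure A K)) ∧ Curv2.deltaInv A ≠ 0) := by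
  classical
  obtain ⟨x, hxM, y, hxy, hint⟩ := exists_scaling hδ M hM hu
  let B := integralClosure A K
  let g : M →ₗ[A] B := LinearMap.codRestrict B.toSubmodule ((LinearMap.mulRight A y).comp M.subtype) fun z => hint z z.2
  have hg : Function.Injective g := fun a b h => by
    have h' : (a : K) * y = (b : K) * y := congrArg Subtype.val h
    refine Subtype.ext ?_
    calc (a : K) = (a : K) * y * x := by rw [mul_assoc, mul_comm y x, hxy, mul_one]
      _ = (b : K) * y * x := by rw [h']
      _ = b := by rw [mul_assoc, mul_comm y x, hxy, mul_one]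
  let N := LinearMap.range (Algebra.linearMap A B)
  have hinj : Function.Injective (Algebra.linearMap A B) := fun a b h =>
    IsFractionRing.injective A K (congrArg Subtype.val h)
  have hN : N ≤ LinearMap.range g := by
    rintro _ ⟨a, rfl⟩
    refine ⟨a • ⟨x, hxM⟩, Subtype.ext ?_⟩
    show (a • x) * y = algebraMap A K a
    rw [Algebra.smul_def, mul_assoc, hxy, mul_one]
  by_cases he : LinearMap.range g = N
  · exact Or.inl ⟨(LinearEquiv.ofInjective g hg).trans ((LinearEquiv.ofEq _ _ he).trans
      (LinearEquiv.ofInjective _ hinj).symm)⟩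
  · have hlt : N < LinearMap.range g := lt_of_le_of_ne hN (Ne.symm he)
    have hne : Curv2.deltaInv A ≠ 0 := fun h0 => by
      haveI : Subsingleton (↥B ⧸ N) := Module.length_eq_zero_iff.1 h0
      exact hlt.ne_top (Submodule.Quotient.subsingleton_iff.1 ‹_›)
    haveI : IsSimpleModule A (↥B ⧸ N) :=
      Module.length_eq_one_iff.1 (le_antisymm hδ (Order.one_le_iff_ne_zero.2 hne) : Module.length A (↥B ⧸ N) = 1)
    have htop : LinearMap.range g = ⊤ := ((isSimpleModule_iff_isCoatom.1 ‹_›).2 _ hlt)
    exact Or.inr ⟨⟨(LinearEquiv.ofInjective g hg).trans (LinearEquiv.ofTop _ htop)⟩, hne⟩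

/-- **Torsion-free modules of rank one are free or isomorphic to the maximal ideal.** -/
theorem iso_of_rankOne [_root_.IsReduced A] [Infinite (ResidueField A)] (hδ : Curv2.deltaInv A ≤ 1)
    (M : Type u) [AddCommGroup M] [Module A M] [Module.Finite A M]
    (htf : ∀ a : A, a ∈ nonZeroDivisors A → Function.Injective fun m : M => a • m)
    (hrk : ∀ p ∈ minimalPrimes A, ∃ m : M, (∀ a, a ∉ p → a • m ≠ 0) ∧
      ∀ m' : M, (∀ a, a ∉ p → a • m' ≠ 0) → ∀ m'' : M, ∃ a, a ∉ p ∧ ∃ b : A, a • m'' = b • m') :
    Nonempty (M ≃ₗ[A] A) ∨ (Nonempty (M ≃ₗ[A] maximalIdeal A) ∧ Curv2.deltaInv A ≠ 0) := by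
  classical
  have hmin := minimalPrimes.finite_of_isNoetherianRing A
  let tors : Ideal A → Submodule A M := fun p =>
    if h : p.IsPrime then
      { carrier := {m | ∃ a, a ∉ p ∧ a • m = 0}
        add_mem' := by
          rintro m n ⟨a, ha, ha'⟩ ⟨b, hb, hb'⟩
          exact ⟨a * b, fun h' => (h.mem_or_mem h').elim ha hb, by
            rw [smul_add, mul_smul, mul_smul, smul_comm a b m, ha', hb', smul_zero, smul_zero, add_zero]⟩
        zero_mem' := ⟨1, fun h1 => h.ne_top ((Ideal.eq_top_iff_one _).2 h1), smul_zero _⟩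
        smul_mem' := by
          rintro c m ⟨a, ha, ha'⟩
          exact ⟨a, ha, by rw [smul_comm, ha', smul_zero]⟩ }
    else ⊥
  have mem_tors : ∀ p ∈ minimalPrimes A, ∀ m, m ∈ tors p ↔ ∃ a, a ∉ p ∧ a • m = 0 := fun p hp m => by
    simp only [tors, dif_pos hp.1.1]
    rfl
  obtain ⟨m₀, hm₀⟩ := GrothLib.TFCurv11.exists_notMem_forall hmin.toFinset tors fun p hp h => by
    obtain ⟨m, hm, -⟩ := hrk p (hmin.mem_toFinset.1 hp)
    obtain ⟨a, ha, ha'⟩ := (mem_tors p (hmin.mem_toFinset.1 hp) m).1 (h ▸ Submodule.mem_top)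
    exact hm a ha ha'
  have hm₀' : ∀ p ∈ minimalPrimes A, ∀ a, a ∉ p → a • m₀ ≠ 0 := fun p hp a ha h0 =>
    hm₀ p (hmin.mem_toFinset.2 hp) ((mem_tors p hp m₀).2 ⟨a, ha, h0⟩)
  have hgen : ∀ m : M, ∃ a ∈ nonZeroDivisors A, ∃ b : A, a • m = b • m₀ := by
    intro m
    let I : Ideal A := Submodule.colon (Submodule.span A {m₀}) ({m} : Set M)
    have hnot : ¬ ((I : Set A) ⊆ ⋃ p ∈ associatedPrimes A A, (p : Set A)) := fun hsub => by
      obtain ⟨p, hp, hle⟩ := (Ideal.subset_union_prime_finite (associatedPrimes.finite A A) ⊥ ⊥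
        fun p hp _ _ => hp.isPrime).1 hsub
      have hpm : p ∈ minimalPrimes A := by
        obtain ⟨hpp, z, hz⟩ := isAssociatedPrime_iff.1 hp
        have hz0 : z ≠ 0 := fun h0 => hpp.ne_top ((Ideal.eq_top_iff_one p).2 (by
          rw [hz, Submodule.mem_colon_singleton, h0, smul_zero]; exact zero_mem _))
        obtain ⟨q, hq, hzq⟩ : ∃ q ∈ minimalPrimes A, z ∉ q := by
          by_contra hall'
          push Not at hall'
          refine hz0 ((_root_.nilradical_eq_zero A).le ?_ |> id)
          rw [nilradical_eq_sInf, Ideal.mem_sInf]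
          intro q hq
          haveI : q.IsPrime := hq
          obtain ⟨q', hq', hle'⟩ := Ideal.exists_minimalPrimes_le (I := (⊥ : Ideal A)) (J := q) bot_le
          exact hle' (hall' q' hq')
        have hpq : p ≤ q := fun a ha => (hq.1.1.mem_or_mem (show a * z ∈ q by
          rw [hz, Submodule.mem_colon_singleton, smul_eq_mul, Submodule.mem_bot] at ha
          rw [ha]; exact zero_mem _)).resolve_right hzq
        rwa [le_antisymm (hq.2 ⟨hpp, bot_le⟩ hpq) hpq] at hq
      obtain ⟨m', hm', hall⟩ := hrk p hpm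
      obtain ⟨a, ha, b, hab⟩ := hall m₀ (hm₀' p hpm) m
      exact ha (hle (Submodule.mem_colon_singleton.2 (Submodule.mem_span_singleton.2 ⟨b, hab.symm⟩)))
    rw [Set.not_subset] at hnot
    obtain ⟨a, ha, ha'⟩ := hnot
    refine ⟨a, ?_, ?_⟩
    · rw [biUnion_associatedPrimes_eq_compl_nonZeroDivisors] at ha'
      exact not_not.1 ha'
    · obtain ⟨b, hb⟩ := Submodule.mem_span_singleton.1 (Submodule.mem_colon_singleton.1 ha)
      exact ⟨b, hb.symm⟩
  have hzero : ∀ b : A, b • m₀ = 0 → b = 0 := fun b hb => by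
    refine (_root_.nilradical_eq_zero A).le ?_ |> id
    rw [nilradical_eq_sInf, Ideal.mem_sInf]
    intro q hq
    haveI : q.IsPrime := hq
    obtain ⟨p, hp, hpq⟩ := Ideal.exists_minimalPrimes_le (J := q) (bot_le)
    exact hpq (by_contra fun h => hm₀' p hp b h hb)
  choose a ha b hab using hgen
  let Kx : M → K := fun m => IsLocalization.mk' K (b m) ⟨a m, ha m⟩
  have key : ∀ (m : M) (c d : A) (hc : c ∈ nonZeroDivisors A), c • m = d • m₀ →
      Kx m = IsLocalization.mk' K d ⟨c, hc⟩ := fun m c d hc h => by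
    refine IsLocalization.mk'_eq_of_eq (sub_eq_zero.1 (hzero _ ?_))
    show (a m * d - c * b m) • m₀ = 0
    rw [sub_smul, mul_smul, mul_smul, ← hab, ← h, smul_comm, sub_self]
  let ι : M →ₗ[A] K :=
    { toFun := Kx
      map_add' := fun m n => by
        rw [key (m + n) (a m * a n) (a n * b m + a m * b n) (mul_mem (ha m) (ha n)) (by
          rw [smul_add, add_smul, mul_smul, mul_smul, mul_smul, mul_smul, ← hab, ← hab, smul_comm (a n) (a m) m])]
        show _ = IsLocalization.mk' K (b m) ⟨a m, ha m⟩ + IsLocalization.mk' K (b n) ⟨a n, ha n⟩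
        rw [← IsLocalization.mk'_add]
        exact IsLocalization.mk'_eq_of_eq (by push_cast; ring)
      map_smul' := fun c m => by
        rw [key (c • m) (a m) (c * b m) (ha m) (by rw [smul_comm, hab, mul_smul]), RingHom.id_apply, Algebra.smul_def]
        show _ = _ * IsLocalization.mk' K (b m) ⟨a m, ha m⟩
        rw [IsLocalization.mul_mk'_eq_mk'_of_mul] }
  have hι : Function.Injective ι := (injective_iff_map_eq_zero _).2 fun m hm => by
    obtain ⟨t, ht⟩ := (IsLocalization.mk'_eq_zero_iff _ _).1 (hm : IsLocalization.mk' K (b m) ⟨a m, ha m⟩ = 0)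
    have hb0 : b m = 0 := (mem_nonZeroDivisors_iff.1 t.2).1 _ ht
    refine htf (a m) (ha m) ?_
    show a m • m = a m • 0
    rw [hab, hb0, zero_smul, smul_zero]
  have hu : ∃ w ∈ LinearMap.range ι, IsUnit w := ⟨_, ⟨m₀, rfl⟩, by
    show IsUnit (Kx m₀)
    rw [key m₀ 1 1 (one_mem _) rfl, show (⟨1, one_mem _⟩ : nonZeroDivisors A) = 1 from rfl, IsLocalization.mk'_one,
      map_one]
    exact isUnit_one⟩
  let e := LinearEquiv.ofInjective ι hι
  rcases iso_lattice hδ (LinearMap.range ι) (Module.Finite.iff_fg.1 (Module.Finite.range ι)) hu with ⟨⟨e'⟩⟩ | ⟨⟨e'⟩, hne⟩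
  · exact Or.inl ⟨e.trans e'⟩
  suffices h : Nonempty (↥(integralClosure A K) ≃ₗ[A] maximalIdeal A) from Or.inr ⟨⟨(e.trans e').trans h.some⟩, hne⟩
  -- the normalisation is isomorphic to the maximal ideal
  have hnz : ∃ t ∈ maximalIdeal A, t ∈ nonZeroDivisors A := by
    by_contra hno
    push Not at hno
    apply hne
    refine Module.length_eq_zero_iff.2 (Submodule.Quotient.subsingleton_iff.2 (eq_top_iff.2 fun z _ => ?_))
    obtain ⟨⟨g, f⟩, hgf⟩ := IsLocalization.surj (nonZeroDivisors A) (z : K)
    obtain ⟨fu, hfu⟩ : IsUnit (f : A) := by_contra fun h => hno _ ((mem_maximalIdeal _).2 h) f.2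
    refine ⟨↑fu⁻¹ * g, Subtype.ext ?_⟩
    show algebraMap A K (↑fu⁻¹ * g) = (z : K)
    rw [map_mul, ← hgf, mul_comm (z : K), ← mul_assoc, ← map_mul, ← hfu, Units.inv_mul, map_one, one_mul]
  obtain ⟨t, ht, ht'⟩ := hnz
  let j : maximalIdeal A →ₗ[A] K := (Algebra.linearMap A K).comp (maximalIdeal A).subtype
  have hj : Function.Injective j := (IsFractionRing.injective A K).comp Subtype.val_injective
  rcases iso_lattice hδ (LinearMap.range j) (Module.Finite.iff_fg.1 (Module.Finite.range j))
      ⟨_, ⟨⟨t, ht⟩, rfl⟩, IsLocalization.map_units K (⟨t, ht'⟩ : nonZeroDivisors A)⟩ with ⟨⟨e₁⟩⟩ | ⟨⟨e₁⟩, -⟩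
  swap
  · exact ⟨((LinearEquiv.ofInjective j hj).trans e₁).symm⟩
  exfalso
  -- the maximal ideal cannot be principal
  let em := (LinearEquiv.ofInjective j hj).trans e₁
  let g₀ := em.symm 1
  have hg₀ : ∀ z : maximalIdeal A, (z : A) = em z * (g₀ : A) := fun z => by
    have : z = em z • g₀ := em.injective (by rw [map_smul, LinearEquiv.apply_symm_apply, smul_eq_mul, mul_one])
    conv_lhs => rw [this]
    rfl
  have hg₀n : algebraMap A K (g₀ : A) ≠ 0 ∧ IsUnit (algebraMap A K (g₀ : A)) := by
    have hu : IsUnit (algebraMap A K (g₀ : A)) := by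
      have h' := IsLocalization.map_units K (⟨t, ht'⟩ : nonZeroDivisors A)
      rw [show algebraMap A K t = algebraMap A K (em ⟨t, ht⟩) * algebraMap A K (g₀ : A) by
        rw [← map_mul, ← hg₀ ⟨t, ht⟩]] at h'
      exact isUnit_of_mul_isUnit_right h'
    exact ⟨hu.ne_zero, hu⟩
  let N := LinearMap.range (Algebra.linearMap A ↥(integralClosure A K))
  have hsimple : IsSimpleModule A (↥(integralClosure A K) ⧸ N) :=
    Module.length_eq_one_iff.1 (le_antisymm hδ (Order.one_le_iff_ne_zero.2 hne))
  have hkill : ∀ (μ : maximalIdeal A) (z : integralClosure A K), (μ : A) • z ∈ N := fun μ z => by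
    haveI := hsimple
    rw [← Submodule.Quotient.mk_eq_zero, Submodule.Quotient.mk_smul]
    by_contra h
    obtain ⟨r, hr⟩ := IsSimpleModule.toSpanSingleton_surjective (R := A) h (Submodule.Quotient.mk z : _ ⧸ N)
    rw [LinearMap.toSpanSingleton_apply, smul_smul] at hr
    have h1 : (1 - r * (μ : A)) • (Submodule.Quotient.mk z : _ ⧸ N) = 0 := by rw [sub_smul, one_smul, hr, sub_self]
    exact h (by rw [(IsLocalRing.isUnit_one_sub_self_of_mem_nonunits _
      (Ideal.mul_mem_left _ r μ.2)).smul_eq_zero.1 h1, smul_zero])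
  apply hne
  refine Module.length_eq_zero_iff.2 (Submodule.Quotient.subsingleton_iff.2 (eq_top_iff.2 fun z _ => ?_))
  obtain ⟨c, hc⟩ := hkill g₀ z
  have hc' : algebraMap A K c = algebraMap A K (g₀ : A) * (z : K) := by
    have := congrArg Subtype.val hc
    simpa [Algebra.smul_def] using this
  have hcm : c ∈ maximalIdeal A := (mem_maximalIdeal _).2 fun hcu => by
    -- otherwise `g₀` would be a unit of the integral extension
    haveI := hcu
    have hgm : IsUnit (algebraMap A ↥(integralClosure A K) (g₀ : A)) :=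
      isUnit_of_mul_isUnit_left (y := z) (by
        rw [show algebraMap A ↥(integralClosure A K) (g₀ : A) * z = algebraMap A _ c from Subtype.ext hc'.symm]
        exact hcu.map _)
    haveI : FaithfulSMul A ↥(integralClosure A K) := (faithfulSMul_iff_algebraMap_injective A _).2
      fun a b h => IsFractionRing.injective A K (congrArg Subtype.val h)
    obtain ⟨q, hq, hqm⟩ := Ideal.exists_maximal_ideal_liesOver_of_isIntegral (S := ↥(integralClosure A K)) (maximalIdeal A)
    exact hq.ne_top (Ideal.eq_top_of_isUnit_mem _ ((Ideal.mem_of_liesOver q (maximalIdeal A) _).1 g₀.2) hgm)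
  refine ⟨em ⟨c, hcm⟩, Subtype.ext ?_⟩
  show algebraMap A K (em ⟨c, hcm⟩) = (z : K)
  refine hg₀n.2.mul_left_cancel ?_
  rw [← hc', ← map_mul, mul_comm]
  exact congrArg _ (hg₀ ⟨c, hcm⟩).symm

end GrothLib.FMAdj25

end
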