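import Groth.Agent.Lib.FMAdj25.SmRatComp
import Groth.Agent.Lib.SGA1Quot21.SigmaFinite
import Groth.Agent.Lib.DeltaEuler.H0
import Groth.Agent.Lib.TFCurv11.NodePush
import Groth.Agent.Lib.CMReg.ClosedSeq
import Groth.Agent.Lib.BlowPt28.Push
import Groth.Agent.Lib.FormalFun.HomComplete
import Groth.Agent.Lib.CurveSerre11.Numbers
import Groth.Agent.Lib.NormFlat11.Nodal
import Groth.Agent.Lib.NodeSpread11.Basic
import Groth.Agent.S14467

/-!
# A nodal curve has genus zero exactly when it is a tree of lines
-/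

universe u

set_option autoImplicit false
set_option linter.all false
set_option backward.isDefEq.respectTransparency false
set_option maxHeartbeats 1000000

open CategoryTheory CategoryTheory.Limits AlgebraicGeometry TopologicalSpace

noncomputable section

namespace GrothLib.FMAdj25

open GrothLib.QCoh (stalkLin)
open GrothLib.CurveSerre11 GrothLib.SubCurve16

variable (k : Type u) [Field k]

section

variable {Y : Scheme.{u}} [Y.Over (Spec (CommRingCat.of k))] {M N P : Y.Modules}

theorem hhMap_add25 (φ φ' : M ⟶ N) (n : ℕ) (x : Coh.HH Y M n) :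
    Cohom.hhMap k (φ + φ') n x = Cohom.hhMap k φ n x + Cohom.hhMap k φ' n x := by
  show Sheaf.H.map ((SheafOfModules.toSheaf Y.ringCatSheaf).map (φ + φ')) n x = _
  rw [Functor.map_add]
  exact Sheaf.H.map_add_apply _ _ x

theorem hhMap_comp25 (φ : M ⟶ N) (ψ : N ⟶ P) (n : ℕ) (x : Coh.HH Y M n) :
    Cohom.hhMap k (φ ≫ ψ) n x = Cohom.hhMap k ψ n (Cohom.hhMap k φ n x) := by
  show Sheaf.H.map ((SheafOfModules.toSheaf Y.ringCatSheaf).map (φ ≫ ψ)) n x = _
  rw [Functor.map_comp]
  exact Sheaf.H.map_comp_apply _ _ x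

theorem hhMap_zero25 {n : ℕ} (x : Coh.HH Y M n) : Cohom.hhMap k (0 : M ⟶ N) n x = 0 := by
  have h := hhMap_add25 k (0 : M ⟶ N) 0 n x
  rw [add_zero] at h
  exact add_eq_left.1 h.symm

end

/-- A scheme cut into finitely many clopen parts without `H¹` of functions has none. -/
theorem subsingleton_H1_of_clopen_parts {Y : Scheme.{u}} [Y.Over (Spec (CommRingCat.of k))]
    [IsProper (Y ↘ Spec (CommRingCat.of k))] {ι : Type u} [Finite ι] (Z : ι → Scheme.{u})
    (j : ∀ i, Z i ⟶ Y) [∀ i, IsOpenImmersion (j i)] [∀ i, IsClosedImmersion (j i)]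
    (hcov : ∀ y : Y, ∃ i, y ∈ Set.range (j i)) (hdis : ∀ i i' y, y ∈ Set.range (j i) → y ∈ Set.range (j i') → i = i')
    (h : ∀ i, Subsingleton (Coh.HH Y ((Scheme.Modules.pushforward (j i)).obj (Coh.structureModule (Z i))) 1)) :
    Subsingleton (Coh.HH Y (Coh.structureModule Y) 1) := by
  classical
  haveI := Fintype.ofFinite ι
  let O := Coh.structureModule Y
  have hcl : ∀ i, IsClopen (Set.range (j i)) := fun i =>
    ⟨(j i).isClosedEmbedding.isClosed_range, (j i).isOpenEmbedding.isOpen_range⟩
  choose e he using fun i => DeltaEuler.exists_idempotent (X := Y) (hcl i)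
  let μ : ι → (O ⟶ O) := fun i => Euler.smulMod O (e i)
  have hsum : ∑ i, μ i = 𝟙 O := by
    refine FormalFun.hom_ext_stalkLin fun y v => ?_
    obtain ⟨i₀, hi₀⟩ := hcov y
    have hs : ∀ s : Finset ι, stalkLin (∑ i ∈ s, μ i) y v = ∑ i ∈ s, stalkLin (μ i) y v := by
      intro s
      induction s using Finset.induction_on with
      | empty =>
        simp only [Finset.sum_empty]
        exact LinearMap.congr_fun (congrArg ModuleCat.Hom.hom ((OX.stalk y).map_zero O O)) v
      | insert i s hi ih => rw [Finset.sum_insert hi, Finset.sum_insert hi, QCoh.stalkLin_add, ih]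
    rw [hs, Finset.sum_eq_single i₀]
    · rw [Euler.stalkLin_smulMod, he i₀ y, if_pos hi₀, one_smul]
      exact (LinearMap.congr_fun (congrArg ModuleCat.Hom.hom ((OX.stalk y).map_id O)) v).symm
    · intro i _ hne
      rw [Euler.stalkLin_smulMod, he i y, if_neg fun hy => hne (hdis i i₀ y hy hi₀), zero_smul]
    · intro hno
      exact absurd (Finset.mem_univ i₀) hno
  have hμ : ∀ i (x : Coh.HH Y O 1), Cohom.hhMap k (μ i) 1 x = 0 := by
    intro i x
    let u := ClSub.unitToPush (j i)
    haveI : Epi u := (OX.epi_iff _).2 fun y => (ModuleCat.epi_iff_surjective _).2 (CMReg.surjective_stalk_unitToPush (j i) y)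
    have hS : (ShortComplex.mk (kernel.ι u) u (kernel.condition u)).ShortExact :=
      { exact := ShortComplex.exact_of_f_is_kernel _ (kernelIsKernel _) }
    obtain ⟨w, rfl⟩ := (Cohom.exact₂ (A := k) hS 1 x).1 (@Subsingleton.elim _ (h i) _ _)
    have hz : kernel.ι u ≫ μ i = 0 := by
      refine FormalFun.hom_ext_stalkLin fun y v => ?_
      rw [QCoh.stalkLin_comp, Euler.stalkLin_smulMod, he i y]
      refine Eq.trans ?_ (LinearMap.congr_fun (congrArg ModuleCat.Hom.hom ((OX.stalk y).map_zero _ O)) v).symm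
      by_cases hy : y ∈ Set.range (j i)
      · rw [if_pos hy, one_smul]
        let T : Y.Opens := (j i).opensRange
        haveI : IsIso (j i ∣_ T) := by
          haveI : Epi (j i ∣_ T).base := by
            rw [TopCat.epi_iff_surjective]
            rintro ⟨z, ⟨a, rfl⟩⟩
            exact ⟨⟨a, ⟨a, rfl⟩⟩, Subtype.ext (morphismRestrict_base_coe (j i) T _)⟩
          exact IsOpenImmersion.isIso (j i ∣_ T)
        have hb : Function.Injective (stalkLin u y) := (Euler.stalkLin_bijective_of_app_bijective u (O := T) hy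
          fun V hV => BlowPt28.bijective_app_of_le (j i) T (fun _ => inferInstance) hV).1
        refine hb ?_
        rw [← QCoh.stalkLin_comp, kernel.condition]
        exact (LinearMap.congr_fun (congrArg ModuleCat.Hom.hom ((OX.stalk y).map_zero _ _)) v).trans
          (map_zero (stalkLin u y)).symm
      · rw [if_neg hy, zero_smul]
        rfl
    rw [← hhMap_comp25, hz]
    exact hhMap_zero25 k w
  refine subsingleton_of_forall_eq 0 fun x => ?_
  have hs : ∀ s : Finset ι, Cohom.hhMap k (∑ i ∈ s, μ i) 1 x = 0 := by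
    intro s
    induction s using Finset.induction_on with
    | empty =>
      simp only [Finset.sum_empty]
      exact hhMap_zero25 k x
    | insert i s hi ih => rw [Finset.sum_insert hi, hhMap_add25, hμ, ih, add_zero]
  have := hs Finset.univ
  rw [hsum, SerreVanish.hhMap_id] at this
  exact this

variable [IsAlgClosed k] {X : Scheme.{u}} [X.Over (Spec (CommRingCat.of k))]
  [IsProper (X ↘ Spec (CommRingCat.of k))] [AlgebraicGeometry.IsReduced X] [ConnectedSpace X]
  (hdim : topologicalKrullDim X = 1) (hX : Curv2.AtWorstNodal k X)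

include k hdim hX in
/-- The genus of a nodal curve whose components are lines. -/
theorem genus_add_ncard_genericPoints
    (h : ∀ η ∈ genericPoints (X : Type u), Module.finrank k (Coh.HH X (ClSub.quotMod (JJ ({η} : Set X))) 1) = 0) :
    (Curv2.genus k X : ℤ) + (genericPoints (X : Type u)).ncard = Nat.card {x : X // Curv2.IsNode k X x} + 1 := by
  classical
  haveI := Euler.isNoetherian_of_proper (X := X) k
  have hfin : (genericPoints (X : Type u)).Finite :=
    genericPoints.finite NoetherianSpace.finite_irreducibleComponents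
  haveI := hfin.to_subtype
  let P := genericPoints (X : Type u)
  let W : P → Scheme.{u} := fun η => (JJ ({η.1} : Set X)).subscheme
  let f : ∀ η : P, W η ⟶ X := fun η => (JJ ({η.1} : Set X)).subschemeι
  have hprop : ∀ η : P, IsProper (f η ≫ X ↘ Spec (CommRingCat.of k)) := fun η => inferInstance
  have hsm : ∀ η : P, Smooth (f η ≫ X ↘ Spec (CommRingCat.of k)) := by
    intro η
    obtain ⟨hr, hirr, hconn, hd1⟩ := irreducible_JJ k hdim η.2
    haveI := hr
    haveI := hirr
    haveI : IsIntegral (JJ ({η.1} : Set X)).subscheme := isIntegral_of_irreducibleSpace_of_isReduced _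
    letI : (JJ ({η.1} : Set X)).subscheme.Over (Spec (CommRingCat.of k)) :=
      ⟨(JJ ({η.1} : Set X)).subschemeι ≫ X ↘ Spec (CommRingCat.of k)⟩
    haveI : IsProper ((JJ ({η.1} : Set X)).subscheme ↘ Spec (CommRingCat.of k)) := hprop η
    exact Groth.Agent.S14512.result k (JJ ({η.1} : Set X)).subscheme hd1
      ((finrank_quotMod_eq k _ 1).symm.trans (h η.1 η.2))
  let C' : Scheme.{u} := ∐ W
  let π : C' ⟶ X := Sigma.desc f
  have hιπ : ∀ η, Sigma.ι W η ≫ π = f η := fun η => Sigma.ι_desc _ _
  haveI : IsFinite π := SGA1Quot21.isFinite_sigmaDesc f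
  letI : C'.Over (Spec (CommRingCat.of k)) := ⟨π ≫ X ↘ Spec (CommRingCat.of k)⟩
  haveI : IsProper (C' ↘ Spec (CommRingCat.of k)) := inferInstanceAs (IsProper (π ≫ X ↘ Spec (CommRingCat.of k)))
  haveI : Smooth (π ≫ X ↘ Spec (CommRingCat.of k)) := by
    have e : π ≫ X ↘ Spec (CommRingCat.of k) = Sigma.desc fun η => f η ≫ X ↘ Spec (CommRingCat.of k) :=
      Sigma.hom_ext _ _ fun η => by rw [reassoc_of% (hιπ η), Sigma.ι_desc]
    rw [e]
    exact IsZariskiLocalAtSource.sigmaDesc (P := @Smooth) hsm
  have hN : Pi1.IsNormalScheme C' := NodePush11.isNormalScheme_of_smooth (π ≫ X ↘ Spec (CommRingCat.of k))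
  have hC' : ∀ z : C', ∃ η y, Sigma.ι W η y = z := fun z => by
    obtain ⟨⟨η, y⟩, rfl⟩ := (sigmaMk W).surjective z
    exact ⟨η, y, (sigmaMk_mk W η y).symm⟩
  have hinj : ∀ η η' y y', Sigma.ι W η y = Sigma.ι W η' y' → η = η' := fun η η' y y' hh => by
    rw [← sigmaMk_mk, ← sigmaMk_mk] at hh
    exact congrArg Sigma.fst ((sigmaMk W).injective hh)
  have hrange : ∀ η : P, Set.range (f η) = closure ({η.1} : Set X) := fun η => by
    rw [Scheme.IdealSheafData.range_subschemeι, Scheme.IdealSheafData.coe_support_vanishingIdeal]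
    rfl
  have hrJ : ∀ η : P, IrreducibleSpace (W η) := fun η => (irreducible_JJ k hdim η.2).2.1
  -- the open where the components do not meet
  let O : P → X.Opens := fun η => ⟨(⋃ η' ∈ P \ {η.1}, closure ({η'} : Set X))ᶜ,
    ((hfin.subset Set.diff_subset).isClosed_biUnion fun _ _ => isClosed_closure).isOpen_compl⟩
  have hηO : ∀ η : P, η.1 ∈ O η := fun η hmem => by
    obtain ⟨η', ⟨hη', hne⟩, hh⟩ := Set.mem_iUnion₂.mp hmem
    have hle : closure ({η.1} : Set X) ≤ closure {η'} :=
      closure_minimal (Set.singleton_subset_iff.mpr hh) isClosed_closure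
    have : closure ({η.1} : Set X) = closure {η'} :=
      le_antisymm hle (η.2.2 isIrreducible_singleton.closure hle)
    exact hne (Inseparable.eq ((inseparable_iff_closure_eq).mpr this)).symm
  let U : X.Opens := ⨆ η, O η
  have hUd : Dense (U : Set X) := by
    refine Dense.mono (fun η hη => Opens.mem_iSup.2 ⟨⟨η, hη⟩, hηO _⟩) ?_
    exact dense_iff_closure_eq.2 genericPoints.closure
  have hU' : Dense ((π ⁻¹ᵁ U : C'.Opens) : Set C') := by
    intro z
    obtain ⟨η, y, rfl⟩ := hC' z
    haveI := hrJ η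
    have hne : ((f η ⁻¹ᵁ U : (W η).Opens) : Set (W η)).Nonempty := by
      obtain ⟨w, hw⟩ := (hrange η).ge (subset_closure (Set.mem_singleton η.1))
      exact ⟨w, show f η w ∈ U from hw ▸ Opens.mem_iSup.2 ⟨η, hηO η⟩⟩
    have hd := (f η ⁻¹ᵁ U).isOpen.dense hne y
    refine closure_mono ?_ (image_closure_subset_closure_image (Sigma.ι W η).continuous ⟨y, hd, rfl⟩)
    rintro _ ⟨w, hw, rfl⟩
    show (Sigma.ι W η ≫ π) w ∈ U
    rw [hιπ]
    exact hw
  have hπO : ∀ η : P, IsIso (π ∣_ O η) := by
    intro η
    have hpre : (π ⁻¹ᵁ O η : C'.Opens) ≤ (Sigma.ι W η).opensRange := fun z hz => by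
      obtain ⟨η', y, rfl⟩ := hC' z
      by_cases e : η' = η
      · subst e; exact ⟨y, rfl⟩
      · refine absurd (Set.mem_iUnion₂.2 ⟨η'.1, ⟨η'.2, fun hh => e (Subtype.ext hh)⟩, ?_⟩) hz
        rw [← hrange η']
        exact ⟨y, (congrArg (fun g => g y) (congrArg (fun g : W η' ⟶ X => g.base) (hιπ η'))).symm⟩
    haveI : Mono (π ∣_ O η) := by
      constructor
      intro T a b hab
      rw [← cancel_mono (π ⁻¹ᵁ O η).ι]
      have hsub : ∀ c : T ⟶ (π ⁻¹ᵁ O η : C'.Opens), Set.range (c ≫ (π ⁻¹ᵁ O η).ι) ⊆ Set.range (Sigma.ι W η) := by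
        rintro c _ ⟨t, rfl⟩
        exact hpre (c t).2
      rw [← IsOpenImmersion.lift_fac (Sigma.ι W η) _ (hsub a), ← IsOpenImmersion.lift_fac (Sigma.ι W η) _ (hsub b)]
      congr 1
      rw [← cancel_mono (f η), ← hιπ η, IsOpenImmersion.lift_fac_assoc, IsOpenImmersion.lift_fac_assoc,
        Category.assoc, Category.assoc, ← morphismRestrict_ι, reassoc_of% hab]
    haveI : IsFinite (π ∣_ O η) := IsZariskiLocalAtTarget.restrict ‹IsFinite π› _
    haveI : IsClosedImmersion (π ∣_ O η) := (IsClosedImmersion.iff_isFinite_and_mono _).2 ⟨inferInstance, inferInstance⟩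
    haveI : Surjective (π ∣_ O η) := ⟨by
      rintro ⟨x, hx⟩
      have hy : x ∈ closure (genericPoints (X : Type u)) := by rw [genericPoints.closure]; trivial
      rw [← Set.biUnion_of_singleton (genericPoints (X : Type u)), hfin.closure_biUnion] at hy
      obtain ⟨η', hη', hxη'⟩ := Set.mem_iUnion₂.mp hy
      obtain rfl : η' = η.1 := by
        by_contra hne
        exact hx (Set.mem_iUnion₂.2 ⟨η', ⟨hη', hne⟩, hxη'⟩)
      obtain ⟨y, rfl⟩ := (hrange η).ge hxη'
      have hy : π (Sigma.ι W η y) = f η y :=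
        congrArg (fun g => g y) (congrArg (fun g : W η ⟶ X => g.base) (hιπ η))
      exact ⟨⟨Sigma.ι W η y, show π (Sigma.ι W η y) ∈ O η from hy.symm ▸ hx⟩,
        Subtype.ext ((morphismRestrict_base_coe π (O η) _).trans hy)⟩⟩
    exact isIso_of_isClosedImmersion_of_surjective _
  have hπU : IsIso (π ∣_ U) := by
    refine (IsZariskiLocalAtTarget.iff_of_iSup_eq_top (P := MorphismProperty.isomorphisms Scheme.{u})
      (fun η : P => U.ι ⁻¹ᵁ O η) ?_).2 fun η => ?_
    · rw [← Scheme.Hom.preimage_iSup]
      exact eq_top_iff.2 fun z _ => z.2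
    · refine ((MorphismProperty.isomorphisms Scheme.{u}).arrow_mk_iso_iff
        (morphismRestrictRestrict π U (U.ι ⁻¹ᵁ O η))).2 ?_
      have e : U.ι ''ᵁ (U.ι ⁻¹ᵁ O η) = O η := by
        rw [Scheme.Hom.image_preimage_eq_opensRange_inf, Scheme.Opens.opensRange_ι]
        exact inf_eq_right.2 (le_iSup O η)
      exact ((MorphismProperty.isomorphisms Scheme.{u}).arrow_mk_iso_iff (morphismRestrictEq π e)).2 (hπO η)
  -- components and genus of the normalisation
  have hcard : Nat.card (_root_.ConnectedComponents C') = P.ncard := by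
    let idx : C' → P := fun z => ((sigmaMk W).symm z).1
    have hidx : ∀ η y, idx (Sigma.ι W η y) = η := fun η y => by
      show ((sigmaMk W).symm (Sigma.ι W η y)).1 = η
      rw [← sigmaMk_mk, Homeomorph.symm_apply_apply]
    have hlc : IsLocallyConstant idx := by
      refine IsLocallyConstant.iff_isOpen_fiber.2 fun η => ?_
      have e : idx ⁻¹' {η} = Set.range (Sigma.ι W η) := Set.ext fun z => by
        constructor
        · intro hz
          obtain ⟨η', y, rfl⟩ := hC' z
          obtain rfl : η' = η := (hidx η' y).symm.trans hz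
          exact ⟨y, rfl⟩
        · rintro ⟨y, rfl⟩; exact hidx η y
      rw [e]
      exact (Sigma.ι W η).isOpenEmbedding.isOpen_range
    letI : TopologicalSpace P := ⊥
    haveI : DiscreteTopology P := ⟨rfl⟩
    let L : _root_.ConnectedComponents C' → P := hlc.continuous.connectedComponentsLift
    have hL : ∀ z, L (ConnectedComponents.mk z) = idx z := fun z => rfl
    rw [← Nat.card_coe_set_eq]
    refine Nat.card_eq_of_bijective L ⟨fun a b => ?_, fun η => ?_⟩
    · obtain ⟨z, rfl⟩ := ConnectedComponents.surjective_coe a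
      obtain ⟨w, rfl⟩ := ConnectedComponents.surjective_coe b
      intro hab
      obtain ⟨η, y, rfl⟩ := hC' z
      obtain ⟨η', y', rfl⟩ := hC' w
      have he : η = η' := (hidx η y).symm.trans (hab.trans (hidx η' y'))
      subst he
      haveI := hrJ η
      exact ConnectedComponents.coe_eq_coe'.2 ((isPreconnected_range (Sigma.ι W η).continuous).subset_connectedComponent
        (Set.mem_range_self y') (Set.mem_range_self y))
    · haveI := hrJ η
      exact ⟨ConnectedComponents.mk (Sigma.ι W η (Classical.arbitrary (W η))), hidx _ _⟩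
  have hg' : Curv2.genus k C' = 0 := by
    haveI : ∀ η, IsClosedImmersion (Sigma.ι W η) := fun η => by
      refine IsClosedImmersion.of_isPreimmersion _ ?_
      rw [← isOpen_compl_iff]
      have e : (Set.range (Sigma.ι W η))ᶜ = ⋃ η' ∈ ({η}ᶜ : Set P), Set.range (Sigma.ι W η') := by
        ext z
        simp only [Set.mem_compl_iff, Set.mem_iUnion, Set.mem_singleton_iff]
        constructor
        · intro hz
          obtain ⟨η', y, rfl⟩ := hC' z
          exact ⟨η', fun hh => hz (hh ▸ ⟨y, rfl⟩), y, rfl⟩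
        · rintro ⟨η', hne, y, rfl⟩ ⟨y', hy'⟩
          exact hne (hinj _ _ _ _ hy').symm
      rw [e]
      exact isOpen_biUnion fun η' _ => (Sigma.ι W η').isOpenEmbedding.isOpen_range
    refine @Module.finrank_zero_of_subsingleton k _ _ _ _ _ ?_
    refine subsingleton_H1_of_clopen_parts k W (fun η => Sigma.ι W η)
      (fun z => by obtain ⟨η, y, rfl⟩ := hC' z; exact ⟨η, y, rfl⟩)
      (fun η η' z ⟨y, hy⟩ ⟨y', hy'⟩ => hinj η η' y y' (hy.trans hy'.symm)) fun η => ?_
    letI : (W η).Over (Spec (CommRingCat.of k)) := ⟨f η ≫ X ↘ Spec (CommRingCat.of k)⟩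
    haveI : IsProper ((W η) ↘ Spec (CommRingCat.of k)) := hprop η
    haveI : (Coh.structureModule (W η)).IsQuasicoherent := (Euler.isCoh_of_isInvertible Euler.isInvertible_structure).1
    obtain ⟨eH⟩ := Snapper.nonempty_HH_linearEquiv_pushforward (A := k) (Sigma.ι W η)
      (show Sigma.ι W η ≫ π ≫ X ↘ Spec (CommRingCat.of k) = f η ≫ X ↘ Spec (CommRingCat.of k) by
        rw [reassoc_of% (hιπ η)]) (Coh.structureModule (W η)) 1
    haveI := Euler.isNoetherian_of_proper (X := W η) k
    haveI := Euler.finiteDimensional_HH k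
      (Euler.isCoh_of_isInvertible (Euler.isInvertible_structure (X := W η))) 1
    have hs : Subsingleton (Coh.HH (W η) (Coh.structureModule (W η)) 1) :=
      Module.finrank_zero_iff.1 ((finrank_quotMod_eq k _ 1).symm.trans (h η.1 η.2))
    exact @Equiv.subsingleton _ _ eH.symm.toEquiv hs
  have hequi : ∀ Z ∈ irreducibleComponents (X : Type u), topologicalKrullDim Z = 1 := fun Z hZ => by
    obtain ⟨η, hη⟩ := genericPoints.component_surjective (α := (X : Type u)) ⟨Z, hZ⟩
    obtain rfl : closure ({η.1} : Set X) = Z := congrArg Subtype.val hη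
    rw [← Euler.homeomorph_range_dim (JJ ({η.1} : Set X)).subschemeι (hrange η)]
    exact (irreducible_JJ k hdim η.2).2.2.2
  have hg := Groth.Agent.S14467.result k X hequi hX C' π hN U hUd hU' hπU
  rw [hcard, hg'] at hg
  simpa using hg

include k hdim in
/-- In genus zero every component has `h¹ = 0`. -/
theorem h1_component_eq_zero (hg : Curv2.genus k X = 0) {η : X} :
    Module.finrank k (Coh.HH X (ClSub.quotMod (JJ ({η} : Set X))) 1) = 0 := by
  haveI := Euler.isNoetherian_of_proper (X := X) k
  haveI := Euler.finiteDimensional_HH k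
    (Euler.isCoh_of_isInvertible (Euler.isInvertible_structure (X := X))) 1
  haveI := Euler.epi_toSubscheme (JJ ({η} : Set X))
  haveI := CurveMult.subsingleton_H1_of_epi k hdim.le (ClSub.toSubscheme (JJ ({η} : Set X)))
    (Module.finrank_zero_iff.1 hg)
  exact Module.finrank_zero_of_subsingleton

include k hdim hX in
theorem genus_zero_iff :
    Curv2.genus k X = 0 ↔
      ((∀ E ∈ irreducibleComponents (X : Type u), CurvSt.IsSmRatComp k X (X ↘ Spec (CommRingCat.of k)) E) ∧
        {x : X | Curv2.IsNode k X x}.encard + 1 = (irreducibleComponents (X : Type u)).encard) := by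
  haveI := Euler.isNoetherian_of_proper (X := X) k
  have hfin : (genericPoints (X : Type u)).Finite :=
    genericPoints.finite NoetherianSpace.finite_irreducibleComponents
  have hcomp : (irreducibleComponents (X : Type u)).encard = ((genericPoints (X : Type u)).ncard : ℕ) := by
    rw [hfin.cast_ncard_eq]
    exact (Set.encard_congr (genericPoints.equiv (α := (X : Type u)))).symm
  have hnf : {x : X | Curv2.IsNode k X x}.Finite := NodeSpread11.finite_setOf_isNode k hdim.le hX
  have hn : {x : X | Curv2.IsNode k X x}.encard = (Nat.card {x : X // Curv2.IsNode k X x} : ℕ) := by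
    rw [← hnf.cast_ncard_eq, ← Nat.card_coe_set_eq]
    rfl
  rw [hcomp, hn]
  constructor
  · intro hg
    have h := genus_add_ncard_genericPoints k hdim hX fun η _ => h1_component_eq_zero k hdim hg
    refine ⟨fun E hE => ?_, ?_⟩
    · obtain ⟨η, hη⟩ := genericPoints.component_surjective (α := (X : Type u)) ⟨E, hE⟩
      obtain rfl : closure ({η.1} : Set X) = E := congrArg Subtype.val hη
      exact (isSmRatComp_iff hdim η.2).2 (h1_component_eq_zero k hdim hg)
    · rw [hg] at h
      norm_cast
      omega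
  · rintro ⟨hr, he⟩
    have h := genus_add_ncard_genericPoints k hdim hX fun η hη => (isSmRatComp_iff hdim hη).1 (hr _ hη)
    norm_cast at he
    omega

end GrothLib.FMAdj25
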