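import Groth.Agent.Lib.FMAdj25.LinkedCurve
import Groth.Agent.Lib.ProjPic26.Main
import Groth.Agent.Lib.ProjCohom.Corollaries
import Groth.Agent.Lib.CurveSerre11.InjDim
import Groth.Agent.Lib.CurveMult.P1Split
import Groth.Agent.Lib.ProjDim.Const

/-! # Dualizing modules of ribbons on the line -/

set_option autoImplicit false
set_option maxHeartbeats 1000000
set_option linter.style.haveILetI false
set_option backward.isDefEq.respectTransparency false
universe u

open CategoryTheory CategoryTheory.Limits AlgebraicGeometry Opposite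

attribute [local instance] HasDerivedCategory.standard

noncomputable section

namespace GrothLib.FMAdj25

open GrothLib.InvExt (mres fres)

/-- The ideal of a ribbon is its own annihilator. -/
theorem annihilator_eq_of_sq_zero {C : Scheme.{u}} (I : C.IdealSheafData) (hI : I ^ 2 = ⊥)
    (hL : PicF.IsInvertible ((Scheme.Modules.pullback I.subschemeι).obj (ClSub.idealMod I))) (U : C.affineOpens) :
    I.ideal U = (I.ideal U).annihilator := by
  have hsq : ∀ (V : C.affineOpens) (a b : Γ(C, V.1)), a ∈ I.ideal V → b ∈ I.ideal V → a * b = 0 := by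
    intro V a b ha hb
    have h : (I.ideal V) ^ 2 = ⊥ := by
      have := congrArg (fun J : C.IdealSheafData => J.ideal V) hI
      simpa using this
    have h2 : a * b ∈ (I.ideal V) ^ 2 := by rw [pow_two]; exact Ideal.mul_mem_mul ha hb
    rwa [h] at h2
  refine le_antisymm (fun a ha => Submodule.mem_annihilator.2 fun b hb => hsq U a b ha hb) fun a ha => ?_
  let f := I.subschemeι
  let adj := Scheme.Modules.pullbackPushforwardAdjunction f
  let M := ClSub.idealMod I
  haveI hη : IsIso (adj.unit.app M) := by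
    refine ClosedPush22.isIso_unit_of_killed f M fun V b hb m => ?_
    rw [Scheme.IdealSheafData.ker_subschemeι] at hb
    change Γ(M, V.1) at m
    apply IdealModSec.val_injective I V.1
    rw [IdealModSec.val_smul, IdealModSec.val_zero]
    exact hsq V _ _ hb (IdealModSec.val_mem I V m)
  rw [← I.ker_subschemeι_app U, RingHom.mem_ker]
  refine TopCat.Presheaf.section_ext I.subscheme.sheaf (f ⁻¹ᵁ U.1) _ _ fun x hx => ?_
  show I.subscheme.presheaf.germ (f ⁻¹ᵁ U.1) x hx (f.app U.1 a) = I.subscheme.presheaf.germ (f ⁻¹ᵁ U.1) x hx 0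
  rw [map_zero]
  obtain ⟨V, e, hxV, he⟩ := InvExt.exists_gen_nhd hL x
  obtain ⟨W, rfl⟩ := K0Sub.exists_preimage f V
  obtain ⟨U', hxU', hle⟩ := BlowUp.exists_affine_mem_le (show f x ∈ W ⊓ U.1 from ⟨hxV, hx⟩)
  have he' := he.restrict (f.preimage_mono (hle.trans inf_le_left))
  obtain ⟨m, hm⟩ := (ConcreteCategory.bijective_of_isIso ((adj.unit.app M).app U'.1)).2
    (mres ((Scheme.Modules.pullback f).obj M) (f.preimage_mono (hle.trans inf_le_left)) e)
  let a' := fres C (hle.trans inf_le_right) a
  have ha' : a' • m = 0 := by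
    apply IdealModSec.val_injective I U'.1
    rw [IdealModSec.val_smul, IdealModSec.val_zero]
    have hv := IdealModSec.val_mem I U' m
    rw [← I.map_ideal (U := U') (V := U) (hle.trans inf_le_right), Ideal.map] at hv
    refine Submodule.span_induction ?_ ?_ ?_ ?_ hv
    · rintro _ ⟨b, hb, rfl⟩
      show fres C _ a * fres C _ b = 0
      rw [← map_mul]
      exact (congrArg _ ((Submodule.mem_annihilator.1 ha) b hb)).trans (map_zero _)
    · exact mul_zero _
    · intro y z _ _ h₁ h₂; rw [mul_add, h₁, h₂, add_zero]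
    · intro c y _ h; rw [smul_eq_mul, mul_left_comm, h, mul_zero]
  have h0 : f.app U'.1 a' = 0 := by
    refine he'.smul_left_injective le_rfl ?_
    rw [zero_smul, InvExt.mres_self, ← hm]
    exact ((Scheme.Modules.Hom.app_smul (adj.unit.app M) a' m).symm.trans
      ((congrArg ((adj.unit.app M).app U'.1) ha').trans (map_zero _)))
  have hnat : I.subscheme.presheaf.map (homOfLE (f.preimage_mono (hle.trans inf_le_right))).op (f.app U.1 a) =
      f.app U'.1 a' :=
    (ConcreteCategory.congr_hom (f.naturality (homOfLE (hle.trans inf_le_right)).op) a).symm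
  rw [← TopCat.Presheaf.germ_res_apply I.subscheme.presheaf (homOfLE (f.preimage_mono (hle.trans inf_le_right))) x hxU']
  exact (congrArg (I.subscheme.presheaf.germ _ x hxU') (hnat.trans h0)).trans (map_zero _)

variable {k : Type u} [Field k]

/-- The Euler characteristic of the twists on the line. -/
theorem euler_twist_line (m : ℤ) :
    Curv2.euler k (CohB1.ProjSpace 1 k) (Twist.twistProjSpace 1 k m) = m + 1 := by
  haveI : IsProper (CohB1.ProjSpace 1 k ↘ Spec (CommRingCat.of k)) := Chow.isProper_toSpec 1 k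
  haveI := Euler.isNoetherian_of_proper (X := CohB1.ProjSpace 1 k) k
  rw [Euler.euler_eq_sum k _ (N := 2) fun i hi =>
    ProjCohom.subsingleton_HH (n := 1) (R := k) (by omega) (by omega)]
  refine (ProjCohom.euler_twist k 1 one_pos m).trans ?_
  rw [Ring.choose_one_right]
  simp

set_option maxHeartbeats 2000000 in
/-- The dualizing module of a ribbon restricted to the line. -/
theorem nonempty_restrict_dualizingMod (C : Scheme.{u}) [C.Over (Spec (CommRingCat.of k))]
    [IsProper (C ↘ (Spec (CommRingCat.of k)))]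
    (I : C.IdealSheafData) (hI : I ^ 2 = ⊥)
    (e : I.subscheme ≅ CohB1.ProjSpace 1 k)
    (he : e.hom ≫ CohB1.ProjSpace.toSpec 1 k = I.subschemeι ≫ (C ↘ (Spec (CommRingCat.of k))))
    (g : ℕ)
    (hconormal : Nonempty ((Scheme.Modules.pullback I.subschemeι).obj (ClSub.idealMod I) ≅
      (Scheme.Modules.pullback e.hom).obj (Twist.twistProjSpace 1 k (-((g : ℤ) + 1)))))
    [DCoh.HasRpush (C ↘ (Spec (CommRingCat.of k)))] (h : DCoh.RpushPreservesQCoh (C ↘ (Spec (CommRingCat.of k))))
    [DCoh.HasShriek (C ↘ (Spec (CommRingCat.of k))) h]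
    (OY : DCoh.DQCoh (Spec (CommRingCat.of k)))
    (hOY : Nonempty (OY.obj ≅ DCoh.inD (Spec (CommRingCat.of k)) (Coh.structureModule (Spec (CommRingCat.of k)))))
    (hω : PicF.IsInvertible (DCoh.dualizingMod (C ↘ (Spec (CommRingCat.of k))) h OY 1)) :
    Nonempty ((Scheme.Modules.pullback I.subschemeι).obj (DCoh.dualizingMod (C ↘ (Spec (CommRingCat.of k))) h OY 1) ≅
      (Scheme.Modules.pullback e.hom).obj (Twist.twistProjSpace 1 k ((g : ℤ) - 1))) := by
  let π := C ↘ Spec (CommRingCat.of k)
  let f := I.subschemeι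
  let X := I.subscheme
  obtain ⟨ec⟩ := hconormal
  letI : X.Over (Spec (CommRingCat.of k)) := ⟨f ≫ π⟩
  haveI : IsProper (X ↘ Spec (CommRingCat.of k)) := inferInstanceAs (IsProper (f ≫ π))
  haveI : IsLocallyNoetherian C := LocallyOfFiniteType.isLocallyNoetherian π
  haveI := Euler.isNoetherian_of_proper (X := X) k
  haveI : IsProper (CohB1.ProjSpace 1 k ↘ Spec (CommRingCat.of k)) := Chow.isProper_toSpec 1 k
  haveI : IsIntegral (CohB1.ProjSpace 1 k) := ProjDim.isIntegral_proj k 1
  haveI : Nonempty X := ⟨e.inv (Classical.arbitrary (CohB1.ProjSpace 1 k))⟩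
  haveI : IsIntegral X := isIntegral_of_isOpenImmersion e.hom
  have hd : topologicalKrullDim X = 1 :=
    ((IsHomeomorph.topologicalKrullDim_eq _ (Scheme.homeoOfIso e).isHomeomorph)).trans
      (CurveMult.P1Split.dim_P1 k)
  have hdC : topologicalKrullDim C ≤ ((1 : ℕ) : WithBot ℕ∞) := by
    have hrange : Set.range f = Set.univ := by
      rw [Scheme.IdealSheafData.range_subschemeι]
      refine Set.eq_univ_of_forall fun x => ?_
      obtain ⟨U, hx, -⟩ := BlowUp.exists_affine_mem_le (X := C) (W := ⊤) (x := x) trivial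
      refine (DivProd10.mem_support_iff_le hx).2 fun a ha => ?_
      refine Ideal.IsPrime.mem_of_pow_mem inferInstance 2 ?_
      have h : (I.ideal U) ^ 2 = ⊥ := by
        have := congrArg (fun J : C.IdealSheafData => J.ideal U) hI
        simpa using this
      have ha2 : a ^ 2 ∈ (I.ideal U) ^ 2 := Ideal.pow_mem_pow ha 2
      rw [h, Ideal.mem_bot] at ha2
      rw [ha2]
      exact Submodule.zero_mem _
    have := IsHomeomorph.topologicalKrullDim_eq f
      (f.isClosedEmbedding.isEmbedding.toHomeomorphOfSurjective (Set.range_eq_univ.1 hrange)).isHomeomorph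
    rw [← this, hd]
    exact le_rfl
  have hL : PicF.IsInvertible ((Scheme.Modules.pullback f).obj (ClSub.idealMod I)) :=
    RelProjK.isInvertible_of_iso ec (RelProjK.isInvertible_pullback _ (CMReg.isInvertible_twist _))
  haveI : Dual3.HasHomO f := OX.isLeftAdjoint_pushforward f
  have hker : f.ker = I := Scheme.IdealSheafData.ker_subschemeι I
  obtain ⟨eh⟩ := nonempty_homO_twist f I I hker (annihilator_eq_of_sq_zero I hI hL) hω
  obtain ⟨t⟩ := nonempty_pullback_tensor_of_killed f (killed_annihilator f I I hker (annihilator_eq_of_sq_zero I hI hL)) hω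
  haveI : DCoh.HasRpush (f ≫ π) := KInj.hasRightDerivedFunctor _
  let hX := rpushPreservesQCoh (f ≫ π)
  haveI : DCoh.HasShriek (f ≫ π) hX :=
    ((RightAdj22.aQAdj (f ≫ π)).ofNatIsoLeft (RightAdj22.rpushQIso (f ≫ π) hX).symm).isLeftAdjoint
  haveI : DCoh.HasRpush (X ↘ Spec (CommRingCat.of k)) := ‹DCoh.HasRpush (f ≫ π)›
  haveI : DCoh.HasShriek (X ↘ Spec (CommRingCat.of k)) hX := ‹DCoh.HasShriek (f ≫ π) hX›
  let Lω := (Scheme.Modules.pullback f).obj (DCoh.dualizingMod π h OY 1)
  have hLω : PicF.IsInvertible Lω := RelProjK.isInvertible_pullback _ hω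
  have hq : Coh.IsQCoh ((Dual3.homO f).obj (DCoh.dualizingMod π h OY 1)) :=
    OX.isQCoh_of_iso (eh ≪≫ t).symm
      (Euler.isCoh_of_isInvertible (Ample.isInvertible_tensorMod hL hLω)).1
  obtain ⟨a⟩ := nonempty_dualizingMod_iso_homO π f 1 hdC h hX OY hOY hq
  let ω := DCoh.dualizingMod (f ≫ π) hX OY 1
  have hdual : Curv2.euler k X ω = - Curv2.euler k X (Coh.structureModule X) := by
    haveI : ω.IsQuasicoherent := (CurveSerre11.isCoh_omega (X := X) hX OY hOY).1
    haveI := (HomSh.isCoh_structureModule X).1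
    rw [Euler.euler_eq_sub k hd.le, Euler.euler_eq_sub k hd.le]
    have h0 := CurveSerre11.finrank_HH_zero_omega (X := X) hX OY hOY hd.le
    have h1 := CurveSerre11.finrank_HH_one_omega (X := X) hX OY hOY hd.le
      (CurveSerre11.badSet_eq_empty_of_integral (X := X) hX OY hOY hd)
    change (Module.finrank k (Coh.HH X ω 0) : ℕ) = Module.finrank k (Coh.HH X (Coh.structureModule X) 1) at h0
    change (Module.finrank k (Coh.HH X ω 1) : ℕ) = Module.finrank k (Coh.HH X (Coh.structureModule X) 0) at h1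
    omega
  obtain ⟨d, ⟨ed⟩⟩ := ProjPic26.exists_iso_twist (R := k) (n := 1)
    (RelProjK.isInvertible_pullback e.inv hLω)
  let eL : Lω ≅ (Scheme.Modules.pullback e.hom).obj (Twist.twistProjSpace 1 k d) :=
    ((Scheme.Modules.pullbackId _).app _).symm ≪≫ (Scheme.Modules.pullbackCongr e.hom_inv_id.symm).app _ ≪≫
      ((Scheme.Modules.pullbackComp e.hom e.inv).app _).symm ≪≫ (Scheme.Modules.pullback e.hom).mapIso ed
  obtain ⟨p⟩ := Ample.nonempty_pullback_tensorMod e.hom
    (CMReg.isInvertible_twist (n := 1) (k := k) (-((g : ℤ) + 1))) (CMReg.isInvertible_twist d)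
  obtain ⟨q⟩ := CMReg.nonempty_twist_add (n := 1) (k := k) (rfl : -((g : ℤ) + 1) + d = -((g : ℤ) + 1) + d)
  let eω : ω ≅ (Scheme.Modules.pullback e.hom).obj (Twist.twistProjSpace 1 k (-((g : ℤ) + 1) + d)) :=
    a ≪≫ eh ≪≫ t ≪≫ PicGrp.tensorModIso ec eL ≪≫ p.symm ≪≫ (Scheme.Modules.pullback e.hom).mapIso q
  have hpull : ∀ M : (CohB1.ProjSpace 1 k).Modules, M.IsQuasicoherent →
      Curv2.euler k X ((Scheme.Modules.pullback e.hom).obj M) = Curv2.euler k (CohB1.ProjSpace 1 k) M := by
    intro M hM
    haveI := FittSheaf.isQuasicoherent_pullback e.hom M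
    rw [← Snapper.euler_pushforward e.hom he ((Scheme.Modules.pullback e.hom).obj M)]
    haveI := ClosedPush22.isIso_unit_of_killed e.hom M fun U b hb m => by
      rw [Scheme.Hom.ker_eq_bot_of_isIso] at hb
      rw [show b = 0 from hb, zero_smul]
    exact Euler.euler_of_iso k (asIso ((Scheme.Modules.pullbackPushforwardAdjunction e.hom).unit.app M)).symm
  have hO : Curv2.euler k X (Coh.structureModule X) = 1 := by
    obtain ⟨z⟩ := CMReg.nonempty_twist_zero (n := 1) (k := k)
    rw [Euler.euler_of_iso k ((Scheme.Modules.pullback e.hom).mapIso z ≪≫ OX.pullUnitIso e.hom).symm,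
      hpull _ (Euler.isCoh_of_isInvertible (CMReg.isInvertible_twist 0)).1, euler_twist_line]
    rfl
  haveI := Euler.isNoetherian_of_proper (X := CohB1.ProjSpace 1 k) k
  rw [hO, Euler.euler_of_iso k eω, hpull _ (Euler.isCoh_of_isInvertible (CMReg.isInvertible_twist _)).1,
    euler_twist_line] at hdual
  exact ⟨eL ≪≫ (Scheme.Modules.pullback e.hom).mapIso (eqToIso (congrArg (Twist.twistProjSpace 1 k) (by omega)))⟩

end GrothLib.FMAdj25
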