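import Groth.Agent.Lib.FMAdj25.RibbonSplit

/-! # Degrees of invertible modules on ribbons -/

set_option autoImplicit false
set_option maxHeartbeats 1000000
set_option linter.style.haveILetI false
set_option backward.isDefEq.respectTransparency false
universe u

open CategoryTheory CategoryTheory.Limits AlgebraicGeometry Opposite

attribute [local instance] HasDerivedCategory.standard

noncomputable section

namespace GrothLib.FMAdj25

variable {k : Type u} [Field k]

/-- The degree of an invertible module on a ribbon is twice its degree on the line. -/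
theorem deg_ribbon (C : Scheme.{u}) [C.Over (Spec (CommRingCat.of k))]
    [IsProper (C ↘ (Spec (CommRingCat.of k)))]
    (I : C.IdealSheafData) (hI : I ^ 2 = ⊥)
    (e : I.subscheme ≅ CohB1.ProjSpace 1 k)
    (he : e.hom ≫ CohB1.ProjSpace.toSpec 1 k = I.subschemeι ≫ (C ↘ (Spec (CommRingCat.of k))))
    (g : ℕ)
    (hconormal : Nonempty ((Scheme.Modules.pullback I.subschemeι).obj (ClSub.idealMod I) ≅
      (Scheme.Modules.pullback e.hom).obj (Twist.twistProjSpace 1 k (-((g : ℤ) + 1)))))
    (L : C.Modules) (hL : PicF.IsInvertible L) (n : ℤ)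
    (hLD : Nonempty ((Scheme.Modules.pullback I.subschemeι).obj L ≅
      (Scheme.Modules.pullback e.hom).obj (Twist.twistProjSpace 1 k n))) :
    Curv2.deg k C L 1 = 2 * n := by
  let f := I.subschemeι
  let X := I.subscheme
  obtain ⟨ec⟩ := hconormal
  obtain ⟨eL⟩ := hLD
  let P := Twist.twistProjSpace 1 k
  letI : X.Over (Spec (CommRingCat.of k)) := ⟨f ≫ C ↘ Spec (CommRingCat.of k)⟩
  haveI : IsProper (X ↘ Spec (CommRingCat.of k)) := inferInstanceAs (IsProper (f ≫ C ↘ Spec (CommRingCat.of k)))
  haveI := Euler.isNoetherian_of_proper (X := C) k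
  haveI : IsProper (CohB1.ProjSpace 1 k ↘ Spec (CommRingCat.of k)) := Chow.isProper_toSpec 1 k
  haveI := Euler.isNoetherian_of_proper (X := CohB1.ProjSpace 1 k) k
  have hI' : PicF.IsInvertible ((Scheme.Modules.pullback f).obj (ClSub.idealMod I)) :=
    RelProjK.isInvertible_of_iso ec (RelProjK.isInvertible_pullback _ (CMReg.isInvertible_twist _))
  have hpush : ∀ (M : X.Modules) (a : ℤ), (M ≅ (Scheme.Modules.pullback e.hom).obj (P a)) →
      Curv2.euler k C ((Scheme.Modules.pushforward f).obj M) = a + 1 := by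
    intro M a em
    haveI : (P a).IsQuasicoherent := (Euler.isCoh_of_isInvertible (CMReg.isInvertible_twist a)).1
    haveI := FittSheaf.isQuasicoherent_pullback e.hom (P a)
    haveI : M.IsQuasicoherent := QCoh.isQuasicoherent_of_iso em.symm
    haveI := ClosedPush22.isIso_unit_of_killed e.hom (P a) fun U b hb m => by
      rw [Scheme.Hom.ker_eq_bot_of_isIso] at hb
      rw [show b = 0 from hb, zero_smul]
    rw [Snapper.euler_pushforward (k := k) f rfl M, Euler.euler_of_iso k em,
      ← Snapper.euler_pushforward e.hom he ((Scheme.Modules.pullback e.hom).obj (P a)),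
      ← euler_twist_line (k := k) a]
    exact Euler.euler_of_iso k (asIso ((Scheme.Modules.pullbackPushforwardAdjunction e.hom).unit.app (P a))).symm
  have hχ : ∀ (M : C.Modules) (a : ℤ), PicF.IsInvertible M →
      ((Scheme.Modules.pullback f).obj M ≅ (Scheme.Modules.pullback e.hom).obj (P a)) →
      Curv2.euler k C M = (a + 1) + (-((g : ℤ) + 1) + a + 1) := by
    intro M a hM em
    obtain ⟨K, ι, w, hS, ⟨eK⟩⟩ := exists_restrict_sequence I hI hI' hM
    obtain ⟨p⟩ := Ample.nonempty_pullback_tensorMod e.hom
      (CMReg.isInvertible_twist (n := 1) (k := k) (-((g : ℤ) + 1))) (CMReg.isInvertible_twist a)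
    obtain ⟨q⟩ := CMReg.nonempty_twist_add (n := 1) (k := k) (show -((g : ℤ) + 1) + a = -((g : ℤ) + 1) + a from rfl)
    let em' := PicGrp.tensorModIso ec em ≪≫ p.symm ≪≫ (Scheme.Modules.pullback e.hom).mapIso q
    have hMc := Euler.isCoh_of_isInvertible hM
    have hQ : Coh.IsCoh ((Scheme.Modules.pushforward f).obj ((Scheme.Modules.pullback f).obj M)) :=
      K0Sub.isCoh_push f (Euler.isCoh_of_isInvertible (RelProjK.isInvertible_pullback f hM))
    have hK : Coh.IsCoh K := QCoh.isCoh_of_iso eK.symm (K0Sub.isCoh_push f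
      (Euler.isCoh_of_isInvertible (Ample.isInvertible_tensorMod hI' (RelProjK.isInvertible_pullback f hM))))
    have h1 := Euler.euler_additive k hS hK hMc hQ
    dsimp only at h1
    have h2 := hpush _ _ em
    have h3 : Curv2.euler k C K = _ := (Euler.euler_of_iso k eK).trans (hpush _ _ em')
    exact h1.trans ((congrArg₂ (· + ·) h3 h2).trans (by ring))
  obtain ⟨z⟩ := CMReg.nonempty_twist_zero (n := 1) (k := k)
  rw [Curv2.deg, Nat.cast_one, one_mul, hχ L n hL eL, hχ (Coh.structureModule C) 0 Euler.isInvertible_structure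
    (OX.pullUnitIso f ≪≫ (OX.pullUnitIso e.hom).symm ≪≫ (Scheme.Modules.pullback e.hom).mapIso z.symm)]
  ring

end GrothLib.FMAdj25
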