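import Groth.Agent.Lib.FMAdj25.Ribbon
import Groth.Agent.Lib.CMReg.ProjSpace
import Groth.Agent.Lib.CMReg.StructureMain
import Groth.Agent.Lib.Cohom.LinearLES
import Groth.Agent.Lib.UnifVanish7.Spanned
import Groth.Agent.Lib.CurveMult.GGCurve
import Groth.Agent.Lib.GGDesc10.Main
import Groth.Agent.Lib.C1.Fibre

/-! # The canonical series of a ribbon has no base points -/

set_option autoImplicit false
set_option maxHeartbeats 1000000
set_option linter.style.haveILetI false
set_option backward.isDefEq.respectTransparency false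
universe u

open CategoryTheory CategoryTheory.Limits AlgebraicGeometry Opposite

attribute [local instance] HasDerivedCategory.standard

noncomputable section

namespace GrothLib.FMAdj25

open GrothLib.Cohom GrothLib.QCoh

/-- Direct images along closed immersions preserve being spanned by sections. -/
theorem stalkSpanned_push {X C : Scheme.{u}} (f : X ⟶ C) [IsClosedImmersion f] (hsurj : Function.Surjective f)
    {L : X.Modules} (h : UnifVanish7.StalkSpanned L) :
    UnifVanish7.StalkSpanned ((Scheme.Modules.pushforward f).obj L) := by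
  intro c
  obtain ⟨x, rfl⟩ := hsurj c
  have hb := QCoh.pushStalkHom_bijective f x L f.isClosedEmbedding.isInducing
  let P := (Scheme.Modules.pushforward f).obj L
  refine eq_top_iff.2 fun v _ => ?_
  have key : ∀ w ∈ UnifVanish7.spanGlobal L x, ∃ u ∈ UnifVanish7.spanGlobal P (f x),
      ((QCoh.pushStalkHom f x L).hom u : L.presheaf.stalk x) = w := by
    intro w hw
    induction hw using Submodule.span_induction with
    | mem w hw =>
      obtain ⟨s, rfl⟩ := hw
      exact ⟨_, Submodule.subset_span ⟨s, rfl⟩, QCoh.pushStalkHom_germ f x L ⊤ trivial s⟩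
    | zero => exact ⟨0, Submodule.zero_mem _, (QCoh.pushStalkHom f x L).hom.map_zero⟩
    | add a b _ _ ha hb =>
      obtain ⟨a', ha, ha'⟩ := ha
      obtain ⟨b', hb, hb'⟩ := hb
      exact ⟨a' + b', Submodule.add_mem _ ha hb,
        ((QCoh.pushStalkHom f x L).hom.map_add a' b').trans (congrArg₂ (· + ·) ha' hb')⟩
    | smul r a _ ha =>
      obtain ⟨a', ha, ha'⟩ := ha
      obtain ⟨r', rfl⟩ := f.stalkMap_surjective x r
      refine ⟨r' • a', Submodule.smul_mem _ _ ha, ?_⟩
      refine ((QCoh.pushStalkHom f x L).hom.map_smul r' a').trans ?_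
      show (f.stalkMap x).hom r' • ((QCoh.pushStalkHom f x L).hom a' : L.presheaf.stalk x) = _
      rw [ha']
  obtain ⟨u, hu, hu'⟩ := key ((QCoh.pushStalkHom f x L).hom v) (h x ▸ Submodule.mem_top)
  exact hb.1 hu' ▸ hu

theorem not_isZero_of_isInvertible {X : Scheme.{u}} [Nonempty X] {L : X.Modules} (hL : PicF.IsInvertible L) :
    ¬ IsZero L := fun hz => by
  obtain ⟨x⟩ := ‹Nonempty X›
  obtain ⟨V, e, hx, he⟩ := InvExt.exists_gen_nhd hL x
  haveI : Subsingleton Γ(L, V) := ⟨fun a b => by
    have h := fun c => congrArg (fun t : L ⟶ L => t.app V c) (hz.eq_of_src (𝟙 L) 0)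
    exact (show a = 0 from h a).trans (show b = 0 from h b).symm⟩
  have h1 : (1 : Γ(X, V)) = 0 := he.smul_left_injective le_rfl (Subsingleton.elim _ _)
  have h2 := congrArg (X.presheaf.germ V x hx).hom h1
  rw [map_one, map_zero] at h2
  exact one_ne_zero h2

/-- Twists of nonnegative degree on the line are spanned. -/
theorem isGloballyGenerated_twist_nonneg (k : Type u) [Field k] (n : ℕ) (b : ℤ) (hb : 0 ≤ b) :
    Curv2.IsGloballyGenerated (Twist.twistProjSpace n k b) := by
  have h := CMReg.spanned_of_regular (F := Coh.structureModule (CohB1.ProjSpace n k))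
    (CMReg.isCoh_structure (X := CohB1.ProjSpace n k)) 0
    (fun i hi _ => by rw [zero_sub]; exact CMReg.structure_regular n i hi) b hb
  exact Ample.isGloballyGenerated_of_local _ (h.of_iso (CMReg.nonempty_Ft_structure b).some)

variable {k : Type u} [Field k]

set_option maxHeartbeats 2000000 in
set_option synthInstance.maxHeartbeats 200000 in
/-- The dualizing module of a ribbon of positive genus is globally generated. -/
theorem isGloballyGenerated_dualizingMod_ribbon (C : Scheme.{u}) [C.Over (Spec (CommRingCat.of k))]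
    [IsProper (C ↘ (Spec (CommRingCat.of k)))]
    (I : C.IdealSheafData) (hI : I ^ 2 = ⊥)
    (e : I.subscheme ≅ CohB1.ProjSpace 1 k)
    (he : e.hom ≫ CohB1.ProjSpace.toSpec 1 k = I.subschemeι ≫ (C ↘ (Spec (CommRingCat.of k))))
    (g : ℕ) (hg : 1 ≤ g)
    (hconormal : Nonempty ((Scheme.Modules.pullback I.subschemeι).obj (ClSub.idealMod I) ≅
      (Scheme.Modules.pullback e.hom).obj (Twist.twistProjSpace 1 k (-((g : ℤ) + 1)))))
    [DCoh.HasRpush (C ↘ (Spec (CommRingCat.of k)))] (h : DCoh.RpushPreservesQCoh (C ↘ (Spec (CommRingCat.of k))))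
    [DCoh.HasShriek (C ↘ (Spec (CommRingCat.of k))) h]
    (OY : DCoh.DQCoh (Spec (CommRingCat.of k)))
    (hOY : Nonempty (OY.obj ≅ DCoh.inD (Spec (CommRingCat.of k)) (Coh.structureModule (Spec (CommRingCat.of k)))))
    (hω : PicF.IsInvertible (DCoh.dualizingMod (C ↘ (Spec (CommRingCat.of k))) h OY 1)) :
    Curv2.IsGloballyGenerated (DCoh.dualizingMod (C ↘ (Spec (CommRingCat.of k))) h OY 1) := by
  let π := C ↘ Spec (CommRingCat.of k)
  let f := I.subschemeι
  let X := I.subscheme
  let ω := DCoh.dualizingMod π h OY 1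
  obtain ⟨eL⟩ := nonempty_restrict_dualizingMod C I hI e he g hconormal h OY hOY hω
  obtain ⟨ec⟩ := hconormal
  letI : X.Over (Spec (CommRingCat.of k)) := ⟨f ≫ π⟩
  haveI : IsProper (X ↘ Spec (CommRingCat.of k)) := inferInstanceAs (IsProper (f ≫ π))
  haveI := Euler.isNoetherian_of_proper (X := C) k
  haveI : IsProper (CohB1.ProjSpace 1 k ↘ Spec (CommRingCat.of k)) := Chow.isProper_toSpec 1 k
  haveI := Euler.isNoetherian_of_proper (X := CohB1.ProjSpace 1 k) k
  haveI : IsIntegral (CohB1.ProjSpace 1 k) := ProjDim.isIntegral_proj k 1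
  haveI : Nonempty C := ⟨f (e.inv (Classical.arbitrary (CohB1.ProjSpace 1 k)))⟩
  have hL : PicF.IsInvertible ((Scheme.Modules.pullback f).obj (ClSub.idealMod I)) :=
    RelProjK.isInvertible_of_iso ec (RelProjK.isInvertible_pullback _ (CMReg.isInvertible_twist _))
  have hkill := killed_annihilator f I I (Scheme.IdealSheafData.ker_subschemeι I) (annihilator_eq_of_sq_zero I hI hL)
  have hfsurj : Function.Surjective f := by
    refine Set.range_eq_univ.1 ?_
    rw [Scheme.IdealSheafData.range_subschemeι]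
    refine Set.eq_univ_of_forall fun x => ?_
    obtain ⟨U, hx, -⟩ := BlowUp.exists_affine_mem_le (X := C) (W := ⊤) (x := x) trivial
    refine (DivProd10.mem_support_iff_le hx).2 fun a ha => ?_
    refine Ideal.IsPrime.mem_of_pow_mem inferInstance 2 ?_
    have h : (I.ideal U) ^ 2 = ⊥ := by
      have := congrArg (fun J : C.IdealSheafData => J.ideal U) hI
      simpa using this
    have ha2 : a ^ 2 ∈ (I.ideal U) ^ 2 := Ideal.pow_mem_pow ha 2
    rw [h, Ideal.mem_bot] at ha2
    rw [ha2]
    exact Submodule.zero_mem _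
  have hd : topologicalKrullDim C ≤ 1 := by
    have hh := IsHomeomorph.topologicalKrullDim_eq f
      (f.isClosedEmbedding.isEmbedding.toHomeomorphOfSurjective hfsurj).isHomeomorph
    rw [← hh, IsHomeomorph.topologicalKrullDim_eq _ (Scheme.homeoOfIso e).isHomeomorph,
      CurveMult.P1Split.dim_P1 k]
  have hlf := Euler.isFinLocFree_of_isInvertible hω
  haveI := Euler.epi_toSubscheme I
  have hseq : (ShortComplex.mk (ClSub.idealModι I) (ClSub.toSubscheme I) (kernel.condition _)).ShortExact :=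
    { exact := ShortComplex.exact_of_f_is_kernel _ (kernelIsKernel _)
      mono_f := inferInstanceAs (Mono (kernel.ι _)) }
  let S := (ShortComplex.mk (ClSub.idealModι I) (ClSub.toSubscheme I) (kernel.condition _)).map (Euler.tF ω)
  have hS : S.ShortExact := OX.tensor_map_shortExact (OX.flat_of_isFinLocFree hlf) hseq
  let P := Twist.twistProjSpace 1 k
  have hHH : ∀ (M : X.Modules) (a : ℤ) (i : ℕ), (M ≅ (Scheme.Modules.pullback e.hom).obj (P a)) →
      Nonempty (Coh.HH C ((Scheme.Modules.pushforward f).obj M) i ≃ₗ[k] Coh.HH (CohB1.ProjSpace 1 k) (P a) i) := by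
    intro M a i em
    have hq : (P a).IsQuasicoherent := (Euler.isCoh_of_isInvertible (CMReg.isInvertible_twist a)).1
    haveI := hq
    haveI := FittSheaf.isQuasicoherent_pullback e.hom (P a)
    haveI : M.IsQuasicoherent := QCoh.isQuasicoherent_of_iso em.symm
    obtain ⟨a₁⟩ := Snapper.nonempty_HH_linearEquiv_pushforward (A := k) f rfl M i
    obtain ⟨a₂⟩ := Snapper.nonempty_HH_linearEquiv_pushforward (A := k) e.hom he
      ((Scheme.Modules.pullback e.hom).obj (P a)) i
    haveI := ClosedPush22.isIso_unit_of_killed e.hom (P a) fun U b hb m => by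
      rw [Scheme.Hom.ker_eq_bot_of_isIso] at hb
      rw [show b = 0 from hb, zero_smul]
    exact ⟨a₁.symm ≪≫ₗ Euler.hhEquiv (A := k) em i ≪≫ₗ a₂ ≪≫ₗ
      Euler.hhEquiv (A := k) (asIso ((Scheme.Modules.pullbackPushforwardAdjunction e.hom).unit.app (P a))).symm i⟩
  -- the kernel
  obtain ⟨t⟩ := nonempty_pullback_tensor_of_killed f hkill hω
  haveI := ClosedPush22.isIso_unit_of_killed f S.X₁ (killed_tensor f hkill hω)
  obtain ⟨p⟩ := Ample.nonempty_pullback_tensorMod e.hom
    (CMReg.isInvertible_twist (n := 1) (k := k) (-((g : ℤ) + 1))) (CMReg.isInvertible_twist ((g : ℤ) - 1))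
  obtain ⟨q⟩ := CMReg.nonempty_twist_add (n := 1) (k := k) (show -((g : ℤ) + 1) + ((g : ℤ) - 1) = -2 by ring)
  let em₁ : (Scheme.Modules.pullback f).obj S.X₁ ≅ (Scheme.Modules.pullback e.hom).obj (P (-2)) :=
    t ≪≫ PicGrp.tensorModIso ec eL ≪≫ p.symm ≪≫ (Scheme.Modules.pullback e.hom).mapIso q
  obtain ⟨h₁⟩ := hHH _ (-2) 1 em₁
  let h₁' : Coh.HH C S.X₁ 1 ≃ₗ[k] Coh.HH (CohB1.ProjSpace 1 k) (P (-2)) 1 :=
    Euler.hhEquiv (A := k) (asIso ((Scheme.Modules.pullbackPushforwardAdjunction f).unit.app S.X₁)) 1 ≪≫ₗ h₁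
  have hfr : Module.finrank k (Coh.HH C S.X₁ 1) = 1 := by
    rw [h₁'.finrank_eq]
    haveI : (P (-2)).IsQuasicoherent := (Euler.isCoh_of_isInvertible (CMReg.isInvertible_twist (-2))).1
    have hχ : Curv2.euler k (CohB1.ProjSpace 1 k) (P (-2)) = -2 + 1 := euler_twist_line (-2)
    rw [Euler.euler_eq_sub k (CurveMult.P1Split.dim_P1 k).le] at hχ
    haveI : Subsingleton (Coh.HH (CohB1.ProjSpace 1 k) (P (-2)) 0) :=
      ProjCohom.subsingleton_HH (n := 1) (R := k) (d := (-2 : ℤ)) (q := 0) (by omega) (by omega)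
    have z : Module.finrank k (Coh.HH (CohB1.ProjSpace 1 k) (P (-2)) 0) = 0 := Module.finrank_zero_of_subsingleton
    rw [z] at hχ
    omega
  -- the quotient
  obtain ⟨pp⟩ := Regularity.nonempty_push_tensor f hlf (Coh.structureModule X) (Iso.refl _)
  let e₃ : S.X₃ ≅ (Scheme.Modules.pushforward f).obj ((Scheme.Modules.pullback f).obj ω) :=
    pp.symm ≪≫ (Scheme.Modules.pushforward f).mapIso (OX.tensorUnitLeftIso _)
  obtain ⟨h₃⟩ := hHH _ ((g : ℤ) - 1) 1 eL
  let h₃' : Coh.HH C S.X₃ 1 ≃ₗ[k] Coh.HH (CohB1.ProjSpace 1 k) (P ((g : ℤ) - 1)) 1 :=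
    Euler.hhEquiv (A := k) e₃ 1 ≪≫ₗ h₃
  haveI : Subsingleton (Coh.HH C S.X₃ 1) :=
    haveI := ProjCohom.subsingleton_HH (n := 1) (R := k) (d := ((g : ℤ) - 1)) (q := 1) (by omega) (by omega)
    h₃'.toEquiv.subsingleton
  haveI : Epi S.g := hS.epi_g
  let e₂ : S.X₂ ≅ ω := OX.tensorUnitLeftIso ω
  haveI : Nontrivial (Coh.HH C S.X₂ 1) := by
    haveI : Nontrivial (Coh.HH C ω 1) := by
      refine not_subsingleton_iff_nontrivial.1 fun hs => not_isZero_of_isInvertible hω ?_
      exact (IsZero.iff_id_eq_zero _).2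
        ((CurveSerre11.subsingleton_HH_one_iff h OY hOY hd (Euler.isCoh_of_isInvertible hω).1).1 hs (𝟙 ω))
    exact (Euler.hhEquiv (A := k) e₂ 1).toEquiv.nontrivial
  have hsf : Function.Surjective (hhMap k S.f 1) := fun y =>
    ((exact₂ (A := k) hS 1) y).1 (Subsingleton.elim _ _)
  have hif : Function.Injective (hhMap k S.f 1) := by
    haveI : FiniteDimensional k (Coh.HH C S.X₁ 1) := Euler.finiteDimensional_HH k (Euler.isCoh_tF (RegPow.isCoh_idealMod I) hlf) 1
    haveI : FiniteDimensional k (Coh.HH C S.X₂ 1) := Module.Finite.of_surjective (hhMap k S.f 1) hsf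
    have h1 := LinearMap.finrank_range_add_finrank_ker (hhMap k S.f 1)
    rw [LinearMap.range_eq_top.2 hsf, finrank_top, hfr] at h1
    have h2 := Module.finrank_pos (R := k) (M := Coh.HH C S.X₂ 1)
    exact LinearMap.ker_eq_bot.1 (Submodule.finrank_eq_zero.1 (by omega))
  have hH0 : Function.Surjective (hhMap k S.g 0) := fun y => by
    refine ((exact₃ (A := k) hS 0) y).1 (hif ?_)
    rw [map_zero]
    exact ((exact₁ (A := k) hS 0) _).2 ⟨y, rfl⟩
  have hs : Function.Surjective (S.g.app ⊤) := fun t => by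
    obtain ⟨y, hy⟩ := hH0 ((ProjCoh.H0top _).symm t)
    refine ⟨ProjCoh.H0top _ y, ?_⟩
    have h1 := congrArg (ProjCoh.H0top _) hy
    rw [AddEquiv.apply_symm_apply] at h1
    exact (ProjCoh.H0top_map ((QCoh.toAbFun _).map S.g) y).symm.trans h1
  have hQ : UnifVanish7.StalkSpanned S.X₃ := by
    have hgg : Curv2.IsGloballyGenerated ((Scheme.Modules.pullback f).obj ω) :=
      Ample.isGloballyGenerated_of_iso eL.symm
        (GGDesc10.isGloballyGenerated_pullback e.hom (isGloballyGenerated_twist_nonneg k 1 _ (by omega)))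
    exact (stalkSpanned_push f hfsurj (CurveMult.stalkSpanned_of_isGloballyGenerated hgg)).of_epi e₃.inv
  refine Ample.isGloballyGenerated_of_iso e₂ (UnifVanish7.StalkSpanned.isGloballyGenerated ?_)
  intro c
  obtain ⟨v, hv⟩ := C1.exists_gen (RelProjK.isInvertible_of_iso e₂ hω) c
  have hgen : ∀ m : S.X₂.presheaf.stalk c, ∃ r : C.presheaf.stalk c, r • v = m := fun m => hv.2 m
  have hle : (UnifVanish7.spanGlobal S.X₂ c).map (stalkLin S.g c) = ⊤ := by
    rw [eq_top_iff, ← hQ c, Submodule.span_le]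
    rintro _ ⟨t, rfl⟩
    obtain ⟨s, rfl⟩ := hs t
    exact ⟨_, Submodule.subset_span ⟨s, rfl⟩, QCoh.stalkLin_germ S.g (U := ⊤) trivial s⟩
  obtain ⟨u, hu, hu'⟩ := (hle.symm ▸ Submodule.mem_top : stalkLin S.g c v ∈ _)
  obtain ⟨r, hr⟩ := hgen (v - u)
  have hru : IsUnit (1 - r) := by
    refine (IsLocalRing.isUnit_or_isUnit_one_sub_self r).resolve_left fun hur => ?_
    have h0 : stalkLin S.g c v = 0 := by
      have : stalkLin S.g c (r • v) = 0 := by rw [hr, map_sub, hu', sub_self]
      rw [map_smul] at this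
      exact hur.smul_eq_zero.1 this
    -- the fibre of the quotient does not vanish
    obtain ⟨x, rfl⟩ := hfsurj c
    haveI : Subsingleton (S.X₃.presheaf.stalk (f x)) := subsingleton_of_forall_eq 0 fun m => by
      obtain ⟨w, rfl⟩ := QCoh.stalkLin_surjective S.g (f x) m
      obtain ⟨b, rfl⟩ := hgen w
      rw [map_smul, h0, smul_zero]
    let Lω := (Scheme.Modules.pullback f).obj ω
    haveI : Subsingleton (((Scheme.Modules.pushforward f).obj Lω).presheaf.stalk (f x)) :=
      subsingleton_of_forall_eq 0 fun m => by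
        obtain ⟨w, rfl⟩ := QCoh.stalkLin_surjective e₃.hom (f x) m
        rw [Subsingleton.elim w 0, map_zero]
    obtain ⟨v', hv'⟩ := C1.exists_gen (RelProjK.isInvertible_pullback f hω) x
    obtain ⟨w, hw⟩ := (QCoh.pushStalkHom_bijective f x Lω f.isClosedEmbedding.isInducing).2 v'
    have hw0 : v' = 0 := by
      rw [← hw, show w = 0 from @Subsingleton.elim (((Scheme.Modules.pushforward f).obj Lω).presheaf.stalk (f x)) _ _ _]
      exact (QCoh.pushStalkHom f x Lω).hom.map_zero
    exact one_ne_zero (hv'.1 (show (1 : X.presheaf.stalk x) • v' = (0 : X.presheaf.stalk x) • v' by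
      rw [hw0, smul_zero, smul_zero]))
  have huv : (1 - r) • v = u := by rw [sub_smul, one_smul, hr, sub_sub_cancel]
  refine eq_top_iff.2 fun m _ => ?_
  obtain ⟨b, rfl⟩ := hgen m
  obtain ⟨u', hu'⟩ := hru
  have hv' : v = (↑u'⁻¹ : C.presheaf.stalk c) • u := by rw [← huv, ← hu', smul_smul, Units.inv_mul, one_smul]
  rw [hv', smul_smul]
  exact Submodule.smul_mem _ _ hu

end GrothLib.FMAdj25
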