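import Groth.Agent.Lib.FMAdj25.RibbonSplit
import Groth.Agent.Lib.FMAdj25.RibbonGG
import Groth.Agent.Lib.PicH1.Thick
import Groth.Agent.Lib.PicH1.IdealCoh

/-! # The Picard group of a ribbon on the line -/

set_option autoImplicit false
set_option maxHeartbeats 1000000
set_option linter.style.haveILetI false
set_option backward.isDefEq.respectTransparency false
universe u

open CategoryTheory CategoryTheory.Limits AlgebraicGeometry Opposite

noncomputable section

namespace GrothLib.FMAdj25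

variable {k : Type u} [Field k]

/-- An abelian group with a subgroup whose quotient is infinite cyclic. -/
theorem exists_addEquiv_prod_int {A B : Type*} [AddCommGroup A] [AddCommGroup B] (a : A →+ B)
    (ha : Function.Injective a) (q : B →+ ℤ) (hq : Function.Surjective q)
    (hex : ∀ b, q b = 0 ↔ ∃ x, a x = b) : ∃ φ : B ≃+ A × ℤ, ∀ b, (φ b).2 = q b := by
  obtain ⟨p, hp⟩ := hq 1
  let G : A × ℤ →+ B := a.coprod (zmultiplesHom B p)
  have hG : ∀ z : A × ℤ, q (G z) = z.2 := fun z => by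
    have h0 : q (a z.1) = 0 := (hex _).2 ⟨z.1, rfl⟩
    simp [G, h0, hp]
  have hbij : Function.Bijective G := by
    refine ⟨(injective_iff_map_eq_zero G).2 fun z hz => ?_, fun b => ?_⟩
    · have h2 : z.2 = 0 := by rw [← hG z, hz, map_zero]
      have h1 : a z.1 = 0 := by
        have := hz
        simpa [G, h2] using this
      exact Prod.ext (ha (h1.trans (map_zero a).symm)) h2
    · obtain ⟨x, hx⟩ := (hex (b - q b • p)).1 (by rw [map_sub, map_zsmul, hp]; simp)
      exact ⟨(x, q b), by simp [G, hx]⟩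
  refine ⟨(AddEquiv.ofBijective G hbij).symm, fun b => ?_⟩
  obtain ⟨z, rfl⟩ := hbij.2 b
  rw [hG]
  exact congrArg Prod.snd ((AddEquiv.ofBijective G hbij).symm_apply_apply z)

/-- The twists on a scheme isomorphic to the line, in the Picard group. -/
def lineTwist {D : Scheme.{u}} (e : D ≅ CohB1.ProjSpace 1 k) (n : ℤ) : Cube.Pic D :=
  Cube.clsMod (RelProjK.isInvertible_pullback e.hom (CMReg.isInvertible_twist (n := 1) (k := k) n))

theorem lineTwist_add {D : Scheme.{u}} (e : D ≅ CohB1.ProjSpace 1 k) (m n : ℤ) :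
    lineTwist e (m + n) = lineTwist e m * lineTwist e n := by
  unfold lineTwist
  rw [← Cube.clsMod_tensorMod]
  refine (Cube.clsMod_eq_iff _ _).2 ?_
  obtain ⟨p⟩ := Ample.nonempty_pullback_tensorMod e.hom
    (CMReg.isInvertible_twist (n := 1) (k := k) m) (CMReg.isInvertible_twist n)
  obtain ⟨q⟩ := CMReg.nonempty_twist_add (n := 1) (k := k) (show m + n = m + n from rfl)
  exact ⟨(Scheme.Modules.pullback e.hom).mapIso q.symm ≪≫ p⟩

theorem lineTwist_bijective {D : Scheme.{u}} (e : D ≅ CohB1.ProjSpace 1 k) :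
    Function.Bijective (lineTwist e) := by
  refine ⟨fun m n hmn => ?_, fun p => ?_⟩
  · obtain ⟨i⟩ := (Cube.clsMod_eq_iff _ _).1 hmn
    let j := (Scheme.Modules.pullback e.inv).mapIso i
    let c : ∀ M : (CohB1.ProjSpace 1 k).Modules,
        (Scheme.Modules.pullback e.inv).obj ((Scheme.Modules.pullback e.hom).obj M) ≅ M := fun M =>
      (Scheme.Modules.pullbackComp e.inv e.hom).app M ≪≫
        eqToIso (by rw [e.inv_hom_id]) ≪≫ (Scheme.Modules.pullbackId _).app M
    exact ProjPic26.eq_of_twist_iso (n := 1) le_rfl ((c _).symm ≪≫ j ≪≫ c _)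
  · obtain ⟨c, rfl⟩ : ∃ c, Cube.cls c = p := Quotient.exists_rep p
    have hL : PicF.IsInvertible (c.twist 1) := c.isInvertible_twist 1
    obtain ⟨d, ⟨ed⟩⟩ := ProjPic26.exists_iso_twist (R := k) (n := 1)
      (RelProjK.isInvertible_pullback e.inv hL)
    refine ⟨d, (Cube.clsMod_eq _ ?_)⟩
    exact (Scheme.Modules.pullback e.hom).mapIso ed.symm ≪≫
      (Scheme.Modules.pullbackComp e.hom e.inv).app _ ≪≫
        eqToIso (congrArg (fun h : D ⟶ D => (Scheme.Modules.pullback h).obj (c.twist 1)) e.hom_inv_id) ≪≫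
          (Scheme.Modules.pullbackId _).app (c.twist 1)

/-- The Picard group of a ribbon on the line. -/
theorem pic_ribbon (C : Scheme.{u}) [C.Over (Spec (CommRingCat.of k))]
    [IsProper (C ↘ (Spec (CommRingCat.of k)))]
    (I : C.IdealSheafData) (hI : I ^ 2 = ⊥)
    (e : I.subscheme ≅ CohB1.ProjSpace 1 k)
    (he : e.hom ≫ CohB1.ProjSpace.toSpec 1 k = I.subschemeι ≫ (C ↘ (Spec (CommRingCat.of k))))
    (g : ℕ)
    (hconormal : Nonempty ((Scheme.Modules.pullback I.subschemeι).obj (ClSub.idealMod I) ≅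
      (Scheme.Modules.pullback e.hom).obj (Twist.twistProjSpace 1 k (-((g : ℤ) + 1)))))
    [PicGrp.Law C] :
    Module.finrank k (Coh.HH C (ClSub.idealMod I) 1) = g ∧
    ∃ φ : Additive (PicLoc.PicSet C) ≃+ Coh.HH C (ClSub.idealMod I) 1 × ℤ,
      ∀ (L : C.Modules) (hL : PicF.IsInvertible L),
        (φ (Additive.ofMul (PicGrp.cls L hL))).2 =
          @Curv2.deg k _ I.subscheme ⟨I.subschemeι ≫ (C ↘ (Spec (CommRingCat.of k)))⟩
            ((Scheme.Modules.pullback I.subschemeι).obj L) 1 := by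
  classical
  let f := I.subschemeι
  let X := I.subscheme
  let P := Twist.twistProjSpace 1 k
  obtain ⟨ec⟩ := hconormal
  letI : X.Over (Spec (CommRingCat.of k)) := ⟨f ≫ C ↘ Spec (CommRingCat.of k)⟩
  haveI : IsProper (X ↘ Spec (CommRingCat.of k)) := inferInstanceAs (IsProper (f ≫ C ↘ Spec (CommRingCat.of k)))
  haveI := Euler.isNoetherian_of_proper (X := C) k
  haveI := Euler.isNoetherian_of_proper (X := X) k
  haveI : IsProper (CohB1.ProjSpace 1 k ↘ Spec (CommRingCat.of k)) := Chow.isProper_toSpec 1 k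
  haveI := Euler.isNoetherian_of_proper (X := CohB1.ProjSpace 1 k) k
  have hII : I * I = ⊥ := by rw [← pow_two, hI]
  haveI hq : ∀ a : ℤ, ((Scheme.Modules.pullback e.hom).obj (P a)).IsQuasicoherent := fun a => by
    haveI : (P a).IsQuasicoherent := (Euler.isCoh_of_isInvertible (CMReg.isInvertible_twist a)).1
    exact FittSheaf.isQuasicoherent_pullback e.hom (P a)
  have hline : ∀ (a : ℤ) (i : ℕ),
      Nonempty (Coh.HH X ((Scheme.Modules.pullback e.hom).obj (P a)) i ≃ₗ[k] Coh.HH (CohB1.ProjSpace 1 k) (P a) i) := by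
    intro a i
    haveI : (P a).IsQuasicoherent := (Euler.isCoh_of_isInvertible (CMReg.isInvertible_twist a)).1
    obtain ⟨a₂⟩ := Snapper.nonempty_HH_linearEquiv_pushforward (A := k) e.hom he
      ((Scheme.Modules.pullback e.hom).obj (P a)) i
    haveI := ClosedPush22.isIso_unit_of_killed e.hom (P a) fun U b hb m => by
      rw [Scheme.Hom.ker_eq_bot_of_isIso] at hb
      rw [show b = 0 from hb, zero_smul]
    exact ⟨a₂ ≪≫ₗ
      Euler.hhEquiv (A := k) (asIso ((Scheme.Modules.pullbackPushforwardAdjunction e.hom).unit.app (P a))).symm i⟩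
  have hker : ∀ i : ℕ, Nonempty (Coh.HH C (ClSub.idealMod I) i ≃ₗ[k]
      Coh.HH (CohB1.ProjSpace 1 k) (P (-((g : ℤ) + 1))) i) := by
    intro i
    haveI := OmegaAff.isQuasicoherent_idealMod I
    haveI := QCoh.isIso_unit_of_killed f (ClSub.idealMod I) (PicH1.killedByIdeal_idealMod I hII)
    haveI := FittSheaf.isQuasicoherent_pullback f (ClSub.idealMod I)
    obtain ⟨a₁⟩ := Snapper.nonempty_HH_linearEquiv_pushforward (A := k) f rfl
      ((Scheme.Modules.pullback f).obj (ClSub.idealMod I)) i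
    obtain ⟨a₂⟩ := hline (-((g : ℤ) + 1)) i
    exact ⟨Euler.hhEquiv (A := k) (asIso ((Scheme.Modules.pullbackPushforwardAdjunction f).unit.app (ClSub.idealMod I))) i
      ≪≫ₗ a₁.symm ≪≫ₗ Euler.hhEquiv (A := k) ec i ≪≫ₗ a₂⟩
  refine ⟨?_, ?_⟩
  · obtain ⟨a⟩ := hker 1
    rw [a.finrank_eq]
    haveI : (P (-((g : ℤ) + 1))).IsQuasicoherent := (Euler.isCoh_of_isInvertible (CMReg.isInvertible_twist _)).1
    have hχ : Curv2.euler k (CohB1.ProjSpace 1 k) (P (-((g : ℤ) + 1))) = -((g : ℤ) + 1) + 1 := euler_twist_line _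
    rw [Euler.euler_eq_sub k (CurveMult.P1Split.dim_P1 k).le] at hχ
    haveI : Subsingleton (Coh.HH (CohB1.ProjSpace 1 k) (P (-((g : ℤ) + 1))) 0) :=
      ProjCohom.subsingleton_HH (n := 1) (R := k) (q := 0) (by omega) (by omega)
    have z : Module.finrank k (Coh.HH (CohB1.ProjSpace 1 k) (P (-((g : ℤ) + 1))) 0) = 0 :=
      Module.finrank_zero_of_subsingleton
    rw [z] at hχ
    omega
  have hc : UnitsThick26.IsSqZero f := PicH1.isSqZero_subschemeι I hII
  haveI h2 : Subsingleton (Sheaf.H.{u} (Coh.toAb (UnitsThick26.kerMod f)) 2) := by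
    obtain ⟨a⟩ := hker 2
    haveI := ProjCohom.subsingleton_HH (n := 1) (R := k) (d := -((g : ℤ) + 1)) (q := 2) (by omega) (by omega)
    exact a.toEquiv.subsingleton
  -- the connecting map on units vanishes
  have h0 : ∀ v, PicH1.conn0 hc v = 1 := fun v => by
    have hv : v ∈ (Units.map f.appTop.hom.toMonoidHom).range := by
      haveI := ProjCohom.isIso_toSpec_appTop (n := 1) (R := k)
      have hiso : IsIso ((C ↘ Spec (CommRingCat.of k)).appTop ≫ f.appTop) := by
        rw [← Scheme.Hom.comp_appTop, ← he, Scheme.Hom.comp_appTop]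
        infer_instance
      let φ := (C ↘ Spec (CommRingCat.of k)).appTop ≫ f.appTop
      obtain ⟨w, hw⟩ := (ConcreteCategory.bijective_of_isIso φ).2 (v : Γ(X, ⊤))
      obtain ⟨w', hw'⟩ := (ConcreteCategory.bijective_of_isIso φ).2 ((v⁻¹ : Γ(X, ⊤)ˣ) : Γ(X, ⊤))
      have hww : w * w' = 1 := (ConcreteCategory.bijective_of_isIso φ).1 (by
        rw [map_mul, hw, hw', Units.mul_inv, map_one])
      exact ⟨Units.map (C ↘ Spec (CommRingCat.of k)).appTop.hom.toMonoidHom
        ⟨w, w', hww, by rw [mul_comm, hww]⟩, Units.ext hw⟩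
    rw [← MonoidHom.mem_ker, PicH1.ker_conn0]
    exact hv
  have hinj : Function.Injective (PicH1.toPicKer f hc) := by
    rw [← MonoidHom.ker_eq_bot_iff, PicH1.ker_toPicKer, eq_bot_iff]
    rintro _ ⟨v, rfl⟩
    exact h0 v
  let ψ : PicLoc.PicSet C →* Cube.Pic X := (Cube.pull f).comp (PicH1.picSetEquiv C).toMonoidHom
  let t : Multiplicative ℤ ≃* Cube.Pic X := MulEquiv.ofBijective
    (MonoidHom.mk' (fun n : Multiplicative ℤ => lineTwist e n.toAdd) fun a b => lineTwist_add e a.toAdd b.toAdd)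
    ((lineTwist_bijective e).comp Multiplicative.toAdd.bijective)
  let q : Additive (PicLoc.PicSet C) →+ ℤ := MonoidHom.toAdditiveLeft (t.symm.toMonoidHom.comp ψ)
  have hqs : Function.Surjective q := fun n => by
    obtain ⟨p, hp⟩ := PicH1.pull_surjective_of_H2 hc h2 (t (Multiplicative.ofAdd n))
    obtain ⟨c, rfl⟩ := (PicH1.picSetEquiv C).surjective p
    refine ⟨Additive.ofMul c, ?_⟩
    show (t.symm (Cube.pull f (PicH1.picSetEquiv C c))).toAdd = n
    rw [hp, MulEquiv.symm_apply_apply]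
    rfl
  have hex : ∀ b, q b = 0 ↔ ∃ x, (MonoidHom.toAdditiveRight (PicH1.toPicKer f hc)) x = b := by
    intro b
    induction b with
    | _ c =>
      show (t.symm (Cube.pull f (PicH1.picSetEquiv C c))).toAdd = 0 ↔ _
      refine Iff.trans ⟨fun h => t.symm.injective ((congrArg Multiplicative.ofAdd h).trans (map_one _).symm),
        fun h => by rw [h, map_one]; rfl⟩ ?_
      obtain ⟨x, hx⟩ := (PicH1.hgEquiv C).surjective c
      have hpc : PicH1.picSetEquiv C c = PicH1.toPicHG C x := by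
        rw [← hx]
        exact (PicH1.picSetEquiv C).apply_symm_apply _
      rw [hpc]
      refine Iff.trans ⟨fun h => congrArg Multiplicative.toAdd (PicH1.toPicPushHG_injective f
          (((PicH1.toPicPushHG_comap f x).trans h).trans (map_one _).symm)),
        fun h => (PicH1.toPicPushHG_comap f x).symm.trans
          ((congrArg (fun z => PicH1.toPicPushHG f (Multiplicative.ofAdd z)) h).trans (map_one _))⟩
        ((PicH1.HG_exact₂ (PicH1.thickSeq_shortExact hc) 1 x.toAdd).trans ?_)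
      constructor
      · rintro ⟨y, hy⟩
        exact ⟨y, congrArg Additive.ofMul ((congrArg (fun z => PicH1.hgEquiv C (Multiplicative.ofAdd z)) hy).trans hx)⟩
      · rintro ⟨y, hy⟩
        exact ⟨y, congrArg Multiplicative.toAdd ((PicH1.hgEquiv C).injective ((congrArg Additive.toMul hy).trans hx.symm))⟩
  obtain ⟨φ, hφ⟩ := exists_addEquiv_prod_int (MonoidHom.toAdditiveRight (PicH1.toPicKer f hc))
    (fun a b h => hinj h) q hqs hex
  refine ⟨φ, fun L hL => (hφ _).trans ?_⟩
  let n : ℤ := (t.symm (Cube.pull f (PicH1.picSetEquiv C (PicGrp.cls L hL)))).toAdd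
  have hn : lineTwist e n = Cube.clsMod (RelProjK.isInvertible_pullback f hL) := by
    refine (t.apply_symm_apply _).trans ?_
    rw [PicH1.picSetEquiv_apply, PicH1.picSetMap_eq (PicGrp.cls L hL) hL rfl]
    exact (Cube.clsMod_pullback f hL).symm
  obtain ⟨i⟩ := (Cube.clsMod_eq_iff _ _).1 hn
  show n = _
  have hχ : ∀ (M : X.Modules) (a : ℤ), ((Scheme.Modules.pullback e.hom).obj (P a) ≅ M) →
      Curv2.euler k X M = a + 1 := by
    intro M a em
    rw [← euler_twist_line (k := k) a, ← Euler.euler_of_iso k em]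
    refine finsum_congr fun j => ?_
    obtain ⟨a'⟩ := hline a j
    rw [a'.finrank_eq]
  obtain ⟨z⟩ := CMReg.nonempty_twist_zero (n := 1) (k := k)
  rw [Curv2.deg, Nat.cast_one, one_mul, hχ _ n i, hχ (Coh.structureModule X) 0
    ((Scheme.Modules.pullback e.hom).mapIso z ≪≫ OX.pullUnitIso e.hom)]
  ring

end GrothLib.FMAdj25
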