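import Groth.Agent.Lib.FMAdj25.RibbonGG
import Groth.Agent.Lib.SerrePn27.HomTwist
import Groth.Agent.Lib.HodgeIndex.Pullback
import Groth.Agent.Lib.FormalExist7.Stalk

/-! # Split ribbons: the canonical sheaf comes from the line -/

set_option autoImplicit false
set_option maxHeartbeats 1000000
set_option linter.style.haveILetI false
set_option backward.isDefEq.respectTransparency false
universe u

open CategoryTheory CategoryTheory.Limits AlgebraicGeometry Opposite

attribute [local instance] HasDerivedCategory.standard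

noncomputable section

namespace GrothLib.FMAdj25

open GrothLib.Cohom GrothLib.QCoh

/-- The restriction sequence of an invertible module along a square zero ideal. -/
theorem exists_restrict_sequence {C : Scheme.{u}} [IsLocallyNoetherian C] (I : C.IdealSheafData) (hI : I ^ 2 = ⊥)
    (hL : PicF.IsInvertible ((Scheme.Modules.pullback I.subschemeι).obj (ClSub.idealMod I))) {ω : C.Modules}
    (hω : PicF.IsInvertible ω) :
    ∃ (K : C.Modules) (ι : K ⟶ ω)
      (w : ι ≫ (Scheme.Modules.pullbackPushforwardAdjunction I.subschemeι).unit.app ω = 0),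
      (ShortComplex.mk ι _ w).ShortExact ∧
      Nonempty (K ≅ (Scheme.Modules.pushforward I.subschemeι).obj (CohB1.tensorMod
        ((Scheme.Modules.pullback I.subschemeι).obj (ClSub.idealMod I))
        ((Scheme.Modules.pullback I.subschemeι).obj ω))) := by
  let f := I.subschemeι
  let adj := Scheme.Modules.pullbackPushforwardAdjunction f
  have hlf := Euler.isFinLocFree_of_isInvertible hω
  haveI := Euler.epi_toSubscheme I
  have hseq : (ShortComplex.mk (ClSub.idealModι I) (ClSub.toSubscheme I) (kernel.condition _)).ShortExact :=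
    { exact := ShortComplex.exact_of_f_is_kernel _ (kernelIsKernel _)
      mono_f := inferInstanceAs (Mono (kernel.ι _)) }
  let S := (ShortComplex.mk (ClSub.idealModι I) (ClSub.toSubscheme I) (kernel.condition _)).map (Euler.tF ω)
  have hS : S.ShortExact := OX.tensor_map_shortExact (OX.flat_of_isFinLocFree hlf) hseq
  let e₂ : S.X₂ ≅ ω := OX.tensorUnitLeftIso ω
  obtain ⟨pp⟩ := Regularity.nonempty_push_tensor f hlf (Coh.structureModule I.subscheme) (Iso.refl _)
  let e₃ : S.X₃ ≅ (Scheme.Modules.pushforward f).obj ((Scheme.Modules.pullback f).obj ω) :=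
    pp.symm ≪≫ (Scheme.Modules.pushforward f).mapIso (OX.tensorUnitLeftIso _)
  haveI : Epi S.g := hS.epi_g
  let g' := e₂.inv ≫ S.g ≫ e₃.hom
  let a := (adj.homEquiv _ _).symm g'
  have ha' : adj.unit.app ω ≫ (Scheme.Modules.pushforward f).map a = g' := by
    exact (adj.homEquiv_unit _ _ a).symm.trans ((adj.homEquiv _ _).apply_symm_apply g')
  haveI : Epi g' := by dsimp only [g']; infer_instance
  haveI : Epi a := by
    refine ⟨fun {Z} b c hbc => ?_⟩
    refine (adj.homEquiv ω Z).injective ?_
    have h1 := congrArg (fun t => adj.unit.app ω ≫ (Scheme.Modules.pushforward f).map t) hbc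
    simp only [Functor.map_comp, ← Category.assoc, ha'] at h1
    have h2 := congrArg (fun t => (adj.homEquiv ω Z).symm (adj.unit.app ω ≫ t)) ((cancel_epi g').1 h1)
    simp only [← adj.homEquiv_unit, Equiv.symm_apply_apply] at h2
    rw [h2]
  haveI : IsIso a := HodgeIndex.isIso_of_epi_inv (RelProjK.isInvertible_pullback f hω)
    (RelProjK.isInvertible_pullback f hω) a
  let e₃' := e₃ ≪≫ (Scheme.Modules.pushforward f).mapIso (asIso a).symm
  have hg : e₂.hom ≫ adj.unit.app ω = S.g ≫ e₃'.hom := by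
    have h1 : adj.unit.app ω = g' ≫ inv ((Scheme.Modules.pushforward f).map a) := by
      rw [← ha', Category.assoc, IsIso.hom_inv_id, Category.comp_id]
    rw [h1]
    simp [g', e₃', Functor.map_inv]
  have w : (S.f ≫ e₂.hom) ≫ adj.unit.app ω = 0 := by rw [Category.assoc, hg, ← Category.assoc, S.zero, zero_comp]
  refine ⟨S.X₁, S.f ≫ e₂.hom, w, ShortComplex.shortExact_of_iso
    (ShortComplex.isoMk (S₁ := S) (Iso.refl _) e₂ e₃' (Category.id_comp _) hg) hS, ?_⟩
  have hker : f.ker = I := Scheme.IdealSheafData.ker_subschemeι I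
  have hkill := killed_annihilator f I I hker (annihilator_eq_of_sq_zero I hI hL)
  obtain ⟨t⟩ := nonempty_pullback_tensor_of_killed f hkill hω
  haveI := ClosedPush22.isIso_unit_of_killed f S.X₁ (killed_tensor f hkill hω)
  exact ⟨asIso (adj.unit.app S.X₁) ≪≫ (Scheme.Modules.pushforward f).mapIso t⟩

/-- Maps between pullbacks along an isomorphism are pullbacks. -/
theorem exists_pullback_map_eq {X Y : Scheme.{u}} (f : X ⟶ Y) [IsIso f] {A B : Y.Modules} [B.IsQuasicoherent]
    (z : (Scheme.Modules.pullback f).obj A ⟶ (Scheme.Modules.pullback f).obj B) :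
    ∃ z₀ : A ⟶ B, (Scheme.Modules.pullback f).map z₀ = z := by
  let adj := Scheme.Modules.pullbackPushforwardAdjunction f
  haveI := ClosedPush22.isIso_unit_of_killed f B fun U b hb m => by
    rw [Scheme.Hom.ker_eq_bot_of_isIso] at hb
    rw [show b = 0 from hb, zero_smul]
  refine ⟨adj.homEquiv _ _ z ≫ inv (adj.unit.app B), (adj.homEquiv _ _).injective ?_⟩
  refine (adj.homEquiv_unit _ _ _).trans ?_
  refine (adj.unit.naturality _).symm.trans ?_
  rw [Functor.id_map, Category.assoc, IsIso.inv_hom_id, Category.comp_id]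

variable {k : Type u} [Field k]

/-- Endomorphisms of a twist are constants. -/
theorem exists_eq_smul_id_twist {n : ℕ} (a : ℤ) (f : Twist.twistProjSpace n k a ⟶ Twist.twistProjSpace n k a) :
    ∃ c : k, f = c • 𝟙 _ := by
  obtain ⟨e⟩ := SerrePn27.nonempty_hom_twist_equiv (n := n) (k := k) (zero_add a)
  obtain ⟨e'⟩ := ProjCohom.nonempty_HH_zero (n := n) (R := k) 0
  have h1 : Module.finrank k (Twist.twistProjSpace n k a ⟶ Twist.twistProjSpace n k a) = 1 := by
    rw [e.finrank_eq, show (0 : ℤ) = ((0 : ℕ) : ℤ) from rfl, e'.finrank_eq, ProjCohom.finrank_forms,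
      Nat.choose_zero_right]
  have hid : 𝟙 (Twist.twistProjSpace n k a) ≠ 0 := fun h => by
    haveI : Subsingleton (Twist.twistProjSpace n k a ⟶ Twist.twistProjSpace n k a) :=
      subsingleton_of_forall_eq 0 fun g => by rw [← Category.id_comp g, h, zero_comp]
    rw [Module.finrank_zero_of_subsingleton] at h1
    exact zero_ne_one h1
  obtain ⟨c, hc⟩ := exists_smul_eq_of_finrank_eq_one h1 hid f
  exact ⟨c, hc.symm⟩

set_option maxHeartbeats 2000000 in
set_option synthInstance.maxHeartbeats 200000 in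
/-- The dualizing module of a split ribbon on the line comes from the line. -/
theorem nonempty_dualizingMod_iso_pullback_retraction (C : Scheme.{u}) [C.Over (Spec (CommRingCat.of k))]
    [IsProper (C ↘ (Spec (CommRingCat.of k)))]
    (I : C.IdealSheafData) (hI : I ^ 2 = ⊥)
    (e : I.subscheme ≅ CohB1.ProjSpace 1 k)
    (he : e.hom ≫ CohB1.ProjSpace.toSpec 1 k = I.subschemeι ≫ (C ↘ (Spec (CommRingCat.of k))))
    (g : ℕ) (hg : 1 ≤ g)
    (hconormal : Nonempty ((Scheme.Modules.pullback I.subschemeι).obj (ClSub.idealMod I) ≅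
      (Scheme.Modules.pullback e.hom).obj (Twist.twistProjSpace 1 k (-((g : ℤ) + 1)))))
    (r : C ⟶ I.subscheme) (hr : I.subschemeι ≫ r = 𝟙 I.subscheme)
    [DCoh.HasRpush (C ↘ (Spec (CommRingCat.of k)))] (h : DCoh.RpushPreservesQCoh (C ↘ (Spec (CommRingCat.of k))))
    [DCoh.HasShriek (C ↘ (Spec (CommRingCat.of k))) h]
    (OY : DCoh.DQCoh (Spec (CommRingCat.of k)))
    (hOY : Nonempty (OY.obj ≅ DCoh.inD (Spec (CommRingCat.of k)) (Coh.structureModule (Spec (CommRingCat.of k)))))
    (hω : PicF.IsInvertible (DCoh.dualizingMod (C ↘ (Spec (CommRingCat.of k))) h OY 1)) :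
    Nonempty (DCoh.dualizingMod (C ↘ (Spec (CommRingCat.of k))) h OY 1 ≅
      (Scheme.Modules.pullback (r ≫ e.hom)).obj (Twist.twistProjSpace 1 k ((g : ℤ) - 1))) := by
  let π := C ↘ Spec (CommRingCat.of k)
  let f := I.subschemeι
  let X := I.subscheme
  let ω := DCoh.dualizingMod π h OY 1
  let adj := Scheme.Modules.pullbackPushforwardAdjunction f
  obtain ⟨eω⟩ := nonempty_restrict_dualizingMod C I hI e he g hconormal h OY hOY hω
  obtain ⟨ec⟩ := hconormal
  let P := Twist.twistProjSpace 1 k
  let L := (Scheme.Modules.pullback (r ≫ e.hom)).obj (P ((g : ℤ) - 1))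
  have hLinv : PicF.IsInvertible L := RelProjK.isInvertible_pullback _ (CMReg.isInvertible_twist _)
  let eL : (Scheme.Modules.pullback f).obj L ≅ (Scheme.Modules.pullback e.hom).obj (P ((g : ℤ) - 1)) :=
    (Scheme.Modules.pullbackComp f (r ≫ e.hom)).app _ ≪≫
      (Scheme.Modules.pullbackCongr (show f ≫ r ≫ e.hom = e.hom by rw [← Category.assoc, hr, Category.id_comp])).app _
  letI : X.Over (Spec (CommRingCat.of k)) := ⟨f ≫ π⟩
  haveI : IsProper (X ↘ Spec (CommRingCat.of k)) := inferInstanceAs (IsProper (f ≫ π))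
  haveI := Euler.isNoetherian_of_proper (X := C) k
  haveI : IsProper (CohB1.ProjSpace 1 k ↘ Spec (CommRingCat.of k)) := Chow.isProper_toSpec 1 k
  haveI := Euler.isNoetherian_of_proper (X := CohB1.ProjSpace 1 k) k
  haveI hqP : ∀ a : ℤ, (P a).IsQuasicoherent := fun a => (Euler.isCoh_of_isInvertible (CMReg.isInvertible_twist a)).1
  have hL : PicF.IsInvertible ((Scheme.Modules.pullback f).obj (ClSub.idealMod I)) :=
    RelProjK.isInvertible_of_iso ec (RelProjK.isInvertible_pullback _ (CMReg.isInvertible_twist _))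
  have hfsurj : Function.Surjective f := by
    refine Set.range_eq_univ.1 ?_
    rw [Scheme.IdealSheafData.range_subschemeι]
    refine Set.eq_univ_of_forall fun x => ?_
    obtain ⟨U, hx, -⟩ := BlowUp.exists_affine_mem_le (X := C) (W := ⊤) (x := x) trivial
    refine (DivProd10.mem_support_iff_le hx).2 fun a ha => ?_
    refine Ideal.IsPrime.mem_of_pow_mem inferInstance 2 ?_
    have h : (I.ideal U) ^ 2 = ⊥ := by
      have := congrArg (fun J : C.IdealSheafData => J.ideal U) hI
      simpa using this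
    have ha2 : a ^ 2 ∈ (I.ideal U) ^ 2 := Ideal.pow_mem_pow ha 2
    rw [h, Ideal.mem_bot] at ha2
    rw [ha2]
    exact Submodule.zero_mem _
  have hd : topologicalKrullDim C ≤ 1 := by
    have hh := IsHomeomorph.topologicalKrullDim_eq f
      (f.isClosedEmbedding.isEmbedding.toHomeomorphOfSurjective hfsurj).isHomeomorph
    rw [← hh, IsHomeomorph.topologicalKrullDim_eq _ (Scheme.homeoOfIso e).isHomeomorph,
      CurveMult.P1Split.dim_P1 k]
  have hHH : ∀ (M : X.Modules) (a : ℤ) (i : ℕ), (M ≅ (Scheme.Modules.pullback e.hom).obj (P a)) →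
      Nonempty (Coh.HH C ((Scheme.Modules.pushforward f).obj M) i ≃ₗ[k] Coh.HH (CohB1.ProjSpace 1 k) (P a) i) := by
    intro M a i em
    haveI := FittSheaf.isQuasicoherent_pullback e.hom (P a)
    haveI : M.IsQuasicoherent := QCoh.isQuasicoherent_of_iso em.symm
    obtain ⟨a₁⟩ := Snapper.nonempty_HH_linearEquiv_pushforward (A := k) f rfl M i
    obtain ⟨a₂⟩ := Snapper.nonempty_HH_linearEquiv_pushforward (A := k) e.hom he
      ((Scheme.Modules.pullback e.hom).obj (P a)) i
    haveI := ClosedPush22.isIso_unit_of_killed e.hom (P a) fun U b hb m => by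
      rw [Scheme.Hom.ker_eq_bot_of_isIso] at hb
      rw [show b = 0 from hb, zero_smul]
    exact ⟨a₁.symm ≪≫ₗ Euler.hhEquiv (A := k) em i ≪≫ₗ a₂ ≪≫ₗ
      Euler.hhEquiv (A := k) (asIso ((Scheme.Modules.pullbackPushforwardAdjunction e.hom).unit.app (P a))).symm i⟩
  -- the kernels are twists of degree -2
  have hK : ∀ (M : C.Modules), ((Scheme.Modules.pullback f).obj M ≅ (Scheme.Modules.pullback e.hom).obj (P ((g : ℤ) - 1))) →
      Nonempty (CohB1.tensorMod ((Scheme.Modules.pullback f).obj (ClSub.idealMod I))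
        ((Scheme.Modules.pullback f).obj M) ≅ (Scheme.Modules.pullback e.hom).obj (P (-2))) := by
    intro M em
    obtain ⟨p⟩ := Ample.nonempty_pullback_tensorMod e.hom
      (CMReg.isInvertible_twist (n := 1) (k := k) (-((g : ℤ) + 1))) (CMReg.isInvertible_twist ((g : ℤ) - 1))
    obtain ⟨q⟩ := CMReg.nonempty_twist_add (n := 1) (k := k) (show -((g : ℤ) + 1) + ((g : ℤ) - 1) = -2 by ring)
    exact ⟨PicGrp.tensorModIso ec em ≪≫ p.symm ≪≫ (Scheme.Modules.pullback e.hom).mapIso q⟩
  -- the first cohomology of the candidate does not vanish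
  have hL1 : ¬ Subsingleton (Coh.HH C L 1) := by
    obtain ⟨K, ι, w, hS, ⟨eK⟩⟩ := exists_restrict_sequence I hI hL hLinv
    obtain ⟨em⟩ := hK L eL
    obtain ⟨h₁⟩ := hHH _ (-2) 1 em
    let h₁' : Coh.HH C K 1 ≃ₗ[k] Coh.HH (CohB1.ProjSpace 1 k) (P (-2)) 1 := Euler.hhEquiv (A := k) eK 1 ≪≫ₗ h₁
    have hfr : Module.finrank k (Coh.HH C K 1) = 1 := by
      rw [h₁'.finrank_eq]
      have hχ : Curv2.euler k (CohB1.ProjSpace 1 k) (P (-2)) = -2 + 1 := euler_twist_line (-2)
      rw [Euler.euler_eq_sub k (CurveMult.P1Split.dim_P1 k).le] at hχ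
      haveI : Subsingleton (Coh.HH (CohB1.ProjSpace 1 k) (P (-2)) 0) :=
        ProjCohom.subsingleton_HH (n := 1) (R := k) (d := (-2 : ℤ)) (q := 0) (by omega) (by omega)
      have z : Module.finrank k (Coh.HH (CohB1.ProjSpace 1 k) (P (-2)) 0) = 0 := Module.finrank_zero_of_subsingleton
      rw [z] at hχ
      omega
    let η := adj.unit.app L
    have hlift : ∀ t : Coh.structureModule C ⟶ (Scheme.Modules.pushforward f).obj ((Scheme.Modules.pullback f).obj L),
        ∃ b : Coh.structureModule C ⟶ L, b ≫ η = t := by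
      intro t
      let u : (Scheme.Modules.pullback r).obj (Coh.structureModule X) ≅ Coh.structureModule C := OX.pullUnitIso r
      let eR : (Scheme.Modules.pullback r).obj ((Scheme.Modules.pullback e.hom).obj (P ((g : ℤ) - 1))) ≅ L :=
        (Scheme.Modules.pullbackComp r e.hom).app _
      let c : Scheme.Modules.pullback r ⋙ Scheme.Modules.pullback f ≅ 𝟭 X.Modules :=
        Scheme.Modules.pullbackComp f r ≪≫ Scheme.Modules.pullbackCongr hr ≪≫ Scheme.Modules.pullbackId X
      let x := c.inv.app _ ≫ (Scheme.Modules.pullback f).map u.hom ≫ (adj.homEquiv _ _).symm t ≫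
        (Scheme.Modules.pullback f).map eR.inv ≫ c.hom.app _
      refine ⟨u.inv ≫ (Scheme.Modules.pullback r).map x ≫ eR.hom, ?_⟩
      have hx : (Scheme.Modules.pullback f).map ((Scheme.Modules.pullback r).map x) =
          c.hom.app _ ≫ x ≫ c.inv.app _ := by
        rw [← reassoc_of% c.hom.naturality x]
        exact (Category.comp_id _).symm.trans (congrArg (_ ≫ ·) (c.hom_inv_id_app _).symm)
      refine (adj.homEquiv _ _).symm.injective ?_
      refine (adj.homEquiv_naturality_left_symm _ η).trans ?_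
      have hη : (adj.homEquiv _ _).symm η = 𝟙 ((Scheme.Modules.pullback f).obj L) :=
        (adj.homEquiv _ _).symm_apply_eq.2 (adj.homEquiv_id L).symm
      rw [hη]
      refine (Category.comp_id _).trans ?_
      rw [Functor.map_comp, Functor.map_comp, hx]
      simp [x, ← Functor.map_comp_assoc, ← Functor.map_comp]
    have hH0 : Function.Surjective (hhMap k η 0) := by
      intro y
      obtain ⟨b, hb⟩ := hlift ((SerrePn27.homStructureEquiv (k := k) _).symm y)
      refine ⟨SerrePn27.homStructureEquiv (k := k) L b, ?_⟩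
      refine Eq.trans ?_ ((congrArg (SerrePn27.homStructureEquiv (k := k) _) hb).trans
        ((SerrePn27.homStructureEquiv (k := k) _).apply_symm_apply y))
      apply (ProjCoh.H0top _).injective
      refine (ProjCoh.H0top_map ((QCoh.toAbFun _).map η) _).trans ?_
      exact (congrArg _ (AddEquiv.apply_symm_apply _ _)).trans (AddEquiv.apply_symm_apply _ _).symm
    have hif : Function.Injective (hhMap k ι 1) := by
      rw [injective_iff_map_eq_zero]
      intro x hx
      obtain ⟨y, rfl⟩ := ((exact₁ (A := k) hS 0) x).1 hx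
      obtain ⟨z, rfl⟩ := hH0 y
      exact ((exact₃ (A := k) hS 0) _).2 ⟨z, rfl⟩
    intro hs
    haveI : Subsingleton (Coh.HH C K 1) := ⟨fun a b => hif (Subsingleton.elim _ _)⟩
    rw [Module.finrank_zero_of_subsingleton] at hfr
    exact zero_ne_one hfr
  -- duality
  obtain ⟨φ, hφ⟩ : ∃ φ : L ⟶ ω, φ ≠ 0 := by
    by_contra hn
    exact hL1 ((CurveSerre11.subsingleton_HH_one_iff h OY hOY hd (Euler.isCoh_of_isInvertible hLinv).1).2
      fun φ => not_not.1 fun h' => hn ⟨φ, h'⟩)
  obtain ⟨K, ι, w, hS, ⟨eK⟩⟩ := exists_restrict_sequence I hI hL hω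
  obtain ⟨emK⟩ := hK ω eω
  haveI := hS.mono_f
  let ψ := (Scheme.Modules.pullback f).map φ
  have hzero : ∀ z : (Scheme.Modules.pullback f).obj L ⟶ (Scheme.Modules.pullback e.hom).obj (P (-2)), z = 0 := by
    intro z
    obtain ⟨z₀, hz⟩ := exists_pullback_map_eq e.hom (eL.inv ≫ z)
    obtain ⟨E⟩ := SerrePn27.nonempty_hom_twist_equiv (n := 1) (k := k)
      (show -((g : ℤ) + 1) + ((g : ℤ) - 1) = -2 by ring)
    haveI := ProjCohom.subsingleton_HH (n := 1) (R := k) (d := -((g : ℤ) + 1)) (q := 0) (by omega) (by omega)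
    rw [show z₀ = 0 from E.toEquiv.subsingleton.elim _ _, Functor.map_zero] at hz
    rw [← cancel_epi eL.inv, comp_zero, hz]
  have hψ : ψ ≠ 0 := by
    intro h0
    have h1 : φ ≫ adj.unit.app ω = 0 := by
      refine (adj.unit.naturality φ).trans ?_
      show adj.unit.app L ≫ (Scheme.Modules.pushforward f).map ψ = 0
      rw [h0, Functor.map_zero, comp_zero]
    let φ' := hS.exact.lift φ h1
    let z := (adj.homEquiv _ _).symm (φ' ≫ (eK ≪≫ (Scheme.Modules.pushforward f).mapIso emK).hom)
    have h2 : φ' ≫ (eK ≪≫ (Scheme.Modules.pushforward f).mapIso emK).hom = 0 := by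
      refine ((adj.homEquiv _ _).apply_symm_apply _).symm.trans ?_
      show adj.homEquiv _ _ z = 0
      rw [hzero z, adj.homEquiv_unit, Functor.map_zero, comp_zero]
    have h3 : φ' = 0 := by
      rw [← cancel_mono (eK ≪≫ (Scheme.Modules.pushforward f).mapIso emK).hom, h2, zero_comp]
    exact hφ (by rw [← hS.exact.lift_f φ h1]; show φ' ≫ ι = 0; rw [h3, zero_comp])
  haveI : IsIso ψ := by
    obtain ⟨z₀, hz⟩ := exists_pullback_map_eq e.hom (eL.inv ≫ ψ ≫ eω.hom)
    obtain ⟨c, rfl⟩ := exists_eq_smul_id_twist _ z₀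
    have hc : c ≠ 0 := by
      rintro rfl
      rw [zero_smul, Functor.map_zero] at hz
      exact hψ (by rw [← cancel_epi eL.inv, ← cancel_mono eω.hom, Category.assoc, ← hz, comp_zero, zero_comp])
    haveI : IsIso (c • 𝟙 (P ((g : ℤ) - 1))) :=
      ⟨c⁻¹ • 𝟙 _, by simp [smul_smul, hc], by simp [smul_smul, hc]⟩
    haveI : IsIso (eL.inv ≫ ψ ≫ eω.hom) := hz ▸ inferInstance
    haveI : IsIso (ψ ≫ eω.hom) := IsIso.of_isIso_comp_left eL.inv _
    exact IsIso.of_isIso_comp_right ψ eω.hom
  obtain ⟨K', ι', w', hS', -⟩ := exists_restrict_sequence I hI hL hLinv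
  haveI : Epi (adj.unit.app L) := hS'.epi_g
  haveI hepi : Epi (φ ≫ adj.unit.app ω) := by
    rw [show φ ≫ adj.unit.app ω = adj.unit.app L ≫ (Scheme.Modules.pushforward f).map ψ from adj.unit.naturality φ]
    infer_instance
  haveI : Epi φ := by
    refine FormalExist7.epi_of_stalk φ fun c m => ?_
    obtain ⟨v, hv⟩ := C1.exists_gen hω c
    obtain ⟨b, rfl⟩ := hv.2 m
    obtain ⟨l, hl⟩ := QCoh.stalkLin_surjective (φ ≫ adj.unit.app ω) c (stalkLin (adj.unit.app ω) c v)
    obtain ⟨a, ha⟩ : ∃ a : C.presheaf.stalk c, a • v = stalkLin φ c l := hv.2 _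
    have hl' : stalkLin (adj.unit.app ω) c (stalkLin φ c l) = stalkLin (adj.unit.app ω) c v := by
      rw [← hl, QCoh.stalkLin_comp]; rfl
    have hu : IsUnit a := by
      by_contra hna
      have h1 : IsUnit (1 - a) := (IsLocalRing.isUnit_or_isUnit_one_sub_self a).resolve_left hna
      have h0 : stalkLin (adj.unit.app ω) c v = 0 := by
        have : stalkLin (adj.unit.app ω) c ((1 - a) • v) = 0 := by
          rw [sub_smul, one_smul, ha, map_sub, hl', sub_self]
        rw [map_smul] at this
        exact h1.smul_eq_zero.1 this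
      obtain ⟨x, rfl⟩ := hfsurj c
      haveI : Epi (adj.unit.app ω) := epi_of_epi φ _
      let Q := (Scheme.Modules.pullback f).obj ω
      haveI : Subsingleton (((Scheme.Modules.pushforward f).obj Q).presheaf.stalk (f x)) :=
        subsingleton_of_forall_eq 0 fun n => by
          obtain ⟨n', rfl⟩ := QCoh.stalkLin_surjective (adj.unit.app ω) (f x) n
          obtain ⟨b', rfl⟩ := hv.2 n'
          rw [map_smul, h0, smul_zero]
      obtain ⟨v', hv'⟩ := C1.exists_gen (RelProjK.isInvertible_pullback f hω) x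
      obtain ⟨n, hn⟩ := (QCoh.pushStalkHom_bijective f x Q f.isClosedEmbedding.isInducing).2 v'
      have hn0 : v' = 0 := by
        rw [← hn, show n = 0 from @Subsingleton.elim (((Scheme.Modules.pushforward f).obj Q).presheaf.stalk (f x)) _ _ _]
        exact (QCoh.pushStalkHom f x Q).hom.map_zero
      exact one_ne_zero (hv'.1 (show (1 : X.presheaf.stalk x) • v' = (0 : X.presheaf.stalk x) • v' by
        rw [hn0, smul_zero, smul_zero]))
    refine ⟨(b * ↑hu.unit⁻¹) • l, ?_⟩
    rw [map_smul, ← ha, smul_smul, mul_assoc, IsUnit.val_inv_mul, mul_one]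
  haveI := HodgeIndex.isIso_of_epi_inv hLinv hω φ
  exact ⟨(asIso φ).symm⟩

end GrothLib.FMAdj25
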