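import Groth.Agent.Lib.CurveMult.SepBC
import Groth.Agent.Lib.FMAdj25.SepReducible

/-! # Descent of very ampleness for possibly reducible curves

The argument of `CurveMult.SepBC` without integrality. -/

set_option autoImplicit false
set_option linter.all false
set_option backward.isDefEq.respectTransparency false
set_option maxHeartbeats 2000000

universe u

open CategoryTheory CategoryTheory.Limits AlgebraicGeometry TopologicalSpace Opposite
open GrothLib.InvExt (mres)
open GrothLib.Ample (Cocycle res)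
open scoped TensorProduct

noncomputable section

namespace GrothLib.CurveMult

variable {X X' : Scheme.{u}} (k K : Type u) [Field k] [Field K] [Algebra k K]
  [X.Over (Spec (CommRingCat.of k))] [X'.Over (Spec (CommRingCat.of K))]
  (g : X' ⟶ X) (H : IsPullback g (X' ↘ Spec (CommRingCat.of K)) (X ↘ Spec (CommRingCat.of k))
    (Spec.map (CommRingCat.ofHom (algebraMap k K))))

variable [IsProper (X ↘ Spec (CommRingCat.of k))] [IsProper (X' ↘ Spec (CommRingCat.of K))]

theorem pullSect_smul'' (c : Cocycle X) {U : X.Opens} {V : X'.Opens} (h : V ≤ g ⁻¹ᵁ U)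
    (r : Γ(X, U)) (a : c.sect 1 U) :
    c.pullSect g h (r • a) = (g.appLE U V h).hom r • c.pullSect g h a := by
  refine (c.comap g).sect_ext fun i => ?_
  rw [c.pullSect_apply, c.smul_apply, Cocycle.smul_apply, c.pullSect_apply, map_mul, Ample.appLE_res,
    Ample.res_appLE]
  rfl

theorem sectRes_pullSect' (c : Cocycle X) {U : X.Opens} (a : c.sect 1 ⊤) :
    (c.comap g).sectRes (le_top : g ⁻¹ᵁ U ≤ ⊤) (c.pullSect g (le_top : (⊤ : X'.Opens) ≤ g ⁻¹ᵁ ⊤) a) =
      c.pullSect g (le_refl (g ⁻¹ᵁ U)) (c.sectRes (le_top : U ≤ ⊤) a) := by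
  refine (c.comap g).sect_ext fun i => ?_
  rw [Cocycle.sectRes_apply, c.pullSect_apply, c.pullSect_apply, c.sectRes_apply, Ample.appLE_res]
  exact Ample.res_appLE g _ _ _

include H in
/-- Very ampleness of a module whose extension to an algebraically closed field has the bound. -/
theorem exists_closedImmersion_of_baseChange_bound' [IsAlgClosed K] [Surjective g]
    (hd : topologicalKrullDim X ≤ 1) (hd' : topologicalKrullDim X' ≤ 1) (c : Cocycle X) {L : X.Modules}
    (eL : L ≅ c.twist 1) (hA : CohB1.IsAmple L)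
    {N : ℕ} (hN : Module.finrank k (Coh.HH X (c.twist 1) 0) = N + 1)
    (hN' : Module.finrank K (Coh.HH X' ((c.comap g).twist 1) 0) = N + 1)
    (hb : ∀ Z : X'.IdealSheafData, topologicalKrullDim (Z.support : Set X') ≤ 0 →
      Module.finrank K (Coh.HH X' (ClSub.quotMod Z) 0) ≤ 2 →
      Module.finrank K (Coh.HH X' (CohB1.tensorMod (ClSub.idealMod Z) ((c.comap g).twist 1)) 0) +
        Module.finrank K (Coh.HH X' (ClSub.quotMod Z) 0) ≤ Module.finrank K (Coh.HH X' ((c.comap g).twist 1) 0)) :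
    ∃ (n : ℕ) (i : X ⟶ CohB1.ProjSpace n k), IsClosedImmersion i ∧
      i ≫ CohB1.ProjSpace.toSpec n k = X ↘ Spec (CommRingCat.of k) ∧
      Nonempty ((Scheme.Modules.pullback i).obj (Twist.twistProjSpace n k 1) ≅ L) := by
  classical
  haveI := Euler.isNoetherian_of_proper (X := X) k
  haveI := Euler.isNoetherian_of_proper (X := X') K
  haveI := Euler.finiteDimensional_HH k (Euler.isCoh_of_isInvertible (c.isInvertible_twist 1)) 0
  let bas := Module.finBasisOfFinrankEq k (Coh.HH X (c.twist 1) 0) hN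
  let a : Fin (N + 1) → c.sect 1 ⊤ := fun l => ProjCoh.H0top (c.twist 1) (bas l)
  let c' := c.comap g
  let a' : Fin (N + 1) → c'.sect 1 ⊤ := fun l => c.pullSect g (le_top : (⊤ : X'.Opens) ≤ g ⁻¹ᵁ ⊤) (a l)
  let z' : Fin (N + 1) → Coh.HH X' (c'.twist 1) 0 := fun l => (ProjCoh.H0top (c'.twist 1)).symm (a' l)
  have hli : LinearIndependent K z' := by
    rw [Fintype.linearIndependent_iff]
    intro lam hlam
    suffices key : ∀ μ : K →ₗ[k] k, ∀ (i : c.ι) (V : X.Opens) (hV : IsAffineOpen V) (hVi : V ≤ c.D i),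
        res (le_inf le_top hVi : V ≤ ⊤ ⊓ c.D i)
          ((show c.sect 1 ⊤ from ProjCoh.H0top (c.twist 1) (∑ l, μ (lam l) • bas l)).1 i) = 0 by
      intro l
      refine (Module.forall_dual_apply_eq_zero_iff k (lam l)).1 fun μ => ?_
      have hz : ∑ l, μ (lam l) • bas l = 0 := by
        refine (ProjCoh.H0top (c.twist 1)).injective ((map_zero (ProjCoh.H0top (c.twist 1))).symm ▸ c.sect_ext fun i => ?_)
        refine TopCat.Presheaf.section_ext X.sheaf _ _ _ fun x hx => ?_
        obtain ⟨V, hV, hxV, hVi⟩ := exists_isAffineOpen_mem_and_subset (x := x) (U := c.D i) hx.2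
        refine (TopCat.Presheaf.germ_res_apply X.presheaf (homOfLE (le_inf le_top hVi : V ≤ ⊤ ⊓ c.D i)) x hxV _).symm.trans ?_
        refine (congrArg (X.presheaf.germ V x hxV) (key μ i V hV hVi)).trans ?_
        exact (map_zero _).trans (map_zero _).symm
      exact Fintype.linearIndependent_iff.1 bas.linearIndependent _ hz l
    intro μ i V hV hVi
    letI := (locHom k V).toAlgebra
    letI := (locHom K (g ⁻¹ᵁ V)).toAlgebra
    obtain ⟨eV, heV⟩ := exists_tensor_equiv k K g H hV
    let π : Coh.HH X (c.twist 1) 0 →ₗ[k] Γ(X, V) :=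
      { toFun := fun z => res (le_inf le_top hVi : V ≤ ⊤ ⊓ c.D i)
          ((show c.sect 1 ⊤ from ProjCoh.H0top (c.twist 1) z).1 i)
        map_add' := fun z w => by
          rw [map_add (ProjCoh.H0top (c.twist 1))]
          exact map_add (res (le_inf le_top hVi : V ≤ ⊤ ⊓ c.D i)) _ _
        map_smul' := fun r z => by
          rw [ProjCoh.H0top_smul, RingHom.id_apply, Algebra.smul_def]
          show res _ (res _ _ * _) = _
          rw [map_mul, Ample.res_res]
          rfl }
    have hsum : ∀ (t : Finset (Fin (N + 1))), res (le_inf le_top (g.preimage_mono hVi) : g ⁻¹ᵁ V ≤ ⊤ ⊓ c'.D i)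
        ((show c'.sect 1 ⊤ from ProjCoh.H0top (c'.twist 1) (∑ l ∈ t, lam l • z' l)).1 i) =
          eV (∑ l ∈ t, lam l ⊗ₜ π (bas l)) := by
      intro t
      induction t using Finset.induction_on with
      | empty =>
        rw [Finset.sum_empty, Finset.sum_empty, map_zero eV, map_zero (ProjCoh.H0top (c'.twist 1))]
        exact map_zero (res _)
      | insert l t hl ih =>
        rw [Finset.sum_insert hl, Finset.sum_insert hl, map_add (ProjCoh.H0top (c'.twist 1)), map_add eV]
        refine (map_add (res _) _ _).trans (congrArg₂ (· + ·) ?_ ih)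
        rw [ProjCoh.H0top_smul, AddEquiv.apply_symm_apply]
        show res _ (res _ _ * (c.pullSect g _ (a l)).1 i) = _
        rw [map_mul, Ample.res_res, show lam l ⊗ₜ[k] π (bas l) = algebraMap K (K ⊗[k] Γ(X, V)) (lam l) *
          (1 ⊗ₜ π (bas l)) by simp [Algebra.TensorProduct.algebraMap_apply], map_mul, AlgEquiv.commutes, heV]
        refine congrArg₂ (· * ·) rfl ?_
        rw [c.pullSect_apply]
        exact (Ample.res_appLE g _ _ _).trans (Ample.appLE_res g _ _ _).symm
    have h0 : ∑ l, lam l ⊗ₜ[k] π (bas l) = 0 := eV.injective (by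
      rw [← hsum, hlam, map_zero eV, map_zero (ProjCoh.H0top (c'.twist 1))]
      exact map_zero (res _))
    have h1 := congrArg ((TensorProduct.lid k Γ(X, V)).toLinearMap ∘ₗ LinearMap.rTensor Γ(X, V) μ) h0
    rw [map_sum, map_zero] at h1
    show π (∑ l, μ (lam l) • bas l) = 0
    rw [map_sum]
    refine Eq.trans (Finset.sum_congr rfl fun l _ => ?_) h1
    simp
  have hspan : Submodule.span K (Set.range z') = ⊤ := by
    haveI := Euler.finiteDimensional_HH K (Euler.isCoh_of_isInvertible (c'.isInvertible_twist 1)) 0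
    exact hli.span_eq_top_of_card_eq_finrank (by rw [Fintype.card_fin]; exact hN'.symm)
  obtain ⟨hcov', hsep'⟩ := separating_of_bound' K hd' c' hb z' hspan a' fun l =>
    ((ProjCoh.H0top (c'.twist 1)).apply_symm_apply _).symm
  have hloc : ∀ l, c'.locus (a' l) = g ⁻¹ᵁ c.locus (a l) := fun l => c.locus_pullSect g (a l)
  have hcov : ∀ x : X, ∃ j, x ∈ c.locus (a j) := by
    intro x
    obtain ⟨x', rfl⟩ := g.surjective x
    obtain ⟨j, hj⟩ := hcov' x'
    rw [hloc] at hj
    exact ⟨j, hj⟩
  have hc : c.IsAmp := ((c.isAmple_iff eL).1 hA).2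
  have haff := isAffineOpen_locus_of_isAmp k c hc a hcov
  haveI : IsAffineHom g := BCCoh.isAffineHom_bc _ _ _ g H
  refine ⟨N, exists_closedImmersion_of_sections k c eL a hcov haff fun j b => ?_⟩
  let U := c.locus (a j)
  letI := (locHom k U).toAlgebra
  letI := (locHom K (g ⁻¹ᵁ U)).toAlgebra
  haveI : Algebra.FiniteType k Γ(X, U) := finiteType_locHom k (haff j)
  haveI := finite_ratioAlg k c eL a hcov haff j
  obtain ⟨eU, heU⟩ := exists_tensor_equiv k K g H (haff j)
  let u := c.sectRes (le_top : U ≤ ⊤) (a j)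
  let S := ratioAlg k c a j
  let F : (K ⊗[k] S) →ₐ[K] (K ⊗[k] Γ(X, U)) := Algebra.TensorProduct.map (AlgHom.id K K) S.val
  have key : ∀ (W : X'.Opens), W = g ⁻¹ᵁ U → IsAffineOpen W →
      (letI := (locHom K W).toAlgebra
      ∀ J : Ideal Γ(X', W), Module.Finite K (Γ(X', W) ⧸ J) →
        Module.finrank K (Γ(X', W) ⧸ J) ≤ 2 → ∀ b : Γ(X', W),
          ∃ g' ∈ Subring.closure (Set.range (locHom K W) ∪
            {g' | ∃ l, g' • c'.sectRes (le_top : W ≤ ⊤) (a' j) = c'.sectRes le_top (a' l)}), b - g' ∈ J) →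
      S = ⊤ := by
    rintro W rfl hW h
    refine eq_top_of_separates_baseChange k K S fun J hJ hJ2 b => ?_
    let J' := Ideal.map (eU : K ⊗[k] Γ(X, U) →+* Γ(X', g ⁻¹ᵁ U)) J
    let eJ : ((K ⊗[k] Γ(X, U)) ⧸ J) ≃ₐ[K] (Γ(X', g ⁻¹ᵁ U) ⧸ J') := Ideal.quotientEquivAlg J J' eU rfl
    haveI := hJ
    obtain ⟨g', hg', hgJ⟩ := h J' (Module.Finite.equiv eJ.toLinearEquiv)
      (eJ.toLinearEquiv.finrank_eq.symm.trans_le hJ2) (eU b)
    refine ⟨eU.symm g', ?_, ?_⟩
    · refine (Subring.closure_le (t := F.range.toSubring.comap eU.symm.toRingHom)).2 ?_ hg'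
      rintro g'' (⟨r, rfl⟩ | ⟨l, hl⟩)
      · show eU.symm (algebraMap K Γ(X', g ⁻¹ᵁ U) r) ∈ F.range
        rw [AlgEquiv.commutes]
        exact Subalgebra.algebraMap_mem _ r
      · obtain ⟨f, hf, -⟩ := c.exists_ratio (a j) (a l)
        have h1 : (g.appLE U (g ⁻¹ᵁ U) le_rfl).hom f • c'.sectRes (le_top : g ⁻¹ᵁ U ≤ ⊤) (a' j) =
            c'.sectRes le_top (a' l) := by
          rw [sectRes_pullSect' g c, sectRes_pullSect' g c, ← pullSect_smul'' g c, ← hf]
        have h2 : g'' = eU (1 ⊗ₜ f) := by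
          rw [heU]
          exact c'.smul_injective_of_le_locus (a' j) (hloc j).ge (hl.trans h1.symm)
        refine ⟨1 ⊗ₜ ⟨f, Subring.subset_closure (Or.inr ⟨l, hf.symm⟩)⟩, ?_⟩
        rw [h2]
        exact (eU.symm_apply_apply _).symm
    · obtain ⟨t, ht, ht'⟩ := (Ideal.mem_map_iff_of_surjective _ eU.surjective).1 hgJ
      have : b - eU.symm g' = t := eU.injective (by rw [map_sub, AlgEquiv.apply_symm_apply]; exact ht'.symm)
      rw [this]
      exact ht
  have hW : IsAffineOpen (c'.locus (a' j)) := by rw [hloc]; exact (haff j).preimage g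
  exact show b ∈ S from (key _ (hloc j) hW (hsep' j hW)) ▸ Algebra.mem_top

end GrothLib.CurveMult
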