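import Groth.Agent.Lib.CurveSerre11.TailsApp
import Groth.Agent.Lib.CurveSerre11.NodalMeet
import Groth.Agent.Lib.CurveMult.GenusZero
import Groth.Agent.Lib.CurveRR.Main
import Groth.Agent.Lib.FunFld.Conseq
import Groth.Agent.Lib.SchImage.Reduced
import Groth.Agent.Lib.CurveMult.BaseChangeH
import Groth.Agent.Lib.ProjCohom.Corollaries
import Groth.Agent.S14512

/-!
# Smooth rational components over an algebraically closed field
-/

set_option autoImplicit false
set_option linter.all false
set_option backward.isDefEq.respectTransparency false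
set_option maxHeartbeats 1000000

universe u

open CategoryTheory CategoryTheory.Limits AlgebraicGeometry TopologicalSpace

noncomputable section

namespace GrothLib.FMAdj25

open GrothLib.CurveSerre11 GrothLib.SubCurve16

variable {k : Type u} [Field k] [IsAlgClosed k] {X : Scheme.{u}} [X.Over (Spec (CommRingCat.of k))]
  [IsProper (X ↘ Spec (CommRingCat.of k))] [AlgebraicGeometry.IsReduced X]

/-- A component is a smooth rational curve exactly when its `h¹` vanishes. -/
theorem isSmRatComp_iff [ConnectedSpace X] (hdim : topologicalKrullDim X = 1) {η : X} (hη : η ∈ genericPoints (X : Type u)) :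
    CurvSt.IsSmRatComp k X (X ↘ Spec (CommRingCat.of k)) (closure ({η} : Set X)) ↔
      Module.finrank k (Coh.HH X (ClSub.quotMod (JJ ({η} : Set X))) 1) = 0 := by
  haveI := Euler.isNoetherian_of_proper (X := X) k
  obtain ⟨hr, hirr, hconn, hd1⟩ := irreducible_JJ k hdim hη
  haveI := hr
  haveI := hirr
  haveI : IsIntegral (JJ ({η} : Set X)).subscheme := isIntegral_of_irreducibleSpace_of_isReduced _
  letI : (JJ ({η} : Set X)).subscheme.Over (Spec (CommRingCat.of k)) :=
    ⟨(JJ ({η} : Set X)).subschemeι ≫ X ↘ Spec (CommRingCat.of k)⟩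
  haveI hp : IsProper ((JJ ({η} : Set X)).subscheme ↘ Spec (CommRingCat.of k)) :=
    inferInstanceAs (IsProper ((JJ ({η} : Set X)).subschemeι ≫ X ↘ Spec (CommRingCat.of k)))
  rw [finrank_quotMod_eq k]
  constructor
  · rintro ⟨-, e, he, hek, hrange⟩
    haveI := he
    haveI : IsIntegral (CohB1.ProjSpace 1 k) := ProjDim.isIntegral_proj k 1
    haveI : IsProper (CohB1.ProjSpace.toSpec 1 k) := Chow.isProper_toSpec 1 k
    have hk : e.ker = JJ ({η} : Set X) := by
      rw [SchImage.ker_eq_vanishingIdeal]
      refine congrArg _ (Closeds.ext ?_)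
      show closure (Set.range e) = closure {η}
      rw [hrange, closure_closure]
    let φ := IsClosedImmersion.lift (JJ ({η} : Set X)).subschemeι e
      (by rw [Scheme.IdealSheafData.ker_subschemeι, hk])
    haveI : IsIso φ := IsClosedImmersion.isIso_lift _ _
      (by rw [Scheme.IdealSheafData.ker_subschemeι, hk])
    have hφ : (asIso φ).hom ≫ ((JJ ({η} : Set X)).subscheme ↘ Spec (CommRingCat.of k)) = CohB1.ProjSpace.toSpec 1 k := by
      show φ ≫ (JJ ({η} : Set X)).subschemeι ≫ (X ↘ Spec (CommRingCat.of k)) = _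
      rw [← Category.assoc, IsClosedImmersion.lift_fac, hek]
    letI : (CohB1.ProjSpace 1 k).Over (Spec (CommRingCat.of k)) := ⟨CohB1.ProjSpace.toSpec 1 k⟩
    have hsq : IsPullback (asIso φ).hom ((CohB1.ProjSpace 1 k) ↘ Spec (CommRingCat.of k))
        ((JJ ({η} : Set X)).subscheme ↘ Spec (CommRingCat.of k)) (Spec.map (CommRingCat.ofHom (RingHom.id k))) := by
      rw [CommRingCat.ofHom_id, Spec.map_id]
      exact IsPullback.of_horiz_isIso ⟨hφ.trans (Category.comp_id _).symm⟩
    refine (CurveMult.finrank_HH_structure_baseChange (RingHom.id k) _ hsq 1).symm.trans ?_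
    haveI := ProjCohom.subsingleton_HH_structure (n := 1) (R := k) (q := 1) one_pos
    exact Module.finrank_zero_of_subsingleton
  · intro h
    haveI : Smooth ((JJ ({η} : Set X)).subscheme ↘ Spec (CommRingCat.of k)) :=
      Groth.Agent.S14512.result k (JJ ({η} : Set X)).subscheme hd1 h
    haveI := Euler.finiteDimensional_HH k
      (Euler.isCoh_of_isInvertible (Euler.isInvertible_structure (X := (JJ ({η} : Set X)).subscheme))) 1
    have hs : Subsingleton (Coh.HH (JJ ({η} : Set X)).subscheme (Coh.structureModule (JJ ({η} : Set X)).subscheme) 1) :=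
      Module.finrank_zero_iff.1 h
    haveI := CurveRR.regCurve_of_smooth ((JJ ({η} : Set X)).subscheme ↘ Spec (CommRingCat.of k)) hd1
    haveI : Nonempty (JJ ({η} : Set X)).subscheme := ConnectedSpace.toNonempty
    haveI := Euler.isNoetherian_of_proper (X := (JJ ({η} : Set X)).subscheme) k
    obtain ⟨y, -, hy⟩ := IsClosed.exists_closed_singleton (X := (JJ ({η} : Set X)).subscheme) isClosed_univ Set.univ_nonempty
    let P := CurveRR.place k (X := (JJ ({η} : Set X)).subscheme)
      ⟨y, fun hc => CurvePoints.genericPoint_not_isClosed hd1 (hc ▸ hy)⟩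
    obtain ⟨e, he⟩ := CurveMult.exists_iso_P1 k hd1 hs
      (L := CurveRR.oD k (Finsupp.single P 1)) (CurveRR.isInvertible_oD k _)
      (by rw [CurveRR.deg_oD, GrothLib.FunFld.deg_single, (CurveRR.isFG k).deg_eq_one P]; norm_num)
    refine ⟨hη, e.inv ≫ (JJ ({η} : Set X)).subschemeι, inferInstance, ?_, ?_⟩
    · rw [Category.assoc]
      show e.inv ≫ ((JJ ({η} : Set X)).subscheme ↘ Spec (CommRingCat.of k)) = _
      rw [← he]
      exact e.inv_hom_id_assoc _
    · have hs : Function.Surjective e.inv := e.inv.homeomorph.surjective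
      rw [Scheme.Hom.comp_base, TopCat.coe_comp, hs.range_comp, Scheme.IdealSheafData.range_subschemeι,
        Scheme.IdealSheafData.coe_support_vanishingIdeal]
      rfl

/-- The other components meet a component in its intersection with the closure of the complement. -/
theorem meetPts_eq [NoetherianSpace X] {C : Set X} (hC : C ∈ irreducibleComponents (X : Type u)) :
    CurvSt.meetPts X C = C ∩ closure Cᶜ := by
  have hcl := isClosed_of_mem_irreducibleComponents C hC
  refine Set.Subset.antisymm ?_ ?_
  · rintro x ⟨hxC, E, hE, hne, hxE⟩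
    refine ⟨hxC, ?_⟩
    obtain ⟨y, hy, hy'⟩ := Set.not_subset.1 fun hle : E ⊆ C => hne (hle.antisymm (hE.2 hC.1 hle))
    exact (subset_closure_inter_of_isPreirreducible_of_isOpen hE.1.2 hcl.isOpen_compl ⟨y, hy, hy'⟩).trans
      (closure_mono Set.inter_subset_right) hxE
  · rintro x ⟨hxC, hx⟩
    refine ⟨hxC, ?_⟩
    have hcover : closure Cᶜ ⊆ ⋃₀ {Z ∈ irreducibleComponents (X : Type u) | Z ≠ C} := by
      refine closure_minimal (fun y hy => ?_) ?_
      · exact ⟨_, ⟨irreducibleComponent_mem_irreducibleComponents y, fun h => hy (h ▸ mem_irreducibleComponent)⟩,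
          mem_irreducibleComponent⟩
      · rw [Set.sUnion_eq_biUnion]
        exact Set.Finite.isClosed_biUnion (NoetherianSpace.finite_irreducibleComponents.subset fun Z hZ => hZ.1)
          fun Z hZ => isClosed_of_mem_irreducibleComponents Z hZ.1
    obtain ⟨E, ⟨hE, hne⟩, hxE⟩ := hcover hx
    exact ⟨E, hE, hne, hxE⟩

/-- The meeting scheme of a component counts its meeting points. -/
theorem meet_eq_ncard [ConnectedSpace X] (hdim : topologicalKrullDim X = 1) (hX : Curv2.AtWorstNodal k X)
    {η : X} (hη : η ∈ genericPoints (X : Type u)) :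
    (closure ({η} : Set X) ∩ closure (closure ({η} : Set X))ᶜ).Finite ∧
      CurveSerre11.meet k ({η} : Set X) = (closure ({η} : Set X) ∩ closure (closure ({η} : Set X))ᶜ).ncard ∧
      Module.finrank k (Coh.HH X (ClSub.quotMod (JJ ({η} : Set X))) 0) = 1 := by
  haveI := Euler.isNoetherian_of_proper (X := X) k
  obtain ⟨hr, hirr, hconn, hd1⟩ := irreducible_JJ k hdim hη
  haveI := hr
  haveI := hconn
  have hsupp : ((JJ ({η} : Set X)).support : Set X) = closure {η} := support_JJ _
  refine ⟨?_, ?_, ?_⟩
  · refine (finite_of_notMem_genericPoints k hdim.le (isClosed_closure.inter isClosed_closure)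
      fun ζ hζ h => ?_).1
    have h1 : ζ = η := by
      have := mem_of_mem_closure (Set.singleton_subset_iff.2 hη) hζ h.1
      exact this
    subst h1
    have hker := vanishingIdeal_compl (k := k) hdim (S := ({ζ} : Set X)) (Set.singleton_subset_iff.2 hη)
    have hsup := congrArg (fun I : X.IdealSheafData => (I.support : Set X)) hker
    simp only [Scheme.IdealSheafData.coe_support_vanishingIdeal] at hsup
    exact notMem_support_compS (Set.singleton_subset_iff.2 hη) rfl (hsup ▸ h.2)
  · have h := finrank_meet hdim hX (JJ ({η} : Set X)) hd1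
    rw [Nat.card_coe_set_eq, hsupp] at h
    rw [← h]
    show Module.finrank k (Coh.HH X (ClSub.quotMod (JJ {η} ⊔ JJ (compS ({η} : Set X)))) 0) = _
    rw [← vanishingIdeal_compl (k := k) hdim (Set.singleton_subset_iff.2 hη)]
  · letI : (JJ ({η} : Set X)).subscheme.Over (Spec (CommRingCat.of k)) :=
      ⟨(JJ ({η} : Set X)).subschemeι ≫ X ↘ Spec (CommRingCat.of k)⟩
    haveI : IsProper ((JJ ({η} : Set X)).subscheme ↘ Spec (CommRingCat.of k)) :=
      inferInstanceAs (IsProper ((JJ ({η} : Set X)).subschemeι ≫ X ↘ Spec (CommRingCat.of k)))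
    rw [finrank_quotMod_eq k]
    exact ConnH0.finrank_H0_eq_one k

end GrothLib.FMAdj25
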