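import Groth.Agent.Lib.AffBC.Basic
import Groth.Agent.Lib.DeltaEuler.H0
import Groth.Agent.Lib.Euler.Scalar
import Groth.Agent.Lib.Snapper.PushTop
import Groth.Agent.Lib.FormalFun.HomComplete
import Groth.Agent.Lib.QCoh.Abelian
import Mathlib

/-!
# The counit of a finite étale morphism is a split epimorphism
-/

universe u

set_option autoImplicit false
set_option linter.all false
set_option backward.isDefEq.respectTransparency false
set_option maxHeartbeats 1000000

open CategoryTheory CategoryTheory.Limits AlgebraicGeometry TopologicalSpace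

noncomputable section

namespace GrothLib.FMAdj25

open GrothLib.QCoh (stalkLin)
open Scheme.Modules (pushforward pullbackPushforwardAdjunction)

/-- Restriction to a clopen part is a split epimorphism. -/
theorem isSplitEpi_unit_of_clopen {P Z : Scheme.{u}} (j : Z ⟶ P) [IsOpenImmersion j] [IsClosedImmersion j]
    (G : P.Modules) : IsSplitEpi ((pullbackPushforwardAdjunction j).unit.app G) := by
  classical
  let u := (Scheme.Modules.restrictAdjunction j).unit.app G
  have hcl : IsClopen (Set.range j) :=
    ⟨j.isClosedEmbedding.isClosed_range, j.isOpenEmbedding.isOpen_range⟩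
  obtain ⟨e, he⟩ := DeltaEuler.exists_idempotent (X := P) hcl
  let μ := Euler.smulMod G e
  have hbij : ∀ y ∈ Set.range j, Function.Bijective (stalkLin u y) := fun y hy =>
    Euler.stalkLin_bijective_of_app_bijective u (O := j.opensRange) hy fun V hV => by
      rw [← ConcreteCategory.isIso_iff_bijective, Scheme.Modules.restrictAdjunction_unit_app_app]
      have h' : j ''ᵁ (j ⁻¹ᵁ V) = V := by
        rw [j.image_preimage_eq_opensRange_inf, inf_eq_right.2 hV]
      rw [show (homOfLE (j.image_preimage_le V)) = eqToHom h' from Subsingleton.elim _ _]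
      infer_instance
  have hoff : ∀ y ∉ Set.range j,
      Subsingleton (((pushforward j).obj ((Scheme.Modules.restrictFunctor j).obj G)).presheaf.stalk y) :=
    fun y hy => Snapper.subsingleton_stalk_push j _ j.isClosedEmbedding.isClosed_range hy
  haveI hepi : Epi u := (OX.epi_iff _).2 fun y => (ModuleCat.epi_iff_surjective _).2 (by
    by_cases hy : y ∈ Set.range j
    · exact (hbij y hy).2
    · intro v
      exact ⟨0, @Subsingleton.elim _ (hoff y hy) _ _⟩)
  have hz : kernel.ι u ≫ μ = 0 := by
    refine FormalFun.hom_ext_stalkLin fun y v => ?_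
    rw [QCoh.stalkLin_comp]
    erw [Euler.stalkLin_smulMod]
    rw [he y]
    refine Eq.trans ?_ (LinearMap.congr_fun (congrArg ModuleCat.Hom.hom ((OX.stalk y).map_zero _ G)) v).symm
    by_cases hy : y ∈ Set.range j
    · rw [if_pos hy, one_smul]
      refine (hbij y hy).1 ?_
      rw [← QCoh.stalkLin_comp, kernel.condition]
      exact (LinearMap.congr_fun (congrArg ModuleCat.Hom.hom ((OX.stalk y).map_zero _ _)) v).trans
        (map_zero (stalkLin u y)).symm
    · rw [if_neg hy, zero_smul]
      rfl
  have hS : (ShortComplex.mk (kernel.ι u) u (kernel.condition u)).Exact :=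
    ShortComplex.exact_of_f_is_kernel _ (kernelIsKernel _)
  haveI : Epi (ShortComplex.mk (kernel.ι u) u (kernel.condition u)).g := hepi
  let τ := hS.desc μ hz
  have hτ : u ≫ τ = μ := hS.g_desc μ hz
  have hμu : μ ≫ u = u := by
    refine FormalFun.hom_ext_stalkLin fun y v => ?_
    rw [QCoh.stalkLin_comp, show stalkLin μ y v = P.presheaf.germ ⊤ y trivial e • v from
      Euler.stalkLin_smulMod G e y v, he y]
    by_cases hy : y ∈ Set.range j
    · rw [if_pos hy, one_smul]
    · exact @Subsingleton.elim _ (hoff y hy) _ _
  haveI : IsSplitEpi u := IsSplitEpi.mk' ⟨τ, by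
    rw [← cancel_epi u, ← Category.assoc, hτ, hμu, Category.comp_id]⟩
  rw [← Adjunction.unit_leftAdjointUniq_hom_app (Scheme.Modules.restrictAdjunction j)
    (pullbackPushforwardAdjunction j) G]
  exact inferInstanceAs (IsSplitEpi (u ≫ (pushforward j).map
    (((Scheme.Modules.restrictAdjunction j).leftAdjointUniq (pullbackPushforwardAdjunction j)).app G).hom))

variable {X X' : Scheme.{u}} (p : X' ⟶ X)

/-- The direct image along the diagonal followed by a projection is the identity. -/
def diagPushIso (q : Limits.pullback p p ⟶ X') (hq : Limits.pullback.diagonal p ≫ q = 𝟙 X') :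
    pushforward (Limits.pullback.diagonal p) ⋙ pushforward q ≅ 𝟭 X'.Modules :=
  Scheme.Modules.pushforwardComp _ _ ≪≫ Scheme.Modules.pushforwardCongr hq ≪≫ Scheme.Modules.pushforwardId X'

/-- The adjunction of the two steps of the identity through the diagonal. -/
def diagAdj : Scheme.Modules.pullback (Limits.pullback.fst p p) ⋙ Scheme.Modules.pullback (Limits.pullback.diagonal p) ⊣ 𝟭 X'.Modules :=
  ((pullbackPushforwardAdjunction (Limits.pullback.fst p p)).comp
    (pullbackPushforwardAdjunction (Limits.pullback.diagonal p))).ofNatIsoRight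
      (diagPushIso p (Limits.pullback.fst p p) (Limits.pullback.diagonal_fst p))

theorem isIso_diagAdj_unit (V : X'.Modules) : IsIso ((diagAdj p).unit.app V) := by
  have h := Adjunction.unit_leftAdjointUniq_hom_app (diagAdj p) (Adjunction.id (C := X'.Modules)) V
  simp only [Adjunction.id_unit, NatTrans.id_app, Functor.id_map] at h
  haveI := Iso.isIso_hom (((diagAdj p).leftAdjointUniq (Adjunction.id (C := X'.Modules))).app V)
  exact IsIso.of_isIso_fac_right h

/-- The restriction of the base change to the diagonal. -/
def diagRho (V : X'.Modules) :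
    (pushforward (Limits.pullback.snd p p)).obj ((Scheme.Modules.pullback (Limits.pullback.fst p p)).obj V) ⟶ V :=
  haveI := isIso_diagAdj_unit p V
  (pushforward (Limits.pullback.snd p p)).map
      ((pullbackPushforwardAdjunction (Limits.pullback.diagonal p)).unit.app
        ((Scheme.Modules.pullback (Limits.pullback.fst p p)).obj V)) ≫
    (diagPushIso p (Limits.pullback.snd p p) (Limits.pullback.diagonal_snd p)).hom.app _ ≫
      inv ((diagAdj p).unit.app V)

theorem diag_comps (M : (Limits.pullback p p).Modules) (N : X'.Modules)
    (f : M ⟶ (pushforward (Limits.pullback.diagonal p)).obj N) :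
    (Scheme.Modules.pushforwardComp (Limits.pullback.fst p p) p).hom.app M ≫
      (Scheme.Modules.pushforwardCongr Limits.pullback.condition).hom.app M ≫
        (Scheme.Modules.pushforwardComp (Limits.pullback.snd p p) p).inv.app M ≫
          (pushforward p).map ((pushforward (Limits.pullback.snd p p)).map f) ≫
            (pushforward p).map ((diagPushIso p (Limits.pullback.snd p p) (Limits.pullback.diagonal_snd p)).hom.app N) =
      (pushforward p).map ((pushforward (Limits.pullback.fst p p)).map f ≫
        (diagPushIso p (Limits.pullback.fst p p) (Limits.pullback.diagonal_fst p)).hom.app N) := by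
  refine Scheme.Modules.hom_ext _ _ fun U => ?_
  ext s
  simp only [diagPushIso, Functor.map_comp, Scheme.Modules.Hom.comp_app, Iso.trans_hom, NatTrans.comp_app,
    Scheme.Modules.pushforwardComp_hom_app_app, Scheme.Modules.pushforwardCongr_hom_app_app,
    Scheme.Modules.pushforwardComp_inv_app_app, Scheme.Modules.pushforwardId_hom_app_app, Category.id_comp,
    Category.comp_id, ConcreteCategory.comp_apply]
  change N.presheaf.map _ (f.app ((Limits.pullback.snd p p) ⁻¹ᵁ (p ⁻¹ᵁ U)) (M.presheaf.map _ s)) =
    N.presheaf.map _ (f.app ((Limits.pullback.fst p p) ⁻¹ᵁ (p ⁻¹ᵁ U)) s)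
  have key : ∀ {A B : (Limits.pullback p p).Opens} (i : B ⟶ A) (t : Γ(M, A)),
      f.app B (M.presheaf.map i.op t) =
        N.presheaf.map ((Opens.map (Limits.pullback.diagonal p).base).map i).op (f.app A t) :=
    fun i t => (QCoh.map_app f i t).symm
  refine (congrArg _ (key _ _)).trans ?_
  erw [← ConcreteCategory.comp_apply, ← Functor.map_comp]
  rfl

theorem bcMap_diagRho (V : X'.Modules) :
    AffBC.bcMap (IsPullback.of_hasPullback p p) V ≫ diagRho p V = (pullbackPushforwardAdjunction p).counit.app V := by
  refine ((pullbackPushforwardAdjunction p).homEquiv _ _).injective ?_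
  rw [Adjunction.homEquiv_naturality_right, AffBC.bcMap, Equiv.apply_symm_apply,
    Adjunction.homEquiv_unit, (pullbackPushforwardAdjunction p).right_triangle_components]
  haveI := isIso_diagAdj_unit p V
  simp only [AffBC.bcV, diagRho, Category.assoc, Functor.map_comp]
  have hu : (diagAdj p).unit.app V = (pullbackPushforwardAdjunction (Limits.pullback.fst p p)).unit.app V ≫
      (pushforward (Limits.pullback.fst p p)).map ((pullbackPushforwardAdjunction (Limits.pullback.diagonal p)).unit.app
        ((Scheme.Modules.pullback (Limits.pullback.fst p p)).obj V)) ≫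
      (diagPushIso p (Limits.pullback.fst p p) (Limits.pullback.diagonal_fst p)).hom.app _ := by
    simp [diagAdj, Adjunction.ofNatIsoRight, Adjunction.mkOfHomEquiv, Adjunction.equivHomsetRightOfNatIso,
      Adjunction.comp]
  have hd := diag_comps p _ _ ((pullbackPushforwardAdjunction (Limits.pullback.diagonal p)).unit.app
        ((Scheme.Modules.pullback (Limits.pullback.fst p p)).obj V))
  rw [reassoc_of% hd, ← Functor.map_comp_assoc, ← hu, ← Functor.map_comp,
    IsIso.hom_inv_id]
  exact (pushforward p).map_id V

/-- **The counit of a finite étale morphism is a split epimorphism.** -/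
theorem isSplitEpi_counit [IsFinite p] [Etale p] (V : X'.Modules) (hV : Coh.IsQCoh V) :
    IsSplitEpi ((pullbackPushforwardAdjunction p).counit.app V) := by
  haveI : V.IsQuasicoherent := hV
  haveI := isIso_diagAdj_unit p V
  haveI := AffBC.isIso_bcMap (IsPullback.of_hasPullback p p) V
  haveI := isSplitEpi_unit_of_clopen (Limits.pullback.diagonal p) ((Scheme.Modules.pullback (Limits.pullback.fst p p)).obj V)
  rw [← bcMap_diagRho p V, diagRho]
  infer_instance

end GrothLib.FMAdj25

end
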