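import Groth.Agent.Lib.BiratEuler12.Main
import Groth.Agent.Lib.ConnH0.Basic
import Groth.Agent.Lib.ModelK.Rank
import Groth.Agent.Lib.RefK12.Stalk
import Groth.Agent.Lib.ProjFormula.Iso

/-!
# Bundles on a connected curve with `H¹(O) = 0` and on a modification at finitely many points
-/

universe u

set_option autoImplicit false
set_option linter.all false
set_option backward.isDefEq.respectTransparency false
set_option maxHeartbeats 1000000

open CategoryTheory CategoryTheory.Limits AlgebraicGeometry TopologicalSpace Opposite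

noncomputable section

namespace GrothLib.FMAdj25

open GrothLib.QCoh (stalkLin)
open GrothLib.Euler (tF)

variable (k : Type u) [Field k] {X Y : Scheme.{u}} [X.Over (Spec (CommRingCat.of k))]
  [Y.Over (Spec (CommRingCat.of k))] [IsProper (X ↘ Spec (CommRingCat.of k))]
  [IsProper (Y ↘ Spec (CommRingCat.of k))] (φ : Y ⟶ X)
  (hφ : φ ≫ X ↘ Spec (CommRingCat.of k) = Y ↘ Spec (CommRingCat.of k))
  (U : X.Opens) (hU : ((U : Set X)ᶜ).Finite) [IsIso (φ ∣_ U)]

include hφ hU in
/-- Higher direct images are supported on the exceptional set. -/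
theorem rpush_notMem_support [HasInjectiveResolutions Y.Modules] (i : ℕ) (hi : 0 < i) {x : X} (hx : x ∈ U) :
    x ∉ CohB1.support ((Coh.Rpush φ i).obj (Coh.structureModule Y)) := by
  haveI := Euler.isNoetherian_of_proper (X := X) k
  haveI := Euler.isNoetherian_of_proper (X := Y) k
  haveI : IsProper (φ ≫ X ↘ Spec (CommRingCat.of k)) := by rw [hφ]; infer_instance
  haveI : IsProper φ := IsProper.of_comp φ (X ↘ Spec (CommRingCat.of k))
  have hfin : (φ.base ⁻¹' {x}).Finite := by
    refine Set.Subsingleton.finite fun a ha b hb => ?_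
    have haU : a ∈ φ ⁻¹ᵁ U := show φ.base a ∈ U from (Set.mem_singleton_iff.1 ha).symm ▸ hx
    have hbU : b ∈ φ ⁻¹ᵁ U := show φ.base b ∈ U from (Set.mem_singleton_iff.1 hb).symm ▸ hx
    have hinj := (φ ∣_ U).isOpenEmbedding.injective
    have h := @hinj ⟨a, haU⟩ ⟨b, hbU⟩ (Subtype.ext (by
      have h1 : ((φ ∣_ U) ⟨a, haU⟩).1 = φ.base a := congrArg (fun f => f ⟨a, haU⟩) (congrArg (fun g : _ ⟶ X => g.base) (morphismRestrict_ι φ U))
      have h2 : ((φ ∣_ U) ⟨b, hbU⟩).1 = φ.base b := congrArg (fun f => f ⟨b, hbU⟩) (congrArg (fun g : _ ⟶ X => g.base) (morphismRestrict_ι φ U))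
      rw [h1, h2, Set.mem_singleton_iff.1 ha, Set.mem_singleton_iff.1 hb]))
    exact congrArg Subtype.val h
  intro hxs
  obtain ⟨e⟩ := Groth.Agent.S11319.result φ (Coh.structureModule Y) i
  exact hxs (AddCommGrpCat.subsingleton_of_isZero ((Groth.Agent.S0037.result φ x hfin (Coh.structureModule Y)
    (Euler.isCoh_of_isInvertible Euler.isInvertible_structure) i hi).of_iso
      ((TopCat.Presheaf.stalkFunctor AddCommGrpCat.{u} x).mapIso ((sheafToPresheaf _ _).mapIso e))))

/-- `χ` of a pullback is the alternating sum of `χ` of twists of the higher direct images. -/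
theorem exists_euler_pullback_sum {X Z : Scheme.{u}} [X.Over (Spec (CommRingCat.of k))]
    [Z.Over (Spec (CommRingCat.of k))] [IsProper (X ↘ Spec (CommRingCat.of k))]
    [IsProper (Z ↘ Spec (CommRingCat.of k))] {g : Z ⟶ X}
    (hg : g ≫ X ↘ Spec (CommRingCat.of k) = Z ↘ Spec (CommRingCat.of k)) [HasInjectiveResolutions Z.Modules] :
    ∃ M₀ : ℕ, ∀ N : X.Modules, FlatMod.IsFinLocFree N →
      Curv2.euler k Z ((Scheme.Modules.pullback g).obj N) = ∑ i ∈ Finset.range (M₀ + 1),
        (-1 : ℤ) ^ i * Curv2.euler k X ((tF N).obj ((Coh.Rpush g i).obj (Coh.structureModule Z))) := by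
  haveI := Euler.isNoetherian_of_proper (X := X) k
  haveI := Euler.isNoetherian_of_proper (X := Z) k
  haveI : IsProper (g ≫ X ↘ Spec (CommRingCat.of k)) := by rw [hg]; infer_instance
  haveI : IsProper g := IsProper.of_comp g (X ↘ Spec (CommRingCat.of k))
  haveI : (QCoh.toAbFun X).Faithful := inferInstanceAs (SheafOfModules.toSheaf _).Faithful
  let O := Coh.structureModule Z
  have hO : Coh.IsCoh O := Euler.isCoh_of_isInvertible Euler.isInvertible_structure
  let R := fun i => (Coh.Rpush g i).obj O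
  obtain ⟨M₀, hM₀⟩ := Groth.Agent.S0031.result g
  have hRz : ∀ i, M₀ ≤ i → IsZero (R i) := fun i hi => by
    obtain ⟨e⟩ := Groth.Agent.S11319.result g O i
    have h : IsZero ((QCoh.toAbFun X).obj (R i)) := (hM₀ O hO.1 i hi).of_iso e
    rw [IsZero.iff_id_eq_zero] at h ⊢
    apply (QCoh.toAbFun X).map_injective
    rw [CategoryTheory.Functor.map_id, Functor.map_zero]
    exact h
  refine ⟨M₀, fun N hN => ?_⟩
  let G := CohB1.tensorMod ((Scheme.Modules.pullback g).obj N) O
  have eG : G ≅ (Scheme.Modules.pullback g).obj N := Euler.tFUnitIso _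
  have hG : Coh.IsCoh G := QCoh.isCoh_of_iso eG.symm (Euler.isCoh_of_isFinLocFree (OX.isFinLocFree_pullback g hN))
  have hi : ∀ i, Curv2.euler k X ((Coh.Rpush g i).obj G) = Curv2.euler k X ((tF N).obj (R i)) := fun i => by
    obtain ⟨e⟩ := Groth.Agent.S0927.result g O N hN i
    exact Euler.euler_of_iso k ((((OX.tensorBraiding (X := X)).app N).app (R i) ≪≫ e).symm)
  rw [← Euler.euler_of_iso k eG, Snapper.euler_eq_finsum_Rpush k hg G hG,
    finsum_eq_sum_of_support_subset _ (s := Finset.range (M₀ + 1)) (fun i hi' => ?_)]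
  · exact Finset.sum_congr rfl fun i _ => by rw [hi i]
  · rw [Finset.coe_range, Set.mem_Iio]
    by_contra hle
    exact hi' (show (-1 : ℤ) ^ i * Curv2.euler k X ((Coh.Rpush g i).obj G) = 0 by
      rw [hi i, Snapper.euler_eq_zero_of_isZero k ((tF N).map_isZero (hRz i (by omega))), mul_zero])


include k in
/-- A module with finite support and no sections is zero. -/
theorem isZero_of_finite_support_h0 {M : X.Modules} (hfin : (CohB1.support M).Finite)
    (hcl : ∀ x ∈ CohB1.support M, IsClosed ({x} : Set X)) (h : Subsingleton (Coh.HH X M 0)) : IsZero M := by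
  refine RefK12.isZero_of_support_eq_empty (Set.eq_empty_iff_forall_notMem.2 fun x hx => hx ?_)
  have hΓ : Subsingleton Γ(M, ⊤) := (ProjCoh.H0top M).symm.toEquiv.subsingleton
  have hfl := Euler.isFlasque_of_finite_support M hfin hcl
  refine subsingleton_of_forall_eq 0 fun e => ?_
  obtain ⟨V, hxV, s, rfl⟩ := TopCat.Presheaf.exists_germ_eq M.presheaf e
  haveI := hfl
  obtain ⟨t, ht⟩ := (AddCommGrpCat.epi_iff_surjective _).1
    (hfl.epi (homOfLE (le_top : V ≤ ⊤)).op) s
  have ht' : M.presheaf.map (homOfLE (le_top : V ≤ ⊤)).op t = s := ht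
  rw [← ht', show t = 0 from @Subsingleton.elim _ hΓ t 0]
  erw [map_zero, map_zero]

variable [IsAlgClosed k] [IsReduced X] [ConnectedSpace X] [IsReduced Y] [ConnectedSpace Y]
  (hX1 : Subsingleton (Coh.HH X (Coh.structureModule X) 1))

include hφ hU hX1 in
theorem isIso_unitToPush_of_acyclic : IsIso (ClSub.unitToPush φ) := by
  classical
  haveI := Euler.isNoetherian_of_proper (X := X) k
  haveI := Euler.isNoetherian_of_proper (X := Y) k
  have hcl : ∀ x ∈ ((U : Set X)ᶜ), IsClosed ({x} : Set X) := fun x hx =>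
    SurfRR28.isClosed_singleton_of_finite k U.isOpen.isClosed_compl hU hx
  let A := Coh.structureModule X
  let B := (Scheme.Modules.pushforward φ).obj (Coh.structureModule Y)
  let u : A ⟶ B := ClSub.unitToPush φ
  have hb : ∀ x, x ∉ (U : Set X)ᶜ → Function.Bijective (stalkLin u x) := fun x hx =>
    Euler.stalkLin_bijective_of_app_bijective _ (O := U) (Set.notMem_compl_iff.1 hx) fun T hT =>
      BlowPt28.bijective_app_of_le φ U (fun T' => inferInstance) hT
  have hA := ConnH0.finrank_H0_eq_one (X := X) k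
  have hB : Module.finrank k (Coh.HH X B 0) = 1 :=
    (Snapper.h0PushLin hφ (Coh.structureModule Y)).finrank_eq.trans (ConnH0.finrank_H0_eq_one (X := Y) k)
  haveI : FiniteDimensional k (Coh.HH X A 0) := Module.finite_of_finrank_eq_succ hA
  haveI : FiniteDimensional k (Coh.HH X B 0) := Module.finite_of_finrank_eq_succ hB
  let u0 := Cohom.hhMap k u 0
  have hu0 : Function.Injective u0 := by
    let one : Coh.HH X A 0 := (ProjCoh.H0top A).symm (show Γ(A, ⊤) from (1 : Γ(X, ⊤)))
    have h1 : ProjCoh.H0top B (u0 one) = (show Γ(B, ⊤) from (1 : Γ(Y, ⊤))) := by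
      refine (ProjCoh.H0top_map ((QCoh.toAbFun _).map u) one).trans ?_
      erw [AddEquiv.apply_symm_apply]
      exact map_one (φ.appTop).hom
    haveI : Nonempty (⊤ : Y.Opens) := ⟨⟨Classical.arbitrary Y, trivial⟩⟩
    have hne : u0 one ≠ 0 := fun h => one_ne_zero (α := Γ(Y, ⊤))
      (h1.symm.trans ((congrArg (ProjCoh.H0top B) h).trans (map_zero _)))
    have hone : one ≠ 0 := fun h => hne (by rw [h, map_zero])
    refine (injective_iff_map_eq_zero u0).2 fun v hv => ?_
    obtain ⟨a, rfl⟩ := (finrank_eq_one_iff_of_nonzero' _ hone).1 hA v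
    rw [map_smul] at hv
    rw [(smul_eq_zero.1 hv).resolve_right hne, zero_smul]
  haveI hmono : Mono u := by
    refine Preadditive.mono_of_isZero_kernel u ?_
    have hK : CohB1.support (kernel u) ⊆ (U : Set X)ᶜ := fun x hx => by_contra fun h =>
      QCoh.notMem_support_kernel_of_injective u (hb x h).1 hx
    refine isZero_of_finite_support_h0 k (hU.subset hK) (fun x hx => hcl x (hK hx)) ?_
    refine subsingleton_of_forall_eq 0 fun z => ?_
    have h2 : u0 (Cohom.hhMap k (kernel.ι u) 0 z) = 0 := by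
      refine (ProjCoh.H0top B).injective ?_
      rw [map_zero]
      refine (ProjCoh.H0top_map ((QCoh.toAbFun _).map u) _).trans ?_
      erw [ProjCoh.H0top_map ((QCoh.toAbFun _).map (kernel.ι u)) z]
      exact congrArg (fun f : kernel u ⟶ B => f.app ⊤ (ProjCoh.H0top (kernel u) z)) (kernel.condition u)
    have h3 := hu0 (h2.trans (map_zero u0).symm)
    refine (ProjCoh.H0top (kernel u)).injective (Cohom.app_injective_of_mono (kernel.ι u) ⊤ ?_)
    rw [map_zero, map_zero]
    refine (ProjCoh.H0top_map ((QCoh.toAbFun _).map (kernel.ι u)) z).symm.trans ?_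
    rw [← Cohom.hhMap_apply (A := k), h3, map_zero]
  have hS : (ShortComplex.mk u (cokernel.π u) (cokernel.condition u)).ShortExact :=
    { exact := ShortComplex.exact_of_g_is_cokernel _ (cokernelIsCokernel _) }
  have hQ : CohB1.support (cokernel u) ⊆ (U : Set X)ᶜ := fun x hx => by_contra fun h =>
    QCoh.notMem_support_cokernel_of_surjective u (hb x h).2 hx
  have hz : IsZero (cokernel u) := by
    refine isZero_of_finite_support_h0 k (hU.subset hQ) (fun x hx => hcl x (hQ hx)) ?_
    refine subsingleton_of_forall_eq 0 fun z => ?_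
    obtain ⟨w, rfl⟩ := (Cohom.exact₃ (A := k) hS 0 z).1 (@Subsingleton.elim _ hX1 _ _)
    obtain ⟨a, rfl⟩ := (LinearMap.injective_iff_surjective_of_finrank_eq_finrank (hA.trans hB.symm)).1 hu0 w
    refine (ProjCoh.H0top (cokernel u)).injective ?_
    rw [map_zero]
    refine (ProjCoh.H0top_map ((QCoh.toAbFun _).map (cokernel.π u)) _).trans ?_
    erw [ProjCoh.H0top_map ((QCoh.toAbFun _).map u) a]
    exact congrArg (fun f : A ⟶ cokernel u => f.app ⊤ (ProjCoh.H0top A a)) (cokernel.condition u)
  haveI : Epi u := Preadditive.epi_of_isZero_cokernel u hz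
  exact isIso_of_mono_of_epi u

include hφ hU hX1 in
/-- Pulling back bundles does not change cohomology. -/
theorem finrank_HH_pullback (hY1 : Subsingleton (Coh.HH Y (Coh.structureModule Y) 1))
    (hdX : topologicalKrullDim X ≤ 1) (hdY : topologicalKrullDim Y ≤ 1)
    {F : X.Modules} (hF : FlatMod.IsFinLocFree F) :
    Module.finrank k (Coh.HH X F 0) = Module.finrank k (Coh.HH Y ((Scheme.Modules.pullback φ).obj F) 0) ∧
      Module.finrank k (Coh.HH X F 1) = Module.finrank k (Coh.HH Y ((Scheme.Modules.pullback φ).obj F) 1) := by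
  classical
  haveI := Euler.isNoetherian_of_proper (X := X) k
  haveI := Euler.isNoetherian_of_proper (X := Y) k
  haveI : IsProper (φ ≫ X ↘ Spec (CommRingCat.of k)) := by rw [hφ]; infer_instance
  haveI : IsProper φ := IsProper.of_comp φ (X ↘ Spec (CommRingCat.of k))
  letI := RpushSupp20.hasInjectiveResolutions Y
  haveI := isIso_unitToPush_of_acyclic k φ hφ U hU hX1
  haveI := ProjFormula.isIso_projHom φ hF (Coh.structureModule Y)
  let e : F ≅ (Scheme.Modules.pushforward φ).obj ((Scheme.Modules.pullback φ).obj F) :=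
    (OX.tensorUnitLeftIso F).symm ≪≫ (tF F).mapIso (asIso (ClSub.unitToPush φ)) ≪≫
      ((OX.tensorBraiding (X := X)).app F).app _ ≪≫ asIso (ProjFormula.projHom φ F (Coh.structureModule Y)) ≪≫
      (Scheme.Modules.pushforward φ).mapIso (Euler.tFUnitIso _)
  have h0 : Module.finrank k (Coh.HH X F 0) =
      Module.finrank k (Coh.HH Y ((Scheme.Modules.pullback φ).obj F) 0) :=
    (Euler.hhEquiv (A := k) e 0).finrank_eq.trans (Snapper.h0PushLin hφ _).finrank_eq
  refine ⟨h0, ?_⟩
  obtain ⟨r, hr⟩ := ModelK.exists_rank_connected hF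
  obtain ⟨M₀, hM₀⟩ := exists_euler_pullback_sum k (g := φ) hφ
  have hO : PicF.IsInvertible (Coh.structureModule X) := Euler.isInvertible_structure
  have h1 := hM₀ F hF
  have h2 := hM₀ (Coh.structureModule X) (Euler.isFinLocFree_of_isInvertible hO)
  rw [Euler.euler_of_iso k (Ample.nonempty_pullback_structureModule φ).some] at h2
  let R := fun i => (Coh.Rpush φ i).obj (Coh.structureModule Y)
  have hR : ∀ i, Coh.IsCoh (R i) := fun i => Cohom.isCoh_Rpush φ _
    (Euler.isCoh_of_isInvertible Euler.isInvertible_structure) i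
  have hcl : ∀ x ∈ ((U : Set X)ᶜ), IsClosed ({x} : Set X) := fun x hx =>
    SurfRR28.isClosed_singleton_of_finite k U.isOpen.isClosed_compl hU hx
  have hterm : ∀ i, Curv2.euler k X ((tF F).obj (R i)) - r * Curv2.euler k X ((tF (Coh.structureModule X)).obj (R i)) =
      if i = 0 then Curv2.euler k X F - r * Curv2.euler k X (Coh.structureModule X) else 0 := by
    intro i
    rw [Euler.euler_of_iso k (Euler.tFUnitIso (R i))]
    rcases Nat.eq_zero_or_pos i with rfl | hi
    · rw [if_pos rfl]
      let e0 : R 0 ≅ Coh.structureModule X :=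
        (Scheme.Modules.pushforward φ).rightDerivedZeroIsoSelf.app _ ≪≫ (asIso (ClSub.unitToPush φ)).symm
      rw [Euler.euler_of_iso k e0, Euler.euler_of_iso k ((tF F).mapIso e0 ≪≫ OX.tensorUnitLeftIso F)]
    · rw [if_neg hi.ne']
      have hs : CohB1.support (R i) ⊆ (U : Set X)ᶜ := fun x hx hxU => rpush_notMem_support k φ hφ U hU i hi hxU hx
      rw [Euler.euler_tF_of_finite_support k hr (hR i) (hU.subset hs) (fun x hx => hcl x (hs hx)), sub_self]
  have key : Curv2.euler k Y ((Scheme.Modules.pullback φ).obj F) - r * Curv2.euler k Y (Coh.structureModule Y) =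
      Curv2.euler k X F - r * Curv2.euler k X (Coh.structureModule X) := by
    rw [h1, h2, Finset.mul_sum, ← Finset.sum_sub_distrib, Finset.sum_eq_single 0]
    · rw [pow_zero, one_mul, one_mul, hterm 0, if_pos rfl]
    · intro i _ hi
      rw [← mul_assoc (r : ℤ), mul_comm (r : ℤ), mul_assoc, ← mul_sub, hterm i, if_neg hi, mul_zero]
    · intro h
      simp at h
  haveI : F.IsQuasicoherent := (Euler.isCoh_of_isFinLocFree hF).1
  haveI : ((Scheme.Modules.pullback φ).obj F).IsQuasicoherent :=
    (Euler.isCoh_of_isFinLocFree (OX.isFinLocFree_pullback φ hF)).1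
  haveI : (Coh.structureModule X).IsQuasicoherent := (Euler.isCoh_of_isInvertible Euler.isInvertible_structure).1
  haveI : (Coh.structureModule Y).IsQuasicoherent := (Euler.isCoh_of_isInvertible Euler.isInvertible_structure).1
  rw [Euler.euler_eq_sub k hdY, Euler.euler_eq_sub k hdY, Euler.euler_eq_sub k hdX, Euler.euler_eq_sub k hdX,
    ConnH0.finrank_H0_eq_one (X := X) k, ConnH0.finrank_H0_eq_one (X := Y) k,
    @Module.finrank_zero_of_subsingleton k _ _ _ _ _ hX1, @Module.finrank_zero_of_subsingleton k _ _ _ _ _ hY1,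
    h0] at key
  omega

end GrothLib.FMAdj25
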