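import Groth.Agent.Lib.NodeSplit16.Chain
import Groth.Agent.Lib.GGDesc10.Main
import Groth.Agent.Lib.TensorPerf20.FlatKernel
import Groth.Agent.Lib.QCoh.SupportPullback

/-!
# Global generation from restrictions with lifting of sections
-/

set_option autoImplicit false
set_option linter.all false
set_option backward.isDefEq.respectTransparency false
set_option maxHeartbeats 1000000

universe u

open CategoryTheory CategoryTheory.Limits AlgebraicGeometry TopologicalSpace Opposite

noncomputable section

namespace GrothLib.FMAdj25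

open GrothLib.QCoh (stalkLin)
open GrothLib.Euler (tF)

variable {k : Type u} [Field k] {X : Scheme.{u}} [X.Over (Spec (CommRingCat.of k))]
  [IsProper (X ↘ Spec (CommRingCat.of k))]

/-- A surjective endomorphism of a coherent module is an isomorphism. -/
theorem isIso_of_epi_endo {Y : Scheme.{u}} {M : Y.Modules} (hM : Coh.IsCoh M) (φ : M ⟶ M) [Epi φ] : IsIso φ := by
  haveI : Mono φ := by
    refine (OX.mono_iff φ).2 fun x => (ModuleCat.mono_iff_injective _).2 ?_
    haveI : Module.Finite (Y.presheaf.stalk x) ((OX.stalk x).obj M) := QuasiFlat.finite_stalk M hM x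
    exact OrzechProperty.injective_of_surjective_endomorphism _
      ((ModuleCat.epi_iff_surjective _).1 ((OX.epi_iff φ).1 inferInstance x))
  exact isIso_of_mono_of_epi φ

include k in
/-- With `H¹(F ⊗ I) = 0` every section over the subscheme lifts; so generators restrict to generators. -/
theorem epi_pullback_freeCover {F : X.Modules} (hF : FlatMod.IsFinLocFree F) (B : X.IdealSheafData)
    (h : Subsingleton (Coh.HH X ((tF F).obj (ClSub.idealMod B)) 1))
    (hgg : Curv2.IsGloballyGenerated ((Scheme.Modules.pullback B.subschemeι).obj F)) :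
    Epi ((Scheme.Modules.pullback B.subschemeι).map (FunMor20.freeCover F)) := by
  haveI := Euler.isNoetherian_of_proper (X := X) k
  letI : B.subscheme.Over (Spec (CommRingCat.of k)) := ⟨B.subschemeι ≫ X ↘ Spec (CommRingCat.of k)⟩
  haveI : IsProper (B.subscheme ↘ Spec (CommRingCat.of k)) :=
    inferInstanceAs (IsProper (B.subschemeι ≫ X ↘ Spec (CommRingCat.of k)))
  haveI := Euler.isNoetherian_of_proper (X := B.subscheme) k
  haveI := Euler.epi_toSubscheme B
  let S := ShortComplex.mk (ClSub.idealModι B) (ClSub.toSubscheme B) (kernel.condition _)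
  have hS : S.ShortExact :=
    { exact := ShortComplex.exact_of_f_is_kernel _ (kernelIsKernel S.g)
      mono_f := inferInstanceAs (Mono (kernel.ι _))
      epi_g := ‹_› }
  have hT := OX.tensor_map_shortExact (X := X) (F := F) (OX.flat_of_isFinLocFree hF) hS
  let T := S.map (tF F)
  haveI : Epi T.g := hT.epi_g
  haveI := ProjFormula.isIso_projHom B.subschemeι hF (Coh.structureModule B.subscheme)
  let i := B.subschemeι
  let F' := (Scheme.Modules.pullback i).obj F
  let e1 : (tF F).obj (ClSub.quotMod B) ≅ (Scheme.Modules.pushforward i).obj F' :=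
    ((OX.tensorBraiding (X := X)).app F).app _ ≪≫
      asIso (ProjFormula.projHom B.subschemeι F (Coh.structureModule B.subscheme)) ≪≫
      (Scheme.Modules.pushforward B.subschemeι).mapIso (Euler.tFUnitIso F')
  let e0 : (tF F).obj (Coh.structureModule X) ≅ F := OX.tensorUnitLeftIso F
  let φ : F ⟶ (Scheme.Modules.pushforward i).obj F' := e0.inv ≫ T.g ≫ e1.hom
  haveI : Epi φ := epi_comp' inferInstance (epi_comp' inferInstance inferInstance)
  have hlift : Function.Surjective (φ.app ⊤) := by
    intro t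
    have hsurj : Function.Surjective (Cohom.hhMap k φ 0) := by
      intro y
      obtain ⟨y', rfl⟩ := (Euler.hhEquiv (A := k) e1 0).surjective y
      obtain ⟨z, rfl⟩ := (Cohom.exact₃ (A := k) hT 0 y').1 (@Subsingleton.elim _ h _ _)
      obtain ⟨w, rfl⟩ := (Euler.hhEquiv (A := k) e0.symm 0).surjective z
      refine ⟨w, ?_⟩
      show Cohom.hhMap k (e0.inv ≫ T.g ≫ e1.hom) 0 w = _
      rw [Euler.hhMap_comp, Euler.hhMap_comp]
      rfl
    obtain ⟨w, hw⟩ := hsurj ((ProjCoh.H0top _).symm t)
    refine ⟨ProjCoh.H0top _ w, ?_⟩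
    have h1 := congrArg (ProjCoh.H0top _) hw
    rw [AddEquiv.apply_symm_apply] at h1
    exact (ProjCoh.H0top_map ((QCoh.toAbFun _).map φ) w).symm.trans h1
  let adj := Scheme.Modules.pullbackPushforwardAdjunction i
  let φ' : F' ⟶ F' := (adj.homEquiv F F').symm φ
  have hφ : φ = adj.unit.app F ≫ (Scheme.Modules.pushforward i).map φ' :=
    ((adj.homEquiv F F').apply_symm_apply φ).symm.trans (adj.homEquiv_unit F F' φ')
  haveI : Epi φ' := ⟨fun {N} a b hab => by
    have hp : (Scheme.Modules.pushforward i).map a = (Scheme.Modules.pushforward i).map b := by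
      refine (cancel_epi φ).1 ?_
      rw [hφ, Category.assoc, Category.assoc, ← Functor.map_comp, ← Functor.map_comp, hab]
    refine Scheme.Modules.hom_ext a b fun V => ?_
    obtain ⟨W, hW, hWV⟩ := (Scheme.Hom.isClosedEmbedding i).isInducing.isOpen_iff.1 V.2
    obtain rfl : i ⁻¹ᵁ ⟨W, hW⟩ = V := TopologicalSpace.Opens.ext hWV
    exact congrArg (fun f => Scheme.Modules.Hom.app f ⟨W, hW⟩) hp⟩
  haveI := isIso_of_epi_endo (Euler.isCoh_of_isFinLocFree (OX.isFinLocFree_pullback i hF)) φ'
  let q := FunMor20.freeCover F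
  refine ⟨fun {N} a b hab => ?_⟩
  have hs : ∀ s : Γ(F, ⊤), a.app ⊤ (QCoh.pullSec i F (le_top : (⊤ : B.subscheme.Opens) ≤ i ⁻¹ᵁ ⊤) s) =
      b.app ⊤ (QCoh.pullSec i F (le_top : (⊤ : B.subscheme.Opens) ≤ i ⁻¹ᵁ ⊤) s) := by
    intro s
    let o := (Sigma.ι (fun _ : Γ(F, ⊤) => Coh.structureModule X) s).app ⊤ (FinCov.one X ⊤)
    have hq : q.app ⊤ o = s := by
      show (Sigma.ι (fun _ : Γ(F, ⊤) => Coh.structureModule X) s ≫ q).app ⊤ (FinCov.one X ⊤) = s
      simp only [q, FunMor20.freeCover, Sigma.ι_desc]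
      exact (FinCov.homOfSection_one s ⊤).trans (LefEt7.presheaf_map_self _ _ _)
    have hn := QCoh.pullSec_natural i q (le_top : (⊤ : B.subscheme.Opens) ≤ i ⁻¹ᵁ ⊤) o
    rw [← hq]
    erw [← hn]
    exact congrArg (fun k => Scheme.Modules.Hom.app k ⊤ (QCoh.pullSec i _ (le_top : (⊤ : B.subscheme.Opens) ≤ i ⁻¹ᵁ ⊤) o)) hab
  have hall : ∀ t : Γ(F', ⊤), a.app ⊤ t = b.app ⊤ t := by
    intro t
    obtain ⟨s, hs'⟩ := hlift (φ'.app ⊤ t)
    have ht : QCoh.pullSec i F (le_top : (⊤ : B.subscheme.Opens) ≤ i ⁻¹ᵁ ⊤) s = t := by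
      have hinj : Function.Injective (φ'.app ⊤) := fun x y hxy => by
        have h1 : ∀ z, (inv φ').app ⊤ (φ'.app ⊤ z) = z := fun z => by
          show (φ' ≫ inv φ').app ⊤ z = z
          rw [IsIso.hom_inv_id]
          rfl
        rw [← h1 x, hxy, h1 y]
      refine hinj ?_
      rw [← hs', hφ]
      show φ'.app ⊤ (QCoh.pullSec i F _ s) = _
      simp only [QCoh.pullSec, AddMonoidHom.comp_apply]
      erw [LefEt7.presheaf_map_self]
      rfl
    rw [← ht]
    exact hs s
  obtain ⟨ι, p, hp⟩ := hgg
  exact (cancel_epi p).1 (LefEt7.eq_of_freeHom_top a b fun _ => hall _)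

include k in
/-- Global generation from global generation on a covering family with lifting of sections. -/
theorem isGloballyGenerated_of_cover {F : X.Modules} (hF : FlatMod.IsFinLocFree F)
    (h : ∀ x : X, ∃ B : X.IdealSheafData, x ∈ (B.support : Set X) ∧
      Subsingleton (Coh.HH X ((tF F).obj (ClSub.idealMod B)) 1) ∧
      Curv2.IsGloballyGenerated ((Scheme.Modules.pullback B.subschemeι).obj F)) :
    Curv2.IsGloballyGenerated F := by
  haveI := Euler.isNoetherian_of_proper (X := X) k
  have hFc := Euler.isCoh_of_isFinLocFree hF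
  haveI : F.IsQuasicoherent := hFc.1
  let q := FunMor20.freeCover F
  haveI : (∐ fun _ : Γ(F, ⊤) => Coh.structureModule X).IsQuasicoherent :=
    QCoh.isQuasicoherent_colimit _ fun _ => WeakAss.isQuasicoherent_structureModule
  have hC : Coh.IsCoh (cokernel q) := TensorPerf20.isCoh_of_epi (cokernel.π q) hFc (QCoh.isQuasicoherent_cokernel q)
  suffices Epi q from ⟨_, q, this⟩
  refine (OX.epi_iff q).2 fun x => ?_
  obtain ⟨B, hx, hH, hgg⟩ := h x
  obtain ⟨z, rfl⟩ := B.range_subschemeι.ge hx
  haveI := epi_pullback_freeCover (k := k) hF B hH hgg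
  let P := Scheme.Modules.pullback B.subschemeι
  haveI := (Scheme.Modules.pullbackPushforwardAdjunction B.subschemeι).isLeftAdjoint
  haveI : Epi (P.map (cokernel.π q)) := P.map_epi _
  have hz : P.map (cokernel.π q) = 0 := by
    refine (cancel_epi (P.map q)).1 ?_
    rw [← Functor.map_comp, cokernel.condition, Functor.map_zero, comp_zero]
  have h0 : IsZero (P.obj (cokernel q)) := IsZero.of_epi_eq_zero _ hz
  have hns : z ∉ CohB1.support (P.obj (cokernel q)) := fun hne => hne (show Subsingleton ((OX.stalk z).obj (P.obj (cokernel q))) from ModuleCat.subsingleton_of_isZero ((OX.stalk z).map_isZero h0))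
  rw [QCoh.support_pullback _ _ hC] at hns
  have hex := ((OX.exact_iff (ShortComplex.mk q (cokernel.π q) (cokernel.condition q))).1
    (ShortComplex.exact_of_g_is_cokernel _ (cokernelIsCokernel q)) (B.subschemeι z))
  rw [ModuleCat.epi_iff_surjective]
  intro v
  haveI : Subsingleton ((OX.stalk (B.subschemeι z)).obj (cokernel q)) := not_not.1 hns
  exact (ShortComplex.moduleCat_exact_iff _).1 hex v (Subsingleton.elim (α := (OX.stalk (B.subschemeι z)).obj (cokernel q)) _ _)

end GrothLib.FMAdj25
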