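import Groth.Agent.Lib.FMAdj25.SepBCReducible
import Groth.Agent.Lib.FMAdj25.CurveVA
import Groth.Agent.Lib.FMAdj25.LocUnitDeg
import Groth.Agent.Lib.FMAdj25.Gorenstein
import Groth.Agent.Lib.FMAdj25.Basic
import Groth.Agent.Lib.CurveSerre11.GorOmega
import Groth.Agent.Lib.CurveSerre11.TailsApp
import Groth.Agent.Lib.CurveMult.DegBound
import Groth.Agent.Lib.CurveLocus.Basic
import Groth.Agent.Lib.NodeEt.FieldExtBC
import Groth.Agent.Lib.Ample.RelAmple
import Groth.Agent.Lib.KSix19.RpushAmp.Main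
import Mathlib.FieldTheory.IsAlgClosed.AlgebraicClosure

/-! # The tricanonical embedding -/

set_option autoImplicit false
set_option maxHeartbeats 1000000
set_option linter.all false
set_option backward.isDefEq.respectTransparency false
universe u

open CategoryTheory CategoryTheory.Limits AlgebraicGeometry Opposite TopologicalSpace
attribute [local instance] HasDerivedCategory.standard

noncomputable section

namespace GrothLib.FMAdj25

open GrothLib.QCoh GrothLib.Euler GrothLib.CurveSerre11 GrothLib.SubCurve16 GrothLib.OX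

/-- Powers of isomorphic modules are isomorphic. -/
theorem nonempty_tensorPow_congr {X : Scheme.{u}} {A B : X.Modules} (e : A ≅ B) :
    ∀ n : ℕ, Nonempty (CohB1.tensorPow A n ≅ CohB1.tensorPow B n)
  | 0 => ⟨Iso.refl _⟩
  | n + 1 => by
    obtain ⟨i⟩ := nonempty_tensorPow_congr e n
    exact ⟨PicGrp.tensorModIso i e⟩

/-- On a nodal curve the dualizing complex is the dualizing module in degree `-1`. -/
theorem nonempty_dualizingCx_single {k : Type u} [Field k] {X : Scheme.{u}} [X.Over (Spec (CommRingCat.of k))]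
    [IsProper (X ↘ Spec (CommRingCat.of k))]
    [DCoh.HasRpush (X ↘ Spec (CommRingCat.of k))] (h : DCoh.RpushPreservesQCoh (X ↘ Spec (CommRingCat.of k)))
    [DCoh.HasShriek (X ↘ Spec (CommRingCat.of k)) h]
    (OY : DCoh.DQCoh (Spec (CommRingCat.of k)))
    (hOY : Nonempty (OY.obj ≅ DCoh.inD (Spec (CommRingCat.of k)) (Coh.structureModule (Spec (CommRingCat.of k)))))
    (hequi : ∀ Z ∈ irreducibleComponents (X : Type u), topologicalKrullDim Z = 1) (hX : Curv2.AtWorstNodal k X) :
    PicF.IsInvertible (DCoh.dualizingMod (X ↘ Spec (CommRingCat.of k)) h OY 1) ∧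
    Nonempty (DCoh.dualizingCx (X ↘ Spec (CommRingCat.of k)) h OY ≅
      (DerivedCategory.singleFunctor X.Modules (-1)).obj (DCoh.dualizingMod (X ↘ Spec (CommRingCat.of k)) h OY 1)) := by
  haveI := Euler.isNoetherian_of_proper (X := X) k
  haveI : ∀ R : CommRingCat.{u}, PreservesFiniteLimits (tilde.functor R) := fun R => inferInstance
  obtain ⟨hGor, -⟩ := Groth.Agent.S1589.result k X hequi hX
  let K := (DCoh.shriek (X ↘ Spec (CommRingCat.of k)) h).obj OY
  have hO' : Dual2.IsDualizingSch (Spec (CommRingCat.of k)) OY.obj := by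
    refine GrothLib.DualRing.isDualizingSch_of_dualCharts fun x => ?_
    obtain ⟨e⟩ := GrothLib.ShriekBridge22.nonempty_resD_unit (𝟙 (Spec (CommRingCat.of k))) hOY
    exact ⟨k, inferInstance, 𝟙 _, inferInstance, ⟨x, rfl⟩, _, GrothLib.ShriekBridge22.isDualizing_field k, ⟨e⟩⟩
  have hK : Dual2.IsDualizingSch X K.obj :=
    GrothLib.ShriekBridge22.isDualizingSch_adjoint _ h (DCoh.shriekAdj _ h) OY hO'
  have hinv : Dual3.IsInvertibleD K.obj := (Groth.Agent.S3620.result X K.obj hK).1 ⟨inferInstance, hGor⟩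
  have hCM : ∀ x : X, LocCoh.IsCohenMacaulayLocalRing (X.presheaf.stalk x) := fun x =>
    haveI := hGor x
    Groth.Agent.S0341.result (X.presheaf.stalk x)
  obtain ⟨hz, -, -⟩ := Groth.Agent.S3637.result k X (X ↘ Spec (CommRingCat.of k)) hCM 1 (by simpa using hequi) h
    _ (DCoh.shriekAdj _ h) OY hOY
  have hl : LocUnit K.obj := fun x => by
    obtain ⟨U, n, hx, ⟨e⟩⟩ := hinv x
    exact ⟨U, U.ι, inferInstance, n, ⟨⟨x, hx⟩, rfl⟩, ⟨e⟩⟩
  exact exists_invertible_single (W := K.obj) hl fun i hi => hz i (by simpa using hi)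

/-- Dualizing modules of nodal curves commute with extensions of the ground field. -/
theorem nonempty_pullback_dualizingMod {k K : Type u} [Field k] [Field K] {X X' : Scheme.{u}}
    [X.Over (Spec (CommRingCat.of k))] [X'.Over (Spec (CommRingCat.of K))]
    [IsProper (X ↘ Spec (CommRingCat.of k))] [IsProper (X' ↘ Spec (CommRingCat.of K))]
    (φ : k →+* K) (g : X' ⟶ X)
    (H : IsPullback g (X' ↘ Spec (CommRingCat.of K)) (X ↘ Spec (CommRingCat.of k)) (Spec.map (CommRingCat.ofHom φ)))
    [DCoh.HasRpush (X ↘ Spec (CommRingCat.of k))] (h : DCoh.RpushPreservesQCoh (X ↘ Spec (CommRingCat.of k)))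
    [DCoh.HasShriek (X ↘ Spec (CommRingCat.of k)) h]
    (OY : DCoh.DQCoh (Spec (CommRingCat.of k)))
    (hOY : Nonempty (OY.obj ≅ DCoh.inD (Spec (CommRingCat.of k)) (Coh.structureModule (Spec (CommRingCat.of k)))))
    [DCoh.HasRpush (X' ↘ Spec (CommRingCat.of K))] (h' : DCoh.RpushPreservesQCoh (X' ↘ Spec (CommRingCat.of K)))
    [DCoh.HasShriek (X' ↘ Spec (CommRingCat.of K)) h']
    (OY' : DCoh.DQCoh (Spec (CommRingCat.of K)))
    (hOY' : Nonempty (OY'.obj ≅ DCoh.inD (Spec (CommRingCat.of K)) (Coh.structureModule (Spec (CommRingCat.of K)))))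
    (hequi : ∀ Z ∈ irreducibleComponents (X : Type u), topologicalKrullDim Z = 1) (hX : Curv2.AtWorstNodal k X) :
    Nonempty ((Scheme.Modules.pullback g).obj (DCoh.dualizingMod (X ↘ Spec (CommRingCat.of k)) h OY 1) ≅
      DCoh.dualizingMod (X' ↘ Spec (CommRingCat.of K)) h' OY' 1) := by
  haveI := Euler.isNoetherian_of_proper (X := X) k
  haveI : Flat (Spec.map (CommRingCat.ofHom φ)) := by
    letI := φ.toAlgebra
    exact (HasRingHomProperty.Spec_iff (P := @Flat)).2 (inferInstanceAs (Module.Flat k K))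
  haveI : DCoh.HasLpull g := OX.hasLpull g
  obtain ⟨hω, ⟨e⟩⟩ := nonempty_dualizingCx_single h OY hOY hequi hX
  obtain ⟨eO⟩ := hOY
  obtain ⟨eO'⟩ := hOY'
  obtain ⟨b⟩ := nonempty_dualizingCx_bc H h h' OY eO OY' eO'
  obtain ⟨l⟩ := nonempty_lpull_single g hω (-1)
  let c := l.symm ≪≫ ((DCoh.Lpull g).mapIso e).symm ≪≫ b
  exact ⟨(HDSingleIso _ (-1)).symm ≪≫ (DerivedCategory.homologyFunctor _ (-1)).mapIso c⟩

/-- **The tricanonical embedding.** -/
theorem tricanonical {k : Type u} [Field k] (X : Scheme.{u}) [X.Over (Spec (CommRingCat.of k))]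
    [IsProper (X ↘ (Spec (CommRingCat.of k)))] (hdim : topologicalKrullDim X = 1)
    (h0 : Module.finrank k (Coh.HH X (Coh.structureModule X) 0) = 1) (hg : 2 ≤ Curv2.genus k X) (hX : Curv2.AtWorstNodal k X)
    [DCoh.HasRpush (X ↘ (Spec (CommRingCat.of k)))] (h : DCoh.RpushPreservesQCoh (X ↘ (Spec (CommRingCat.of k))))
    [DCoh.HasShriek (X ↘ (Spec (CommRingCat.of k))) h]
    (OY : DCoh.DQCoh (Spec (CommRingCat.of k)))
    (hOY : Nonempty (OY.obj ≅ DCoh.inD (Spec (CommRingCat.of k)) (Coh.structureModule (Spec (CommRingCat.of k)))))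
    (hample : CohB1.IsAmple (DCoh.dualizingMod (X ↘ (Spec (CommRingCat.of k))) h OY 1)) :
    (∃ (n : ℕ) (i : X ⟶ CohB1.ProjSpace n k), IsClosedImmersion i ∧
      i ≫ CohB1.ProjSpace.toSpec n k = X ↘ (Spec (CommRingCat.of k)) ∧
      Nonempty ((Scheme.Modules.pullback i).obj (Twist.twistProjSpace n k 1) ≅
        CohB1.tensorPow (DCoh.dualizingMod (X ↘ (Spec (CommRingCat.of k))) h OY 1) 3)) ∧
      Subsingleton (Coh.HH X (CohB1.tensorPow (DCoh.dualizingMod (X ↘ (Spec (CommRingCat.of k))) h OY 1) 3) 1) := by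
  let f := X ↘ Spec (CommRingCat.of k)
  haveI := Euler.isNoetherian_of_proper (X := X) k
  haveI := connected_of_h0 hdim h0
  have hequi := equidim_of_connected (k := k) hdim
  let ω := DCoh.dualizingMod f h OY 1
  obtain ⟨-, hω⟩ := nodal_data h OY hdim hOY hequi hX
  let L := CohB1.tensorPow ω 3
  have hL : PicF.IsInvertible L := Ample.isInvertible_tensorPow hω 3
  let K := AlgebraicClosure k
  let φ := Spec.map (CommRingCat.ofHom (algebraMap k K))
  let X' := Limits.pullback φ f
  letI : X'.Over (Spec (CommRingCat.of K)) := ⟨Limits.pullback.fst φ f⟩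
  let g := Limits.pullback.snd φ f
  have H : IsPullback g (X' ↘ Spec (CommRingCat.of K)) f φ := (IsPullback.of_hasPullback φ f).flip
  haveI : IsProper (X' ↘ Spec (CommRingCat.of K)) := inferInstanceAs (IsProper (Limits.pullback.fst φ f))
  haveI : Surjective φ := CurveLocus.surjective_to_spec_field φ
  haveI : Surjective g := MorphismProperty.of_isPullback (P := @Surjective) H.flip inferInstance
  haveI := Euler.isNoetherian_of_proper (X := X') K
  have hdim' : topologicalKrullDim X' = 1 := (CurveLocus.topologicalKrullDim_of_isPullback f H).trans hdim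
  have hX' : Curv2.AtWorstNodal K X' := NodeEt.atWorstNodal_of_isPullback f H hdim.le hX
  have h0' : Module.finrank K (Coh.HH X' (Coh.structureModule X') 0) = 1 :=
    (CurveMult.finrank_HH_structure_baseChange (algebraMap k K) g H 0).trans h0
  haveI := connected_of_h0 hdim' h0'
  have hequi' := equidim_of_connected (k := K) hdim'
  let π' := X' ↘ Spec (CommRingCat.of K)
  haveI : DCoh.HasRpush π' := KInj.hasRightDerivedFunctor _
  let h' := rpushPreservesQCoh π'
  haveI : DCoh.HasShriek π' h' :=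
    ((RightAdj22.aQAdj π').ofNatIsoLeft (RightAdj22.rpushQIso π' h').symm).isLeftAdjoint
  let OY' : DCoh.DQCoh (Spec (CommRingCat.of K)) := ⟨DCoh.inD _ (Coh.structureModule _),
    KSix19.RpushAmp.isQCohD_inD _ (inferInstanceAs (Coh.structureModule (Spec (CommRingCat.of K))).IsQuasicoherent)⟩
  have hOY' : Nonempty (OY'.obj ≅ DCoh.inD (Spec (CommRingCat.of K)) (Coh.structureModule (Spec (CommRingCat.of K)))) :=
    ⟨Iso.refl _⟩
  obtain ⟨hred', hω'⟩ := nodal_data h' OY' hdim' hOY' hequi' hX'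
  haveI := hred'
  obtain ⟨eω⟩ := nonempty_pullback_dualizingMod (algebraMap k K) g H h OY hOY h' OY' hOY' hequi hX
  let ω' := DCoh.dualizingMod π' h' OY' 1
  haveI : IsAffineHom g := BCCoh.isAffineHom_bc _ _ _ g H
  have hA' : CohB1.IsAmple ω' := (Ample.isAmple_iff_of_iso eω).1 (Ample.isAmple_pullback_of_isAffineHom g hample)
  let L' := CohB1.tensorPow ω' 3
  have hL' : PicF.IsInvertible L' := Ample.isInvertible_tensorPow hω' 3
  have hdeg : ∀ J : X'.IdealSheafData, IsReduced J.subscheme → ConnectedSpace J.subscheme →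
      topologicalKrullDim J.subscheme = 1 →
      2 * (@Curv2.genus K _ J.subscheme ⟨J.subschemeι ≫ (X' ↘ (Spec (CommRingCat.of K)))⟩ : ℤ) + 1 ≤
        @Curv2.deg K _ J.subscheme ⟨J.subschemeι ≫ (X' ↘ (Spec (CommRingCat.of K)))⟩
          ((Scheme.Modules.pullback J.subschemeι).obj L') 1 := by
    intro J hJr hJc hJ1
    haveI := hJr
    haveI := hJc
    have h1 := (ample_restrict K hdim' hω' hA' J hJ1).1
    have h2 := (numbers K hdim' h' OY' hOY' hω' J hJ1).1
    rw [deg_restrict_tensorPow K hdim'.le hω' J 3]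
    push_cast
    omega
  haveI : Subsingleton (Coh.HH X' L' 1) :=
    subsingleton_H1_of_deg K hdim' hL' fun J a b c => by have := hdeg J a b c; omega
  obtain ⟨ep⟩ := pullback_tensorPow g ω 3
  obtain ⟨ew⟩ : Nonempty (CohB1.tensorPow ((Scheme.Modules.pullback g).obj ω) 3 ≅ L') :=
    nonempty_tensorPow_congr eω 3
  obtain ⟨c, ⟨e⟩⟩ := Ample.exists_cocycle hL
  obtain ⟨e'⟩ := c.nonempty_pullback_twist g 1
  let eL' : (c.comap g).twist 1 ≅ L' := e'.symm ≪≫ (Scheme.Modules.pullback g).mapIso e.symm ≪≫ ep ≪≫ ew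
  have hc' := (c.comap g).isInvertible_twist 1
  haveI := (Euler.isCoh_of_isInvertible (c.isInvertible_twist 1)).1
  have eH : ∀ p, Module.finrank K (Coh.HH X' ((c.comap g).twist 1) p) = Module.finrank k (Coh.HH X (c.twist 1) p) :=
    fun p => (Euler.hhEquiv (A := K) e' p).finrank_eq.symm.trans
      (CurveMult.finrank_HH_baseChange (algebraMap k K) g H (c.twist 1) p)
  have hdeg'' : ∀ J : X'.IdealSheafData, IsReduced J.subscheme → ConnectedSpace J.subscheme →
      topologicalKrullDim J.subscheme = 1 →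
      2 * (@Curv2.genus K _ J.subscheme ⟨J.subschemeι ≫ (X' ↘ (Spec (CommRingCat.of K)))⟩ : ℤ) + 1 ≤
        @Curv2.deg K _ J.subscheme ⟨J.subschemeι ≫ (X' ↘ (Spec (CommRingCat.of K)))⟩
          ((Scheme.Modules.pullback J.subschemeι).obj ((c.comap g).twist 1)) 1 := fun J a b d => by
    letI : J.subscheme.Over (Spec (CommRingCat.of K)) := ⟨J.subschemeι ≫ (X' ↘ (Spec (CommRingCat.of K)))⟩
    exact (hdeg J a b d).trans (Euler.deg_of_iso K (X := J.subscheme)
      ((Scheme.Modules.pullback J.subschemeι).mapIso eL') 1).ge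
  have hH1 : Subsingleton (Coh.HH X L 1) := by
    haveI : Subsingleton (Coh.HH X' ((c.comap g).twist 1) 1) :=
      (Euler.hhEquiv (A := K) eL' 1).toEquiv.subsingleton
    haveI := Euler.finiteDimensional_HH k (Euler.isCoh_of_isInvertible (c.isInvertible_twist 1)) 1
    have h1 : Module.finrank k (Coh.HH X (c.twist 1) 1) = 0 := by rw [← eH 1, Module.finrank_zero_of_subsingleton]
    haveI : Subsingleton (Coh.HH X (c.twist 1) 1) := (Module.finrank_zero_iff (R := k)).1 h1
    exact (Euler.hhEquiv (A := k) e 1).toEquiv.subsingleton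
  refine ⟨?_, hH1⟩
  have hAL : CohB1.IsAmple L := (Ample.isAmple_tensorPow_iff hω (k := 3) (by omega)).1 hample
  have hdL' : Curv2.deg K X' L' 1 = 3 * (2 * (Curv2.genus K X' : ℤ) - 2) := by
    rw [deg_eq_ch K hdim'.le hL', EulerLin16.deg_tensorPow K hdim'.le hω' 3, ← deg_eq_ch K hdim'.le hω',
      deg_omega_self K hdim' h' OY' hOY' hω']
    rfl
  have hg' : Curv2.genus K X' = Curv2.genus k X :=
    CurveMult.finrank_HH_structure_baseChange (algebraMap k K) g H 1
  rw [← Euler.deg_of_iso K eL' 1, Curv2.deg, Nat.cast_one, one_mul, euler_structure_self K hdim', hg'] at hdL'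
  obtain ⟨N, hN⟩ : ∃ N, Module.finrank k (Coh.HH X (c.twist 1) 0) = N + 1 := by
    refine Nat.exists_eq_add_one.2 (by_contra fun hz => ?_)
    rw [← eH 0] at hz
    haveI := (Euler.isCoh_of_isInvertible hc').1
    haveI : Subsingleton (Coh.HH X' ((c.comap g).twist 1) 1) :=
      (Euler.hhEquiv (A := K) eL' 1).toEquiv.subsingleton
    have h2 := Euler.euler_eq_sub K hdim'.le ((c.comap g).twist 1)
    rw [Module.finrank_zero_of_subsingleton (R := K) (M := Coh.HH X' ((c.comap g).twist 1) 1)] at h2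
    rw [h2] at hdL'
    omega
  exact CurveMult.exists_closedImmersion_of_baseChange_bound' k K g H hdim.le hdim'.le c e hAL hN ((eH 0).trans hN)
    (bound_of_deg_subcurves hdim' hc' hdeg'')

end GrothLib.FMAdj25
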