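import Groth.Agent.Lib.FMAdj25.Gorenstein
import Groth.Agent.Lib.FMAdj25.Basic
import Groth.Agent.Lib.RightAdj20.PullDual
import Groth.Agent.Lib.FMComp25.Equiv

/-! # Twisted duals of kernels -/

set_option autoImplicit false
set_option maxHeartbeats 1000000
set_option linter.style.haveILetI false
set_option backward.isDefEq.respectTransparency false
universe u

open CategoryTheory CategoryTheory.Limits AlgebraicGeometry HomologicalComplex
open DerivedCategory (Q)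

attribute [local instance] HasDerivedCategory.standard

noncomputable section

namespace GrothLib.FMAdj25

open GrothLib.OX GrothLib.FMId25 GrothLib.FMComp25

/-- Adjoint functors between full subcategories restrict to smaller full subcategories. -/
def restrictSub {C D : Type*} [Category C] [Category D] {P Q' : ObjectProperty C} {P' R' : ObjectProperty D}
    (hP : P ≤ Q') (hP' : P' ≤ R') {F : C ⥤ D} {G : D ⥤ C} {h : ∀ M : Q'.FullSubcategory, R' ((Q'.ι ⋙ F).obj M)}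
    {h' : ∀ N : R'.FullSubcategory, Q' ((R'.ι ⋙ G).obj N)}
    (adj : R'.lift (Q'.ι ⋙ F) h ⊣ Q'.lift (R'.ι ⋙ G) h')
    (h₁ : ∀ M : P.FullSubcategory, P' ((P.ι ⋙ F).obj M))
    (h₁' : ∀ N : P'.FullSubcategory, P ((P'.ι ⋙ G).obj N)) :
    P'.lift (P.ι ⋙ F) h₁ ⊣ P.lift (P'.ι ⋙ G) h₁' :=
  adj.restrictFullyFaithful (ObjectProperty.fullyFaithfulιOfLE hP) (ObjectProperty.fullyFaithfulιOfLE hP')
    (Iso.refl _) (Iso.refl _)

variable {P : Scheme.{u}}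

/-- Homomorphisms into a twist of a perfect complex. -/
theorem nonempty_twist (K W : CochainComplex P.Modules ℤ) [DCoh.HasLTensorCx K] [DCoh.HasRSheafHom K]
    (hK : DCoh.IsPerfect (Q.obj K)) [DCoh.HasLTensorCx W] {M : DCoh.D P} (eM : Q.obj W ≅ M) :
    Nonempty ((DCoh.LTensorCx W).obj ((DCoh.RSheafHom K).obj (DCoh.inD P (Coh.structureModule P))) ≅
      (DCoh.RSheafHom K).obj M) := by
  obtain ⟨K₁, hK₁, ⟨eK⟩⟩ := exists_kflat_rep (Q.obj K)
  haveI := OX.hasLTensorCx K₁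
  haveI := OX.hasRSheafHom K₁
  obtain ⟨cK⟩ := nonempty_RSheafHom_congr (E := K) (E' := K₁) eK.symm
  obtain ⟨D, hD, ⟨eD⟩⟩ := exists_kflat_rep
    ((DCoh.RSheafHom K₁).obj ((DerivedCategory.singleFunctor P.Modules 0).obj (Coh.structureModule P)))
  haveI := OX.hasLTensorCx D
  obtain ⟨τ⟩ := RightAdj20.nonempty_ltensor_dual_natIso K₁ D hK₁ (isPerfect_of_iso hK eK.symm) eD
  obtain ⟨sy⟩ := KSix19.nonempty_ltensor_symm (K₁ := D) (K₂ := W)
    (eD ≪≫ (cK.app _).symm) eM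
  exact ⟨sy ≪≫ τ.app M ≪≫ cK.symm.app M⟩

/-- A twist of a perfect complex by a locally free rank one object, dualized. -/
theorem nonempty_rhom_twist (A B W : CochainComplex P.Modules ℤ) (hW : DCoh.IsKFlat W) (hWl : LocUnit (Q.obj W))
    (hB : DCoh.IsKFlat B) [DCoh.HasLTensorCx A] [DCoh.HasRSheafHom A] [DCoh.HasLTensorCx B] [DCoh.HasRSheafHom B]
    [DCoh.HasLTensorCx W] [DCoh.HasRSheafHom W] (e : Q.obj A ≅ (DCoh.LTensorCx W).obj (Q.obj B)) :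
    Nonempty ((DCoh.RSheafHom A).obj (Q.obj W) ≅
      (DCoh.RSheafHom B).obj (DCoh.inD P (Coh.structureModule P))) := by
  let T := ((DCoh.tensorCx (X := P)).obj B).obj W
  haveI := OX.hasLTensorCx T
  obtain ⟨v⟩ := ltensorCx_value W B hB
  obtain ⟨c⟩ := nonempty_ltensorCx_congr_of_iso (e ≪≫ v : Q.obj A ≅ Q.obj T)
  let r : DCoh.RSheafHom A ≅ DCoh.RSheafHom W ⋙ DCoh.RSheafHom B :=
    ((DCoh.RSheafHomAdj A).ofNatIsoLeft (c ≪≫ (ltensorCompIso B W hW).symm)).rightAdjointUniq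
      ((DCoh.RSheafHomAdj B).comp (DCoh.RSheafHomAdj W))
  obtain ⟨s⟩ := LocUnit.nonempty_rhom_self hW hWl
  exact ⟨r.app _ ≪≫ (DCoh.RSheafHom B).mapIso s⟩

variable {S X Y : Scheme.{u}} (a : X ⟶ S) (b : Y ⟶ S)

/-- The kernel of the left adjoint, dualized on the symmetric product. -/
theorem nonempty_leftKernel_dual [QuasiCompact a] [QuasiSeparated a] [QuasiCompact b] [QuasiSeparated b]
    (K : CochainComplex (pullback a b).Modules ℤ) (hK : DCoh.IsPerfect (Q.obj K)) [DCoh.HasLTensorCx K]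
    [DCoh.HasRSheafHom K] [DCoh.HasLpull (pullback.snd a b)] [DCoh.HasLpull (pullback.fst b a)]
    (ω : DCoh.D Y) (W : CochainComplex (pullback a b).Modules ℤ) [DCoh.HasLTensorCx W]
    (eW : Q.obj W ≅ (DCoh.Lpull (pullback.snd a b)).obj ω)
    {ω' : DCoh.D (pullback b a)} (hω' : LocUnit ω') (ebc : (DCoh.Lpull (pullback.fst b a)).obj ω ≅ ω')
    [DCoh.HasLpull (pullbackSymmetry b a).hom] [DCoh.HasLpull (pullbackSymmetry a b).hom]
    (K' : CochainComplex (pullback b a).Modules ℤ) [DCoh.HasLTensorCx K'] [DCoh.HasRSheafHom K']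
    (eK' : Q.obj K' ≅ (DCoh.Lpull (pullbackSymmetry b a).hom).obj
      ((DCoh.LTensorCx W).obj ((DCoh.RSheafHom K).obj (DCoh.inD _ (Coh.structureModule (pullback a b)))))) :
    DCoh.IsPerfect (Q.obj K') ∧
    Nonempty (Q.obj K ≅ (DCoh.Lpull (pullbackSymmetry a b).hom).obj ((DCoh.RSheafHom K').obj ω')) := by
  let σ := (pullbackSymmetry b a).hom
  let σ' := (pullbackSymmetry a b).hom
  haveI := OX.hasLpull (σ ≫ pullback.snd a b)
  haveI := OX.hasLpull (σ' ≫ σ)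
  haveI := OX.hasLpull (𝟙 (pullback a b))
  haveI : DCoh.HasRpush σ := KInj.hasRightDerivedFunctor _
  obtain ⟨W₁, hW₁, ⟨eW₁⟩⟩ := exists_kflat_rep (Q.obj W)
  haveI := OX.hasLTensorCx W₁
  obtain ⟨cW⟩ := nonempty_ltensorCx_congr_of_iso eW₁
  obtain ⟨K₁, hK₁, ⟨eK⟩⟩ := exists_kflat_rep (Q.obj K)
  haveI := OX.hasLTensorCx K₁
  haveI := OX.hasRSheafHom K₁
  have hK₁p : DCoh.IsPerfect (Q.obj K₁) := isPerfect_of_iso hK eK.symm
  obtain ⟨cK⟩ := nonempty_RSheafHom_congr (E := K) (E' := K₁) eK.symm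
  obtain ⟨D, hD, _, _, hDp, ⟨-⟩, ⟨iD⟩⟩ := RightAdj20.exists_dual_pair K₁ hK₁ hK₁p
  let D₁ := (pullCxF σ).obj D
  have hD₁ : DCoh.IsKFlat D₁ := isKFlat_pullback σ hD
  haveI := OX.hasLTensorCx D₁
  haveI := OX.hasRSheafHom D₁
  obtain ⟨vD⟩ := lpull_value σ D hD
  have hD₁p : DCoh.IsPerfect (Q.obj D₁) := isPerfect_of_iso (isPerfect_lpull σ hDp) vD
  obtain ⟨D'', hD'', _, _, hD''p, ⟨i''⟩, ⟨iD''⟩⟩ := RightAdj20.exists_dual_pair D₁ hD₁ hD₁p
  obtain ⟨d⟩ := RightAdj20.nonempty_lpull_dual σ hK₁ hK₁p hD hDp iD hD'' hD''p i''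
  let W' := (pullCxF σ).obj W₁
  haveI := OX.hasLTensorCx W'
  haveI := OX.hasRSheafHom W'
  obtain ⟨lt⟩ := FMComp25.nonempty_lpull_ltensor_nat (f := σ) (P := W₁) hW₁
  obtain ⟨vW⟩ := lpull_value σ W₁ hW₁
  have h1 : σ ≫ pullback.snd a b = pullback.fst b a := pullbackSymmetry_hom_comp_snd b a
  let eW' : Q.obj W' ≅ ω' := vW.symm ≪≫ (DCoh.Lpull σ).mapIso (eW₁ ≪≫ eW) ≪≫
    (lpullCompIso σ (pullback.snd a b)).app ω ≪≫ (lpullCongr h1).app ω ≪≫ ebc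
  let eA : Q.obj K' ≅ (DCoh.LTensorCx W').obj (Q.obj D₁) := eK' ≪≫
    (DCoh.Lpull σ).mapIso (cW.symm.app _ ≪≫ (DCoh.LTensorCx W₁).mapIso (cK.app _ ≪≫ iD.symm)) ≪≫
    lt.app _ ≪≫ (DCoh.LTensorCx W').mapIso vD
  obtain ⟨r⟩ := nonempty_rhom_twist K' D₁ W' (isKFlat_pullback σ hW₁) (hω'.of_iso eW'.symm) hD₁ eA
  refine ⟨isPerfect_of_iso (isPerfect_ltensor W' (isKFlat_pullback σ hW₁)
    (hω'.of_iso eW'.symm).isPerfect hD₁p) eA.symm, ?_⟩
  have h2 : σ' ≫ σ = 𝟙 (pullback a b) := by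
    simp only [σ, σ']
    ext <;> simp
  obtain ⟨li⟩ := nonempty_lpull_id (pullback a b)
  exact ⟨((lpullCompIso σ' σ ≪≫ lpullCongr h2 ≪≫ li).app (Q.obj K)).symm ≪≫
    (DCoh.Lpull σ').mapIso ((DCoh.Lpull σ).mapIso eK.symm ≪≫ d ≪≫ iD'' ≪≫
      r.symm ≪≫ (DCoh.RSheafHom K').mapIso eW')⟩

end GrothLib.FMAdj25
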